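import Mathlib
import Cfsg.Agent.Steiner.PlaneFour

/-!
The automorphism group of the incidence graph of the plane of order four.
-/

set_option autoImplicit false
set_option maxRecDepth 20000
set_option linter.style.haveILetI false

namespace Cfsg.Lib.AutThreeFour

open Finset Cfsg Cfsg.Lib.PlaneFour
open scoped Pointwise

/-- points and lines of the model -/
abbrev Vx : Type := Pt ⊕ ↥model

/-- incidence as a symmetric relation -/
def adj : Vx → Vx → Prop
  | .inl p, .inr b => p ∈ b.1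
  | .inr b, .inl p => p ∈ b.1
  | _, _ => False

/-- automorphisms and dualities of the plane -/
def planeGroup : Subgroup (Equiv.Perm Vx) where
  carrier := {γ | ∀ x y, adj (γ x) (γ y) ↔ adj x y}
  one_mem' := fun _ _ => Iff.rfl
  mul_mem' := fun {a b} ha hb x y => (ha (b x) (b y)).trans (hb x y)
  inv_mem' := fun {a} ha x y => by
    have h := ha (a⁻¹ x) (a⁻¹ y)
    simpa using h.symm

/-- the lines of the model written out -/
def modelTab : Finset (Finset Pt) :=
  [{Sum.inl 0, Sum.inl 1, Sum.inr 0, Sum.inr 1, Sum.inr 2},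
   {Sum.inl 0, Sum.inl 2, Sum.inr 3, Sum.inr 4, Sum.inr 5},
   {Sum.inl 0, Sum.inl 3, Sum.inr 6, Sum.inr 7, Sum.inr 8},
   {Sum.inl 0, Sum.inl 4, Sum.inr 9, Sum.inr 10, Sum.inr 11},
   {Sum.inl 0, Sum.inl 5, Sum.inr 12, Sum.inr 13, Sum.inr 14},
   {Sum.inl 1, Sum.inl 2, Sum.inr 6, Sum.inr 9, Sum.inr 12},
   {Sum.inl 1, Sum.inl 3, Sum.inr 3, Sum.inr 10, Sum.inr 13},
   {Sum.inl 1, Sum.inl 4, Sum.inr 4, Sum.inr 7, Sum.inr 14},
   {Sum.inl 1, Sum.inl 5, Sum.inr 5, Sum.inr 8, Sum.inr 11},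
   {Sum.inl 2, Sum.inl 3, Sum.inr 0, Sum.inr 11, Sum.inr 14},
   {Sum.inl 2, Sum.inl 4, Sum.inr 1, Sum.inr 8, Sum.inr 13},
   {Sum.inl 2, Sum.inl 5, Sum.inr 2, Sum.inr 7, Sum.inr 10},
   {Sum.inl 3, Sum.inl 4, Sum.inr 2, Sum.inr 5, Sum.inr 12},
   {Sum.inl 3, Sum.inl 5, Sum.inr 1, Sum.inr 4, Sum.inr 9},
   {Sum.inl 4, Sum.inl 5, Sum.inr 0, Sum.inr 3, Sum.inr 6},
   {Sum.inr 0, Sum.inr 4, Sum.inr 8, Sum.inr 10, Sum.inr 12},
   {Sum.inr 0, Sum.inr 5, Sum.inr 7, Sum.inr 9, Sum.inr 13},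
   {Sum.inr 1, Sum.inr 3, Sum.inr 7, Sum.inr 11, Sum.inr 12},
   {Sum.inr 1, Sum.inr 5, Sum.inr 6, Sum.inr 10, Sum.inr 14},
   {Sum.inr 2, Sum.inr 3, Sum.inr 8, Sum.inr 9, Sum.inr 14},
   {Sum.inr 2, Sum.inr 4, Sum.inr 6, Sum.inr 11, Sum.inr 13}].toFinset

theorem model_eq : model = modelTab := by decide +kernel

theorem tab_check : (modelTab.filter fun b =>
    ¬ (b.card = 5 ∧ (b ∩ univ.image (Sum.inl : Fin 6 → Pt)).card ≤ 2)).card = 0 := by decide +kernel

theorem tab_facts {b : Finset Pt} (hb : b ∈ modelTab) :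
    b.card = 5 ∧ (b ∩ univ.image (Sum.inl : Fin 6 → Pt)).card ≤ 2 := by
  have h := filter_eq_empty_iff.1 (card_eq_zero.1 tab_check) hb
  exact not_not.1 h

theorem tab_pairs : ∀ p q : Pt, p ≠ q → (modelTab.filter fun b => p ∈ b ∧ q ∈ b).card = 1 := by decide +kernel

theorem model_facts : (∀ b ∈ model, b.card = 5) ∧
    (∀ p q : Pt, p ≠ q → (model.filter fun b => p ∈ b ∧ q ∈ b).card = 1) ∧
    (∀ b ∈ model, (b ∩ univ.image (Sum.inl : Fin 6 → Pt)).card ≤ 2) := by
  rw [model_eq]; exact ⟨fun b hb => (tab_facts hb).1, tab_pairs, fun b hb => (tab_facts hb).2⟩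

theorem model_steiner : IsSteinerSystem 2 5 (model : Set (Finset Pt)) := by
  refine ⟨fun b hb => model_facts.1 b hb, fun s hs => ?_⟩
  obtain ⟨p, q, hpq, rfl⟩ := card_eq_two.1 hs
  obtain ⟨b, hb⟩ := card_eq_one.1 (model_facts.2.1 p q hpq)
  refine ⟨b, ⟨?_, ?_⟩, fun c hc => ?_⟩
  · exact (mem_filter.1 (hb ▸ mem_singleton_self b)).1
  · have := (mem_filter.1 (hb ▸ mem_singleton_self b)).2
    simp [insert_subset_iff, this]
  · have : c ∈ model.filter fun b => p ∈ b ∧ q ∈ b :=
      mem_filter.2 ⟨hc.1, hc.2 (by simp), hc.2 (by simp)⟩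
    rw [hb, mem_singleton] at this
    exact this

theorem card_pt : Fintype.card Pt = 21 := rfl

theorem common_line (p q : Pt) : ∃ b : ↥model, p ∈ b.1 ∧ q ∈ b.1 := by
  haveI : Nontrivial Pt := ⟨⟨Sum.inl 0, Sum.inl 1, by decide⟩⟩
  obtain ⟨p', hp'⟩ : ∃ p', p' ≠ p := exists_ne p
  by_cases h : p = q
  · subst h
    obtain ⟨b, hb, hs⟩ := exists_line (α := Pt) model_steiner hp'.symm
    exact ⟨⟨b, hb⟩, hs (by simp), hs (by simp)⟩
  · obtain ⟨b, hb, hs⟩ := exists_line (α := Pt) model_steiner h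
    exact ⟨⟨b, hb⟩, hs (by simp), hs (by simp)⟩

/-- whether the sides are exchanged -/
def side (γ : Equiv.Perm Vx) : Bool := (γ (.inl (Sum.inl 0))).isRight

theorem adj_side {x y : Vx} (h : adj x y) : x.isRight = !y.isRight := by
  rcases x with x | x <;> rcases y with y | y <;> simp_all [adj]

theorem side_all {γ : Equiv.Perm Vx} (hγ : γ ∈ planeGroup) (x : Vx) :
    (γ x).isRight = xor (side γ) x.isRight := by
  have hp : ∀ p : Pt, (γ (.inl p)).isRight = side γ := by
    intro p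
    obtain ⟨b, h1, h2⟩ := common_line p (Sum.inl 0)
    have e1 := adj_side ((hγ (.inl p) (.inr b)).2 h1)
    have e2 := adj_side ((hγ (.inl (Sum.inl 0)) (.inr b)).2 h2)
    rw [side, e1, e2]
  rcases x with p | b
  · simpa using hp p
  · obtain ⟨p, hpb⟩ := Finset.card_pos.1 (show 0 < b.1.card by rw [model_facts.1 _ b.2]; norm_num)
    have e1 := adj_side ((hγ (.inr b) (.inl p)).2 hpb)
    rw [e1, hp]
    cases side γ <;> rfl

/-- the collineations -/
abbrev Coll : Type := {γ : Equiv.Perm Vx // γ ∈ planeGroup ∧ side γ = false}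

theorem side_false_inl (c : Coll) (p : Pt) : ∃ q, c.1 (.inl p) = .inl q := by
  have := side_all c.2.1 (.inl p)
  rw [c.2.2] at this
  rcases h : c.1 (.inl p) with q | b
  · exact ⟨q, rfl⟩
  · simp [h] at this

open scoped Classical in
theorem card_coll : Nat.card Coll ≤ 168 * 720 := by
  choose f hf using side_false_inl
  have finj : ∀ c, Function.Injective (f c) := fun c p q h => by
    have : c.1 (.inl p) = c.1 (.inl q) := by rw [hf, hf, h]
    simpa using c.1.injective this
  let F : Coll → Equiv.Perm Pt := fun c => Equiv.ofBijective (f c) ((Finite.injective_iff_bijective).1 (finj c))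
  have hFl : ∀ (c : Coll) (b : ↥model), ∃ b' : ↥model, c.1 (.inr b) = .inr b' ∧ b'.1 = b.1.image (F c) := by
    intro c b
    have := side_all c.2.1 (.inr b)
    rw [c.2.2] at this
    rcases h : c.1 (.inr b) with q | b'
    · simp [h] at this
    refine ⟨b', rfl, ?_⟩
    ext p
    obtain ⟨q, rfl⟩ := (F c).surjective p
    have h2 := c.2.1 (.inl q) (.inr b)
    rw [hf, h] at h2
    rw [Finset.mem_image]
    exact ⟨fun hp => ⟨q, h2.1 hp, rfl⟩, fun ⟨q', hq', e⟩ => h2.2 (((F c).injective e) ▸ hq')⟩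
  have hFaut : ∀ c, F c ∈ setSystemAut (model : Set (Finset Pt)) := by
    intro c
    rw [MulAction.mem_stabilizer_iff]
    refine Set.Finite.eq_of_subset_of_encard_le' (model.finite_toSet) ?_ ?_
    · rintro _ ⟨b, hb, rfl⟩
      obtain ⟨b', -, hb'⟩ := hFl c ⟨b, hb⟩
      show b.image (F c) ∈ model
      rw [← hb']
      exact b'.2
    · rw [← Set.image_smul, (MulAction.injective (F c)).encard_image]
  set h0 : Fin 6 → Pt := Sum.inl
  have hh0 : IsLabel (model : Set (Finset Pt)) h0 := ⟨Sum.inl_injective, fun b hb => model_facts.2.2 b hb⟩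
  let T : Type := Σ H : {H // H ∈ arcs (model : Set (Finset Pt)) 6}, (Fin 6 ↪ ↥H.1)
  have hcardT : Nat.card T = 168 * 720 := by
    rw [Nat.card_sigma, Finset.sum_const_nat (m := 720)]
    · rw [Finset.card_univ, Fintype.card_coe, card_arcs_six card_pt model_steiner]
    · intro H _
      rw [Nat.card_eq_fintype_card, Fintype.card_embedding_eq, Fintype.card_coe, (mem_arcs.1 H.2).1, Fintype.card_fin]
      rfl
  have himg : ∀ c, univ.image (fun i => F c (h0 i)) ∈ arcs (model : Set (Finset Pt)) 6 := by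
    intro c
    refine mem_arcs.2 ⟨by rw [card_image_of_injective _ (show Function.Injective (fun i => F c (h0 i)) from
      (F c).injective.comp Sum.inl_injective)]; rfl, fun l hl => ?_⟩
    have hs := MulAction.mem_stabilizer_iff.1 (hFaut c)
    rw [← hs] at hl
    obtain ⟨b, hb, rfl⟩ := hl
    show ((b.image (F c)) ∩ _).card ≤ 2
    rw [show univ.image (fun i => F c (h0 i)) = (univ.image h0).image (F c) by rw [image_image]; rfl,
      ← image_inter _ _ (F c).injective, card_image_of_injective _ (F c).injective]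
    exact hh0.2 b hb
  let g : Coll → T := fun c => ⟨⟨_, himg c⟩, ⟨fun i => ⟨F c (h0 i), mem_image_of_mem _ (mem_univ i)⟩,
    fun i j h => Sum.inl_injective ((F c).injective (congrArg Subtype.val h))⟩⟩
  rw [← hcardT]
  refine Nat.card_le_card_of_injective g fun c d h => ?_
  have hpts : ∀ i, F c (h0 i) = F d (h0 i) := fun i =>
    congrArg (fun t : T => ((t.2 i : ↥t.1.1) : Pt)) h
  have hFe : F c = F d := by
    have := line_perm_unique card_pt model_steiner hh0 (g := (F d)⁻¹ * F c)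
      (mul_mem (inv_mem (hFaut d)) (hFaut c)) (fun i => by simp [hpts i])
    exact (inv_mul_eq_one.1 this).symm
  refine Subtype.ext (Equiv.ext fun x => ?_)
  rcases x with p | b
  · rw [hf, hf]; exact congrArg _ (congrArg (fun e : Equiv.Perm Pt => e p) hFe)
  · obtain ⟨b1, e1, k1⟩ := hFl c b
    obtain ⟨b2, e2, k2⟩ := hFl d b
    rw [e1, e2, Sum.inr.injEq]
    exact Subtype.ext (by rw [k1, k2, hFe])

theorem card_planeGroup : Nat.card planeGroup ≤ 241920 := by
  classical
  by_cases hs : ∃ γ ∈ planeGroup, side γ = true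
  · obtain ⟨γ0, hγ0, h0⟩ := hs
    let f : planeGroup → Bool × Coll := fun γ =>
      if h : side γ.1 = false then (false, ⟨γ.1, γ.2, h⟩)
      else (true, ⟨γ0 * γ.1, mul_mem hγ0 γ.2, by
        rw [side, Equiv.Perm.mul_apply, side_all hγ0, h0, ← side]
        simp [eq_true_of_ne_false h]⟩)
    have hf : Function.Injective f := by
      intro a b h
      simp only [f] at h
      split_ifs at h <;> simp [Prod.ext_iff] at h <;> exact Subtype.ext (by simpa using h)
    have := Nat.card_le_card_of_injective f hf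
    rw [Nat.card_prod, Nat.card_eq_fintype_card (α := Bool), Fintype.card_bool] at this
    have := card_coll
    omega
  · push Not at hs
    exact ((Nat.card_le_card_of_injective (fun γ : planeGroup => (⟨γ.1, γ.2, by simpa using hs γ.1 γ.2⟩ : Coll))
      fun a b h => Subtype.ext (congrArg (fun c : Coll => c.1) h)).trans card_coll).trans (by norm_num)

end Cfsg.Lib.AutThreeFour
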