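import Mathlib
import Cfsg.Agent.AutThreeFour.PlaneGroup

/-!
The plane of order four attached to two elementary abelian subgroups of order sixteen meeting in a four-group.
-/

set_option autoImplicit false
set_option maxRecDepth 20000
set_option linter.style.haveILetI false

namespace Cfsg.Lib.AutThreeFour

open Subgroup Cfsg.Lib.PlaneFour

/-- the conjugate of a subgroup -/
def cj {X : Type*} [Group X] (g : X) (S : Subgroup X) : Subgroup X := S.map (MulAut.conj g).toMonoidHom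

theorem mem_cj {X : Type*} [Group X] {g x : X} {S : Subgroup X} : x ∈ cj g S ↔ g⁻¹ * x * g ∈ S := by
  constructor
  · rintro ⟨s, hs, rfl⟩
    simpa [mul_assoc] using hs
  · intro h
    exact ⟨_, h, by simp [mul_assoc]⟩

theorem cj_mul {X : Type*} [Group X] (g h : X) (S : Subgroup X) : cj (g * h) S = cj g (cj h S) := by
  ext x
  simp [mem_cj, mul_assoc]

theorem cj_one {X : Type*} [Group X] (S : Subgroup X) : cj 1 S = S := by
  ext x
  simp [mem_cj]

theorem card_cj {X : Type*} [Group X] (g : X) (S : Subgroup X) : Nat.card (cj g S) = Nat.card S :=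
  card_map_of_injective (MulAut.conj g).injective

theorem map_cj {X : Type*} [Group X] (e : MulAut X) (g : X) (S : Subgroup X) :
    (cj g S).map e.toMonoidHom = cj (e g) (S.map e.toMonoidHom) := by
  ext x
  constructor
  · rintro ⟨y, hy, rfl⟩
    rw [SetLike.mem_coe, mem_cj] at hy
    rw [mem_cj]
    exact ⟨_, hy, by simp⟩
  · intro h
    rw [mem_cj] at h
    obtain ⟨s, hs, he⟩ := h
    refine ⟨g * s * g⁻¹, ?_, ?_⟩
    · rw [SetLike.mem_coe, mem_cj]; simpa [mul_assoc] using hs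
    · have he' : e s = (e g)⁻¹ * x * e g := he
      simp [he', mul_assoc]

/-- the members of a family partitioning the involutions are counted -/
theorem card_family {X : Type*} [Group X] [Finite X] (P : Subgroup X → Prop)
    (h16 : ∀ T, P T → Nat.card T = 16) (h2 : ∀ T, P T → ∀ s ∈ T, s * s = 1)
    (hex : ∀ x : X, x * x = 1 → x ≠ 1 → ∃ T, P T ∧ x ∈ T)
    (huniq : ∀ T T', P T → P T' → ∀ x, x ∈ T → x ∈ T' → x ≠ 1 → T = T') :
    Nat.card {T : Subgroup X // P T} * 15 = Nat.card {x : X // x * x = 1 ∧ x ≠ 1} := by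
  classical
  letI := Fintype.ofFinite {T : Subgroup X // P T}
  let e : (Σ T : {T : Subgroup X // P T}, {x : T.1 // x ≠ 1}) ≃ {x : X // x * x = 1 ∧ x ≠ 1} :=
    Equiv.ofBijective (fun s => ⟨s.2.1.1, h2 _ s.1.2 _ s.2.1.2, fun h => s.2.2 (Subtype.ext h)⟩) ⟨by
      rintro ⟨⟨T, hT⟩, ⟨⟨x, hx⟩, hx1⟩⟩ ⟨⟨T', hT'⟩, ⟨⟨y, hy⟩, hy1⟩⟩ h
      obtain rfl : x = y := congrArg Subtype.val h
      obtain rfl := huniq T T' hT hT' x hx hy fun h1 => hx1 (Subtype.ext h1)
      rfl, fun x => by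
      obtain ⟨T, hT, hx⟩ := hex x.1 x.2.1 x.2.2
      exact ⟨⟨⟨T, hT⟩, ⟨⟨x.1, hx⟩, fun h => x.2.2 (congrArg Subtype.val h)⟩⟩, rfl⟩⟩
  rw [← Nat.card_congr e, Nat.card_sigma, Finset.sum_const_nat (m := 15), Finset.card_univ,
    ← Nat.card_eq_fintype_card]
  intro T _
  haveI := Fintype.ofFinite T.1
  rw [Nat.card_eq_fintype_card, Fintype.card_subtype_compl, Fintype.card_subtype_eq, ← Nat.card_eq_fintype_card,
    h16 _ T.2]

/-- two elementary abelian subgroups of order sixteen with the properties of the two radicals -/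
structure PairData (X : Type*) [Group X] where
  /-- the first subgroup -/
  A : Subgroup X
  /-- the second subgroup -/
  B : Subgroup X
  /-- the common involution -/
  z : X
  zA : z ∈ A
  zB : z ∈ B
  zne : z ≠ 1
  A_sq : ∀ a ∈ A, a * a = 1
  B_sq : ∀ b ∈ B, b * b = 1
  card_A : Nat.card A = 16
  card_B : Nat.card B = 16
  all_conj : ∀ x : X, x * x = 1 → x ≠ 1 → ∃ g, g * z * g⁻¹ = x
  mem_cases : ∀ x : X, x * x = 1 → x * z = z * x → x ∈ A ∨ x ∈ B
  not_cj : ∀ g : X, cj g A ≠ B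
  card_inter : Nat.card (A ⊓ B : Subgroup X) = 4
  comm : ∀ a ∈ A, ∀ b ∈ B, a ∉ B → b ∉ A → a * b ≠ b * a ∧ a * b * a⁻¹ * b⁻¹ ∈ A ∧ a * b * a⁻¹ * b⁻¹ ∈ B
  card_invol : Nat.card {x : X // x * x = 1 ∧ x ≠ 1} = 315
  self_cent : centralizer (A : Set X) ≤ A

theorem inv_of_sq {X : Type*} [Group X] {x : X} (h : x * x = 1) : x⁻¹ = x := inv_eq_of_mul_eq_one_right h

theorem comm_of_sq {X : Type*} [Group X] {S : Subgroup X} (h : ∀ s ∈ S, s * s = 1) {a b : X} (ha : a ∈ S)
    (hb : b ∈ S) : a * b = b * a := by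
  have := inv_of_sq (h _ (S.mul_mem ha hb))
  rw [mul_inv_rev, inv_of_sq (h a ha), inv_of_sq (h b hb)] at this
  exact this.symm

namespace PairData

variable {X : Type*} [Group X] [Finite X] (D : PairData X)

/-- a point -/
abbrev Point : Type _ := {T : Subgroup X // ∃ g, cj g D.A = T}
/-- a line -/
abbrev Line : Type _ := {T : Subgroup X // ∃ g, cj g D.B = T}

theorem sub_cases (S : Subgroup X) (h2 : ∀ s ∈ S, s * s = 1) (h16 : Nat.card S = 16) (hz : D.z ∈ S) :
    S = D.A ∨ S = D.B := by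
  have key : ∀ s ∈ S, s ∈ D.A ∨ s ∈ D.B := fun s hs => D.mem_cases s (h2 s hs) (comm_of_sq h2 hs hz)
  have : S ≤ D.A ∨ S ≤ D.B := by
    by_contra hne
    rw [not_or, SetLike.not_le_iff_exists, SetLike.not_le_iff_exists] at hne
    obtain ⟨⟨a, ha, ha'⟩, b, hb, hb'⟩ := hne
    rcases key _ (S.mul_mem ha hb) with h | h
    · exact ha' ((mul_mem_cancel_right ((key b hb).resolve_right hb')).1 h)
    · exact hb' ((mul_mem_cancel_left ((key a ha).resolve_left ha')).1 h)
  exact this.imp (fun h => eq_of_le_of_card_ge h (by rw [h16, D.card_A]))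
    fun h => eq_of_le_of_card_ge h (by rw [h16, D.card_B])

omit [Finite X] in
theorem cj_sq {S : Subgroup X} (h : ∀ s ∈ S, s * s = 1) (g : X) : ∀ s ∈ cj g S, s * s = 1 := by
  rintro _ ⟨s, hs, rfl⟩
  rw [← map_mul, h s hs, map_one]

theorem point_sq (p : D.Point) : ∀ s ∈ p.1, s * s = 1 := by
  obtain ⟨g, hg⟩ := p.2
  rw [← hg]; exact cj_sq D.A_sq g

theorem card_point (p : D.Point) : Nat.card p.1 = 16 := by
  obtain ⟨g, hg⟩ := p.2
  rw [← hg, card_cj, D.card_A]

theorem line_sq (l : D.Line) : ∀ s ∈ l.1, s * s = 1 := by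
  obtain ⟨g, hg⟩ := l.2
  rw [← hg]; exact cj_sq D.B_sq g

theorem card_line (l : D.Line) : Nat.card l.1 = 16 := by
  obtain ⟨g, hg⟩ := l.2
  rw [← hg, card_cj, D.card_B]

theorem member_cases (S : Subgroup X) (h2 : ∀ s ∈ S, s * s = 1) (h16 : Nat.card S = 16) {g x : X}
    (hg : g * D.z * g⁻¹ = x) (hx : x ∈ S) : S = cj g D.A ∨ S = cj g D.B := by
  have h := D.sub_cases (cj g⁻¹ S) (cj_sq h2 _) (by rw [card_cj, h16])
    (mem_cj.2 (by rw [inv_inv, hg]; exact hx))
  rcases h with h | h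
  · exact Or.inl (by rw [← h, ← cj_mul, mul_inv_cancel, cj_one])
  · exact Or.inr (by rw [← h, ← cj_mul, mul_inv_cancel, cj_one])

omit [Finite X] in
theorem disjoint_kinds (g h : X) : cj g D.A ≠ cj h D.B := fun e => D.not_cj (h⁻¹ * g) (by
  rw [cj_mul, e, ← cj_mul, inv_mul_cancel, cj_one])

theorem point_of_mem (p : D.Point) {g x : X} (hg : g * D.z * g⁻¹ = x) (hx : x ∈ p.1) : p.1 = cj g D.A := by
  refine (D.member_cases p.1 (D.point_sq p) (D.card_point p) hg hx).resolve_right fun h => ?_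
  obtain ⟨g', hg'⟩ := p.2
  exact D.disjoint_kinds g' g (hg'.trans h)

theorem line_of_mem (l : D.Line) {g x : X} (hg : g * D.z * g⁻¹ = x) (hx : x ∈ l.1) : l.1 = cj g D.B := by
  refine (D.member_cases l.1 (D.line_sq l) (D.card_line l) hg hx).resolve_left fun h => ?_
  obtain ⟨g', hg'⟩ := l.2
  exact D.disjoint_kinds g g' (hg'.trans h).symm

theorem point_eq {p p' : D.Point} {x : X} (hx : x ∈ p.1) (hx' : x ∈ p'.1) (h1 : x ≠ 1) : p = p' := by
  obtain ⟨g, hg⟩ := D.all_conj x (D.point_sq p x hx) h1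
  exact Subtype.ext ((D.point_of_mem p hg hx).trans (D.point_of_mem p' hg hx').symm)

theorem line_eq {l l' : D.Line} {x : X} (hx : x ∈ l.1) (hx' : x ∈ l'.1) (h1 : x ≠ 1) : l = l' := by
  obtain ⟨g, hg⟩ := D.all_conj x (D.line_sq l x hx) h1
  exact Subtype.ext ((D.line_of_mem l hg hx).trans (D.line_of_mem l' hg hx').symm)

omit [Finite X] in
theorem exists_line_mem {x : X} (h2 : x * x = 1) (h1 : x ≠ 1) : ∃ l : D.Line, x ∈ l.1 := by
  obtain ⟨g, rfl⟩ := D.all_conj x h2 h1
  exact ⟨⟨cj g D.B, g, rfl⟩, _, D.zB, rfl⟩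

omit [Finite X] in
theorem exists_point_mem {x : X} (h2 : x * x = 1) (h1 : x ≠ 1) : ∃ p : D.Point, x ∈ p.1 := by
  obtain ⟨g, rfl⟩ := D.all_conj x h2 h1
  exact ⟨⟨cj g D.A, g, rfl⟩, _, D.zA, rfl⟩

/-- incidence -/
def Inc (p : D.Point) (l : D.Line) : Prop := ∃ x, x ≠ 1 ∧ x ∈ p.1 ∧ x ∈ l.1

theorem inc_frame {p : D.Point} {l : D.Line} (h : D.Inc p l) : ∃ g, p.1 = cj g D.A ∧ l.1 = cj g D.B := by
  obtain ⟨x, h1, hp, hl⟩ := h
  obtain ⟨g, hg⟩ := D.all_conj x (D.point_sq p x hp) h1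
  exact ⟨g, D.point_of_mem p hg hp, D.line_of_mem l hg hl⟩

theorem inc_card {p : D.Point} {l : D.Line} (h : D.Inc p l) : Nat.card (p.1 ⊓ l.1 : Subgroup X) = 4 := by
  obtain ⟨g, e1, e2⟩ := D.inc_frame h
  rw [e1, e2, ← D.card_inter, cj, cj, ← map_inf _ _ _ (MulAut.conj g).injective,
    card_map_of_injective (MulAut.conj g).injective]

theorem inc_comm {p : D.Point} {l : D.Line} (h : D.Inc p l) {a b : X} (ha : a ∈ p.1) (hb : b ∈ l.1) (ha' : a ∉ l.1)
    (hb' : b ∉ p.1) : a * b ≠ b * a ∧ a * b * a⁻¹ * b⁻¹ ∈ p.1 ∧ a * b * a⁻¹ * b⁻¹ ∈ l.1 := by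
  obtain ⟨g, e1, e2⟩ := D.inc_frame h
  rw [e1] at ha hb' ⊢
  rw [e2] at hb ha' ⊢
  rw [mem_cj] at ha hb ha' hb'
  obtain ⟨hne, h1, h2⟩ := D.comm _ ha _ hb ha' hb'
  refine ⟨fun e => hne ?_, ?_, ?_⟩
  · simp only [mul_assoc, mul_inv_cancel_left]
    rw [← mul_assoc a b, e, mul_assoc]
  · rw [mem_cj]; convert h1 using 1; group
  · rw [mem_cj]; convert h2 using 1; group

/-- no quadrangle -/
theorem two_points {p p' : D.Point} {l l' : D.Line} (h1 : D.Inc p l) (h2 : D.Inc p l') (h3 : D.Inc p' l)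
    (h4 : D.Inc p' l') (hl : l ≠ l') : p = p' := by
  by_contra hp
  obtain ⟨a, a1, ap, al'⟩ := h2
  obtain ⟨b, b1, bp', bl⟩ := h3
  have hal : a ∉ l.1 := fun h => hl (D.line_eq h al' a1)
  have hbp : b ∉ p.1 := fun h => hp (D.point_eq h bp' b1)
  obtain ⟨hne, hcp, -⟩ := D.inc_comm h1 ap bl hal hbp
  have hbl' : b ∉ l'.1 := fun h => hl (D.line_eq bl h b1)
  have hap' : a ∉ p'.1 := fun h => hp (D.point_eq ap h a1)
  obtain ⟨-, hcp', -⟩ := D.inc_comm h4 bp' al' hbl' hap'
  have hcp2 : a * b * a⁻¹ * b⁻¹ ∈ p'.1 := by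
    have := p'.1.inv_mem hcp'
    simpa [mul_assoc] using this
  have hc1 : a * b * a⁻¹ * b⁻¹ ≠ 1 := fun h => hne (by
    rw [mul_inv_eq_one, mul_inv_eq_iff_eq_mul] at h
    exact h)
  exact hp (D.point_eq hcp hcp2 hc1)

theorem card_points : Nat.card D.Point = 21 := by
  have h := card_family (fun T => ∃ g, cj g D.A = T) (fun T hT => D.card_point ⟨T, hT⟩)
    (fun T hT => D.point_sq ⟨T, hT⟩) (fun x h2 h1 => by
      obtain ⟨⟨T, hT⟩, hx⟩ := D.exists_point_mem h2 h1
      exact ⟨T, hT, hx⟩)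
    (fun T T' hT hT' x hx hx' h1 => congrArg Subtype.val (D.point_eq (p := ⟨T, hT⟩) (p' := ⟨T', hT'⟩) hx hx' h1))
  rw [D.card_invol] at h
  show Nat.card {T : Subgroup X // ∃ g, cj g D.A = T} = 21
  omega

theorem card_lines : Nat.card D.Line = 21 := by
  have h := card_family (fun T => ∃ g, cj g D.B = T) (fun T hT => D.card_line ⟨T, hT⟩)
    (fun T hT => D.line_sq ⟨T, hT⟩) (fun x h2 h1 => by
      obtain ⟨⟨T, hT⟩, hx⟩ := D.exists_line_mem h2 h1
      exact ⟨T, hT, hx⟩)
    (fun T T' hT hT' x hx hx' h1 => congrArg Subtype.val (D.line_eq (l := ⟨T, hT⟩) (l' := ⟨T', hT'⟩) hx hx' h1))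
  rw [D.card_invol] at h
  show Nat.card {T : Subgroup X // ∃ g, cj g D.B = T} = 21
  omega

open scoped Classical in
theorem card_through (l : D.Line) [Fintype D.Point] :
    ((Finset.univ : Finset D.Point).filter fun p => D.Inc p l).card = 5 := by
  haveI : Fintype X := Fintype.ofFinite X
  set T : Finset X := Finset.univ.filter fun x => x ∈ l.1 ∧ x ≠ 1 with hT
  have hT15 : T.card = 15 := by
    have h := D.card_line l
    rw [Nat.card_eq_fintype_card, Fintype.card_subtype] at h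
    have hT' : T = (Finset.univ.filter fun x => x ∈ l.1).erase 1 := by ext x; simp [hT, and_comm]
    rw [hT', Finset.card_erase_of_mem (by simp), h]
  have hsplit : T = ((Finset.univ : Finset D.Point).filter fun p => D.Inc p l).biUnion
      fun p => T.filter fun x => x ∈ p.1 := by
    ext x
    simp only [Finset.mem_biUnion, Finset.mem_filter, Finset.mem_univ, true_and]
    refine ⟨fun hx => ?_, fun ⟨p, _, hx, _⟩ => hx⟩
    obtain ⟨-, hxl, hx1⟩ := Finset.mem_filter.1 hx
    obtain ⟨p, hp⟩ := D.exists_point_mem (D.line_sq l x hxl) hx1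
    exact ⟨p, ⟨x, hx1, hp, hxl⟩, hx, hp⟩
  have hcard := congrArg Finset.card hsplit
  rw [hT15, Finset.card_biUnion, Finset.sum_const_nat (m := 3)] at hcard
  · omega
  · intro p hp
    rw [Finset.mem_filter] at hp
    have h := D.inc_card hp.2
    rw [Nat.card_eq_fintype_card, Fintype.card_subtype] at h
    have e : T.filter (fun x => x ∈ p.1) = (Finset.univ.filter fun x => x ∈ (p.1 ⊓ l.1 : Subgroup X)).erase 1 := by
      ext x; simp [hT, mem_inf, and_comm, and_left_comm, and_assoc]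
    rw [e, Finset.card_erase_of_mem (by simp [one_mem]), h]
  · intro p _ p' _ hne
    simp only [Function.onFun, Finset.disjoint_left, Finset.mem_filter, hT]
    rintro x ⟨⟨-, -, hx1⟩, hxp⟩ ⟨-, hxp'⟩
    exact hne (D.point_eq hxp hxp' hx1)

/-- the members: points and lines -/
abbrev Member : Type _ := {T : Subgroup X // (∃ g, cj g D.A = T) ∨ ∃ g, cj g D.B = T}

/-- points and lines as members -/
def memberEquiv : D.Point ⊕ D.Line → D.Member := Sum.elim (fun p => ⟨p.1, Or.inl p.2⟩) (fun l => ⟨l.1, Or.inr l.2⟩)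

omit [Finite X] in
theorem memberEquiv_bij : Function.Bijective D.memberEquiv := by
  constructor
  · rintro (⟨p, g, hp⟩ | ⟨p, g, hp⟩) (⟨q, h, hq⟩ | ⟨q, h, hq⟩) e
    all_goals have e' : p = q := congrArg Subtype.val e
    · subst e'; rfl
    · exact absurd (hp.trans (e'.trans hq.symm)) (D.disjoint_kinds g h)
    · exact absurd (hq.trans (e'.symm.trans hp.symm)) (D.disjoint_kinds h g)
    · subst e'; rfl
  · rintro ⟨T, h | h⟩
    · exact ⟨Sum.inl ⟨T, h⟩, rfl⟩
    · exact ⟨Sum.inr ⟨T, h⟩, rfl⟩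

/-- adjacency of members -/
def Adj (S T : D.Member) : Prop := S ≠ T ∧ ∃ x, x ≠ 1 ∧ x ∈ S.1 ∧ x ∈ T.1

open scoped Classical in
theorem exists_model : ∃ Ψ : Vx ≃ D.Member, ∀ x y, D.Adj (Ψ x) (Ψ y) ↔ adj x y := by
  letI : Fintype D.Point := Fintype.ofFinite _
  letI : Fintype D.Line := Fintype.ofFinite _
  have hP : Fintype.card D.Point = 21 := by rw [← Nat.card_eq_fintype_card]; exact D.card_points
  have hLc : Fintype.card D.Line = 21 := by rw [← Nat.card_eq_fintype_card]; exact D.card_lines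
  let blk : D.Line → Finset D.Point := fun l => Finset.univ.filter fun p => D.Inc p l
  have hblk : ∀ l, (blk l).card = 5 := fun l => D.card_through l
  have hmem : ∀ {p l}, p ∈ blk l ↔ D.Inc p l := fun {p l} => by simp [blk]
  have two : ∀ {l l' : D.Line} {p p' : D.Point}, p ≠ p' → p ∈ blk l → p' ∈ blk l → p ∈ blk l' → p' ∈ blk l' → l = l' := by
    intro l l' p p' hp a b c d
    by_contra hl
    exact hp (D.two_points (hmem.1 a) (hmem.1 c) (hmem.1 b) (hmem.1 d) hl)
  have blk_inj : Function.Injective blk := fun l l' h => by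
    obtain ⟨p, hp, p', hp', hne⟩ := Finset.one_lt_card.1 (show 1 < (blk l).card by rw [hblk]; norm_num)
    exact two hne hp hp' (h ▸ hp) (h ▸ hp')
  have hpairs : (Finset.univ : Finset D.Line).biUnion (fun l => (blk l).powersetCard 2) =
      (Finset.univ : Finset D.Point).powersetCard 2 := by
    refine Finset.eq_of_subset_of_card_le ?_ ?_
    · intro s hs
      obtain ⟨l, -, hs⟩ := Finset.mem_biUnion.1 hs
      exact Finset.mem_powersetCard.2 ⟨Finset.subset_univ _, (Finset.mem_powersetCard.1 hs).2⟩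
    · rw [Finset.card_biUnion, Finset.card_powersetCard, Finset.card_univ, hP]
      · rw [Finset.sum_congr rfl (fun l _ => by rw [Finset.card_powersetCard, hblk]), Finset.sum_const,
          Finset.card_univ, hLc]
        rfl
      · intro l _ l' _ hne
        simp only [Function.onFun, Finset.disjoint_left, Finset.mem_powersetCard]
        rintro s ⟨hs, h2⟩ ⟨hs', -⟩
        obtain ⟨p, p', hpp, rfl⟩ := Finset.card_eq_two.1 h2
        exact hne (two hpp (hs (by simp)) (hs (by simp)) (hs' (by simp)) (hs' (by simp)))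
  have hS : Cfsg.IsSteinerSystem 2 5 (Set.range blk) := by
    refine ⟨fun b ⟨l, hl⟩ => hl ▸ hblk l, fun s hs => ?_⟩
    have : s ∈ (Finset.univ : Finset D.Line).biUnion (fun l => (blk l).powersetCard 2) := by
      rw [hpairs]; exact Finset.mem_powersetCard.2 ⟨Finset.subset_univ _, hs⟩
    obtain ⟨l, -, hl⟩ := Finset.mem_biUnion.1 this
    refine ⟨blk l, ⟨⟨l, rfl⟩, (Finset.mem_powersetCard.1 hl).1⟩, ?_⟩
    rintro _ ⟨⟨l', rfl⟩, hs'⟩
    obtain ⟨p, p', hpp, rfl⟩ := Finset.card_eq_two.1 hs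
    have hl' := (Finset.mem_powersetCard.1 hl).1
    exact congrArg blk (two hpp (hs' (by simp)) (hs' (by simp)) (hl' (by simp)) (hl' (by simp)))
  obtain ⟨h, hh⟩ := exists_label hP hS
  obtain ⟨Φ, -, himg⟩ := exists_iso hP hS hh
  have hpre : ∀ b : ↥model, ∃ l, blk l = b.1.image Φ := fun b => by
    have : b.1.image Φ ∈ Set.range blk := himg ▸ ⟨b.1, b.2, rfl⟩
    exact this
  choose f hf using hpre
  have finj : Function.Injective f := fun b b' e => Subtype.ext (Finset.image_injective Φ.injective (by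
    show b.1.image Φ = b'.1.image Φ
    rw [← hf, ← hf, e]))
  have fsurj : Function.Surjective f := fun l => by
    obtain ⟨b, hb, e⟩ : blk l ∈ (fun b : Finset Pt => b.image Φ) '' (model : Set (Finset Pt)) := himg ▸ ⟨l, rfl⟩
    exact ⟨⟨b, hb⟩, blk_inj ((hf _).trans e)⟩
  let Ψ : Vx ≃ D.Member :=
    (Equiv.sumCongr Φ (Equiv.ofBijective f ⟨finj, fsurj⟩)).trans (Equiv.ofBijective _ D.memberEquiv_bij)
  refine ⟨Ψ, ?_⟩
  have hinc : ∀ p b, D.Inc (Φ p) (f b) ↔ p ∈ b.1 := fun p b => by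
    rw [← hmem, hf, Finset.mem_image]
    exact ⟨fun ⟨q, hq, e⟩ => Φ.injective e ▸ hq, fun hp => ⟨p, hp, rfl⟩⟩
  have hneq : ∀ (p : D.Point) (l : D.Line), D.memberEquiv (Sum.inl p) ≠ D.memberEquiv (Sum.inr l) := fun p l e =>
    Sum.inl_ne_inr (D.memberEquiv_bij.1 e)
  rintro (p | b) (q | c)
  · refine iff_of_false ?_ id
    rintro ⟨hne, x, hx1, hx, hx'⟩
    exact hne (congrArg (fun p : D.Point => D.memberEquiv (Sum.inl p)) (D.point_eq (p := Φ p) (p' := Φ q) hx hx' hx1))
  · exact ⟨fun ⟨_, hx⟩ => (hinc p c).1 hx, fun h => ⟨hneq _ _, (hinc p c).2 h⟩⟩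
  · refine ⟨fun ⟨_, x, hx1, hx, hx'⟩ => (hinc q b).1 ⟨x, hx1, hx', hx⟩, fun h => ?_⟩
    obtain ⟨x, hx1, hx, hx'⟩ := (hinc q b).2 h
    exact ⟨(hneq _ _).symm, x, hx1, hx', hx⟩
  · refine iff_of_false ?_ id
    rintro ⟨hne, x, hx1, hx, hx'⟩
    exact hne (congrArg (fun l : D.Line => D.memberEquiv (Sum.inr l)) (D.line_eq (l := f b) (l' := f c) hx hx' hx1))

theorem map_member (e : MulAut X) (T : D.Member) :
    (∃ g, cj g D.A = T.1.map e.toMonoidHom) ∨ ∃ g, cj g D.B = T.1.map e.toMonoidHom := by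
  have base : ∀ S : Subgroup X, (∀ s ∈ S, s * s = 1) → Nat.card S = 16 →
      (∃ g, cj g D.A = S) ∨ ∃ g, cj g D.B = S := by
    intro S h2 h16
    haveI : Nontrivial S := Finite.one_lt_card_iff_nontrivial.1 (by rw [h16]; norm_num)
    obtain ⟨⟨x, hx⟩, hx1⟩ := exists_ne (1 : S)
    obtain ⟨g, hg⟩ := D.all_conj x (h2 x hx) fun h => hx1 (Subtype.ext h)
    exact (D.member_cases S h2 h16 hg hx).imp (fun h => ⟨g, h.symm⟩) fun h => ⟨g, h.symm⟩
  refine base _ ?_ ?_
  · rintro _ ⟨s, hs, rfl⟩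
    rw [← map_mul]
    rcases T.2 with ⟨g, hg⟩ | ⟨g, hg⟩ <;> rw [← hg] at hs
    · rw [cj_sq D.A_sq g s hs, map_one]
    · rw [cj_sq D.B_sq g s hs, map_one]
  · rw [card_map_of_injective e.injective]
    rcases T.2 with ⟨g, hg⟩ | ⟨g, hg⟩ <;> rw [← hg, card_cj]
    exacts [D.card_A, D.card_B]

/-- the action on members -/
noncomputable def actMember : MulAut X →* Equiv.Perm D.Member where
  toFun e :=
    { toFun := fun T => ⟨T.1.map e.toMonoidHom, D.map_member e T⟩
      invFun := fun T => ⟨T.1.map e.symm.toMonoidHom, D.map_member e.symm T⟩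
      left_inv := fun T => Subtype.ext (by
        show (T.1.map e.toMonoidHom).map e.symm.toMonoidHom = T.1
        rw [Subgroup.map_map]
        convert Subgroup.map_id T.1
        ext x; simp)
      right_inv := fun T => Subtype.ext (by
        show (T.1.map e.symm.toMonoidHom).map e.toMonoidHom = T.1
        rw [Subgroup.map_map]
        convert Subgroup.map_id T.1
        ext x; simp) }
  map_one' := Equiv.ext fun T => Subtype.ext (Subgroup.map_id T.1)
  map_mul' := fun e e' => Equiv.ext fun T => Subtype.ext (by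
    show T.1.map (e * e').toMonoidHom = (T.1.map e'.toMonoidHom).map e.toMonoidHom
    rw [Subgroup.map_map]; rfl)

theorem fix_trivial {d : X} (hd : ∀ T : D.Member, cj d T.1 = T.1) : d = 1 := by
  -- no involution of the first subgroup fixes all members
  have noA : ∀ i ∈ D.A, (∀ T : D.Member, cj i T.1 = T.1) → i = 1 := by
    intro i hi hfix
    by_contra hi1
    have hii := D.A_sq i hi
    obtain ⟨li, hli⟩ := D.exists_line_mem hii hi1
    classical
    letI : Fintype D.Point := Fintype.ofFinite _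
    have hsub : (Finset.univ : Finset D.Point).erase ⟨D.A, 1, cj_one _⟩ ⊆
        Finset.univ.filter fun p => D.Inc p li := by
      intro p hp
      have hpA : p ≠ ⟨D.A, 1, cj_one _⟩ := (Finset.mem_erase.1 hp).1
      have hfp := hfix ⟨p.1, Or.inl p.2⟩
      have hcl : ∀ x ∈ p.1, i * x * i⁻¹ ∈ p.1 := fun x hx => by
        rw [← hfp, mem_cj]; simpa [mul_assoc] using hx
      haveI : Nontrivial p.1 := Finite.one_lt_card_iff_nontrivial.1 (by rw [D.card_point p]; norm_num)
      obtain ⟨⟨x, hx⟩, hx1⟩ := exists_ne (1 : p.1)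
      obtain ⟨j, hj, hj1, hji⟩ : ∃ j ∈ p.1, j ≠ 1 ∧ i * j = j * i := by
        by_cases h : x * (i * x * i⁻¹) = 1
        · refine ⟨x, hx, fun h1 => hx1 (Subtype.ext h1), ?_⟩
          have h' := (inv_eq_of_mul_eq_one_right h).symm
          rwa [inv_of_sq (D.point_sq p x hx), mul_inv_eq_iff_eq_mul] at h'
        · refine ⟨_, p.1.mul_mem hx (hcl x hx), h, ?_⟩
          have hc := comm_of_sq (D.point_sq p) hx (hcl x hx)
          calc i * (x * (i * x * i⁻¹)) = (i * x * i⁻¹) * ((i * i) * x * i⁻¹) := by group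
            _ = (i * x * i⁻¹) * x * i := by rw [hii, one_mul, inv_of_sq hii]; group
            _ = _ := by rw [← hc]
      obtain ⟨g, hg⟩ := D.all_conj j (D.point_sq p j hj) hj1
      have hm := D.mem_cases (g⁻¹ * i * g) (by
        calc g⁻¹ * i * g * (g⁻¹ * i * g) = g⁻¹ * (i * i) * g := by group
          _ = 1 := by rw [hii, mul_one, inv_mul_cancel]) (by
        calc g⁻¹ * i * g * D.z = g⁻¹ * (i * (g * D.z * g⁻¹)) * g := by group
          _ = g⁻¹ * ((g * D.z * g⁻¹) * i) * g := by rw [hg, hji]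
          _ = _ := by group)
      rcases hm with h | h
      · have hip : i ∈ p.1 := by rw [D.point_of_mem p hg hj, mem_cj]; exact h
        exact absurd (D.point_eq (p' := ⟨D.A, 1, cj_one _⟩) hip hi hi1) hpA
      · have hl : li = ⟨cj g D.B, g, rfl⟩ := D.line_eq hli (mem_cj.2 h) hi1
        refine Finset.mem_filter.2 ⟨Finset.mem_univ _, j, hj1, hj, ?_⟩
        rw [hl]
        exact ⟨D.z, D.zB, hg⟩
    have := Finset.card_le_card hsub
    rw [D.card_through li, Finset.card_erase_of_mem (Finset.mem_univ _), Finset.card_univ,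
      ← Nat.card_eq_fintype_card, D.card_points] at this
    omega
  have hmem : d ∈ D.A := D.self_cent (mem_centralizer_iff.2 fun a ha => by
    have hA : cj d D.A = D.A := hd ⟨D.A, Or.inl ⟨1, cj_one _⟩⟩
    have h1 : d * a * d⁻¹ * a⁻¹ ∈ D.A :=
      D.A.mul_mem (by rw [← hA]; exact ⟨a, ha, rfl⟩) (D.A.inv_mem ha)
    have h2 : ∀ T : D.Member, cj (d * a * d⁻¹ * a⁻¹) T.1 = T.1 := by
      intro T
      have hdi : ∀ U : D.Member, cj d⁻¹ U.1 = U.1 := fun U => by
        conv_lhs => rw [← hd U]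
        rw [← cj_mul, inv_mul_cancel, cj_one]
      have hmap := D.map_member (MulAut.conj a⁻¹) T
      have e := hdi ⟨cj a⁻¹ T.1, hmap⟩
      rw [show d * a * d⁻¹ * a⁻¹ = d * (a * (d⁻¹ * a⁻¹)) by group, cj_mul, cj_mul, cj_mul, e, ← cj_mul a,
        mul_inv_cancel, cj_one, hd T]
    have := noA _ h1 h2
    rw [mul_inv_eq_one, mul_inv_eq_iff_eq_mul] at this
    exact this.symm)
  exact noA d hmem hd

theorem actMember_injective : Function.Injective D.actMember := by
  rw [injective_iff_map_eq_one]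
  intro e he
  have hfix : ∀ T : D.Member, T.1.map e.toMonoidHom = T.1 := fun T =>
    congrArg Subtype.val (Equiv.congr_fun he T)
  refine MulEquiv.ext fun g => ?_
  have : g⁻¹ * e g = 1 := D.fix_trivial fun T => by
    have hU := D.map_member (MulAut.conj g) T
    have h1 : (cj g T.1).map e.toMonoidHom = cj g T.1 := hfix ⟨cj g T.1, hU⟩
    rw [map_cj, hfix T] at h1
    rw [cj_mul, h1, ← cj_mul, inv_mul_cancel, cj_one]
  exact (inv_mul_eq_one.1 this).symm

include D in
/-- The automorphism group embeds in the group of the plane. -/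
theorem exists_embedding : ∃ f : MulAut X →* planeGroup, Function.Injective f := by
  obtain ⟨Ψ, hΨ⟩ := D.exists_model
  have hmem : ∀ e : MulAut X, Ψ.symm.permCongr (D.actMember e) ∈ planeGroup := by
    intro e x y
    rw [← hΨ, ← hΨ, Equiv.permCongr_apply, Equiv.permCongr_apply]
    simp only [Equiv.symm_symm, Equiv.apply_symm_apply]
    refine and_congr (D.actMember e).injective.ne_iff ?_
    constructor
    · rintro ⟨_, h1, ⟨x', hx, rfl⟩, ⟨x'', hy, he⟩⟩
      exact ⟨x', fun h => h1 (by simp [h]), hx, e.injective he ▸ hy⟩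
    · rintro ⟨x', h1, hx, hy⟩
      exact ⟨e x', fun h => h1 (e.injective (h.trans (map_one e).symm)), ⟨x', hx, rfl⟩, ⟨x', hy, rfl⟩⟩
  refine ⟨((Ψ.symm.permCongrHom.toMonoidHom.comp D.actMember).codRestrict planeGroup hmem), fun a b h => ?_⟩
  exact D.actMember_injective (Ψ.symm.permCongrHom.injective (congrArg Subtype.val h))

end PairData

end Cfsg.Lib.AutThreeFour
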