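import Mathlib
import Cfsg.Agent.LThreeFour.Parabolic
import Cfsg.Agent.Classical.Misc.PSLThreeFour
import Cfsg.Agent.AutThreeFour.Incidence

/-!
The plane inside the projective special linear group.
-/

set_option autoImplicit false
set_option maxRecDepth 20000
set_option linter.style.haveILetI false

namespace Cfsg.Lib.AutThreeFour

open Subgroup Matrix Cfsg.Lib.LThreeFourPar

variable {F : Type*} [Field F]

local notation "G3" => SpecialLinearGroup (Fin 3) F
local notation "Q3" => ProjectiveSpecialLinearGroup (Fin 3) F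

/-- the standard involution -/
def zP : Q3 := proj (uel 0 1 0)

theorem uel_zero : uel (F := F) 0 0 0 = 1 := by
  apply Subtype.ext
  ext i j
  fin_cases i <;> fin_cases j <;> simp [uel_coe]

theorem uel_eq_one {a b c : F} : uel a b c = 1 ↔ a = 0 ∧ b = 0 ∧ c = 0 := by
  refine ⟨fun h => ⟨?_, ?_, ?_⟩, fun ⟨h1, h2, h3⟩ => by rw [h1, h2, h3, uel_zero]⟩
  · simpa [uel_coe] using congrArg (fun w : G3 => w 0 1) h
  · simpa [uel_coe] using congrArg (fun w : G3 => w 0 2) h
  · simpa [uel_coe] using congrArg (fun w : G3 => w 1 2) h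

theorem proj_eq_one {a b c : F} (h : proj (uel a b c) = 1) : a = 0 ∧ b = 0 ∧ c = 0 :=
  uel_eq_one.1 (proj_inj (uel_mem a b c) upper.one_mem (h.trans (map_one proj).symm))

variable [Fintype F] (hF : Fintype.card F = 4)
include hF

omit [Fintype F] hF in
theorem zP_ne : (zP : Q3) ≠ 1 := fun h => one_ne_zero (proj_eq_one h).2.1

theorem exists_lift [CharP F 2] {x : Q3} (hx : x * x = 1) : ∃ g : G3, g * g = 1 ∧ proj g = x := by
  obtain ⟨g, rfl⟩ := QuotientGroup.mk'_surjective _ x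
  have hc : g * g ∈ center G3 := (QuotientGroup.eq_one_iff _).1 hx
  set c := g * g with hcdef
  have hc3 : c * c * c = 1 := by
    obtain ⟨r, hr3, hr⟩ := Matrix.SpecialLinearGroup.mem_center_iff.1 hc
    apply Subtype.ext
    show c.1 * c.1 * c.1 = 1
    rw [← hr, ← map_mul, ← map_mul]
    rw [Fintype.card_fin] at hr3
    rw [show r * r * r = 1 by rw [← hr3]; ring, map_one]
  refine ⟨g * c, ?_, ?_⟩
  · calc g * c * (g * c) = g * (c * g) * c := by simp only [mul_assoc]
      _ = g * (g * c) * c := by rw [mem_center_iff.1 hc g]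
      _ = g * g * c * c := by simp only [mul_assoc]
      _ = 1 := by rw [← hcdef, hc3]
  · show proj (g * c) = _
    rw [map_mul]
    have : proj c = 1 := (QuotientGroup.eq_one_iff _).2 hc
    rw [this, mul_one]
    rfl

theorem exists_conj_z [CharP F 2] (x : Q3) (hx : x * x = 1) (h1 : x ≠ 1) : ∃ g, g * zP * g⁻¹ = x := by
  obtain ⟨g, hg, rfl⟩ := exists_lift hF hx
  obtain ⟨P, hP⟩ := Cfsg.Lib.Classical.PSLThreeFour.exists_transv_basis g (by rw [pow_two, hg]) fun h => h1 (by rw [h, map_one])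
  have hz2 : (uel 0 1 0 : G3) * uel 0 1 0 = 1 := uel_row_sq 0 1
  obtain ⟨P', hP'⟩ := Cfsg.Lib.Classical.PSLThreeFour.exists_transv_basis (uel 0 1 0 : G3) (by rw [pow_two, hz2])
    fun h => one_ne_zero (uel_eq_one.1 h).2.1
  refine ⟨proj (P * P'⁻¹), ?_⟩
  rw [zP, ← map_inv, ← map_mul, ← map_mul]
  congr 1
  set T := SpecialLinearGroup.transvection (show (0 : Fin 3) ≠ 1 by decide) (1 : F)
  calc P * P'⁻¹ * uel 0 1 0 * (P * P'⁻¹)⁻¹ = P * P'⁻¹ * (uel 0 1 0 * P') * P⁻¹ := by group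
    _ = P * T * P⁻¹ := by rw [hP']; group
    _ = g * P * P⁻¹ := by rw [hP]
    _ = g := by group

omit [Fintype F] hF in
theorem cent_shape {g : G3} (h : g * uel 0 1 0 = uel 0 1 0 * g) :
    g 1 0 = 0 ∧ g 2 0 = 0 ∧ g 2 1 = 0 ∧ g 0 0 = g 2 2 := by
  have e1 := congrArg (fun w : G3 => w 1 2) h
  have e2 := congrArg (fun w : G3 => w 0 0) h
  have e3 := congrArg (fun w : G3 => w 0 1) h
  have e4 := congrArg (fun w : G3 => w 0 2) h
  simp [uel_coe, Matrix.mul_apply, Fin.sum_univ_three] at e1 e2 e3 e4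
  refine ⟨e1, e2, e3, ?_⟩
  linear_combination e4

theorem mem_cases_P [CharP F 2] (x : Q3) (hx : x * x = 1) (hc : x * zP = zP * x) :
    x ∈ rowG.map (proj (F := F)) ∨ x ∈ colG.map (proj (F := F)) := by
  obtain ⟨g, hg, rfl⟩ := exists_lift hF hx
  obtain ⟨a, b, c, d⟩ := cent_shape (proj_commute_iff (uel_row_sq 0 1) (uel_row_sq 0 1) hc)
  have one_of_sq : ∀ r : F, r * r = 1 → r = 1 := fun r h => by
    have h0 : (r + 1) * (r + 1) = 0 := by linear_combination h + (r + 1) * (CharTwo.two_eq_zero : (2 : F) = 0)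
    exact CharTwo.add_eq_zero.1 (mul_self_eq_zero.1 h0)
  have e00 := congrArg (fun w : G3 => w 0 0) hg
  have e11 := congrArg (fun w : G3 => w 1 1) hg
  simp [Matrix.mul_apply, Fin.sum_univ_three, a, b, c] at e00 e11
  have hu : g ∈ upper := ⟨a, b, c, one_of_sq _ e00, one_of_sq _ e11, d ▸ one_of_sq _ e00⟩
  have e02 := congrArg (fun w : G3 => w 0 2) hg
  rw [eq_uel hu, uel_mul] at e02
  simp [uel_coe] at e02
  rw [add_assoc, add_comm _ (g 0 2), ← add_assoc, CharTwo.add_self_eq_zero, zero_add] at e02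
  rcases mul_eq_zero.1 e02 with h | h
  · exact Or.inr ⟨g, ⟨hu, h⟩, rfl⟩
  · exact Or.inl ⟨g, ⟨hu, h⟩, rfl⟩

theorem cent_z_P [CharP F 2] : centralizer ({zP} : Set Q3) = upper.map (proj (F := F)) := by
  ext x
  rw [mem_centralizer_singleton_iff]
  constructor
  · intro hx
    obtain ⟨g, rfl⟩ := QuotientGroup.mk'_surjective _ x
    obtain ⟨a, b, c, d⟩ := cent_shape (proj_commute_iff (uel_row_sq 0 1) (uel_row_sq 0 1) hx)
    have hd := g.2
    rw [Matrix.det_fin_three] at hd
    simp [a, b, c] at hd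
    set r := g 0 0 with hr
    have hd' : r * g 1 1 * r = 1 := by rw [← d] at hd; exact hd
    have hr0 : r ≠ 0 := fun h => by rw [h] at hd'; simp at hd'
    have h3 := cube hF hr0
    have h11 : g 1 1 = r := by linear_combination r * hd' - (g 1 1) * h3
    have hrr : (r * r) ^ Fintype.card (Fin 3) = 1 := by
      rw [Fintype.card_fin]; linear_combination (r ^ 3 + 1) * h3
    let s : G3 := ⟨Matrix.scalar (Fin 3) (r * r), by
      rw [Matrix.scalar_apply, Matrix.det_diagonal, Finset.prod_const, Finset.card_univ]; exact hrr⟩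
    have hs : s ∈ center G3 := Matrix.SpecialLinearGroup.mem_center_iff.2 ⟨r * r, hrr, rfl⟩
    refine ⟨g * s, ?_, ?_⟩
    · have e : ∀ i j, (g * s : G3) i j = g i j * (r * r) := fun i j => by
        show (g.1 * Matrix.scalar (Fin 3) (r * r)) i j = _
        simp [Matrix.scalar_apply, Matrix.mul_diagonal]
      refine ⟨?_, ?_, ?_, ?_, ?_, ?_⟩ <;> rw [e]
      · rw [a, zero_mul]
      · rw [b, zero_mul]
      · rw [c, zero_mul]
      · linear_combination h3
      · rw [h11]; linear_combination h3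
      · rw [← d]; linear_combination h3
    · rw [map_mul, show proj s = 1 from (QuotientGroup.eq_one_iff _).2 hs, mul_one]
      rfl
  · rintro ⟨u, hu, rfl⟩
    rw [zP, ← map_mul, ← map_mul]
    congr 1
    rw [eq_uel hu, uel_mul, uel_mul]
    simp [add_comm]

theorem not_conj_P [CharP F 2] (x : Q3) : cj x (rowG.map (proj (F := F))) ≠ colG.map proj := by
  intro h
  obtain ⟨g, rfl⟩ := QuotientGroup.mk'_surjective _ x
  have key : ∀ a b : F, ∃ b' c' : F, g * uel a b 0 = uel 0 b' c' * g := by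
    intro a b
    have hm : proj g * proj (uel a b 0) * (proj g)⁻¹ ∈ colG.map (proj (F := F)) := by
      rw [← h]
      exact ⟨_, ⟨_, uel_mem_row a b, rfl⟩, rfl⟩
    obtain ⟨u, ⟨hu, h0⟩, he⟩ := hm
    have hu2 : u * u = 1 := by
      rw [eq_uel hu, h0, uel_mul, uel_eq_one]
      simp [CharTwo.add_self_eq_zero]
    refine ⟨u 0 2, u 1 2, ?_⟩
    rw [proj_commute_iff (uel_row_sq a b) hu2 (y := u) (g := g) (by rw [he]; group)]
    conv_lhs => rw [eq_uel hu, h0]
  obtain ⟨b', c', h1⟩ := key 1 0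
  obtain ⟨b'', c'', h2⟩ := key 0 1
  have p := fun i j => congrArg (fun w : G3 => w i j) h1
  have q := fun i j => congrArg (fun w : G3 => w i j) h2
  have p01 := p 0 1
  have p11 := p 1 1
  have p21 := p 2 1
  have p02 := p 0 2
  have p12 := p 1 2
  have q02 := q 0 2
  have q12 := q 1 2
  have q22 := q 2 2
  simp [uel_coe, Matrix.mul_apply, Fin.sum_univ_three] at p01 p11 p21 p02 p12 q02 q12 q22
  have hbc : b' ≠ 0 ∨ c' ≠ 0 := by
    by_contra hcon
    push Not at hcon
    rw [hcon.1, hcon.2, uel_zero, one_mul, mul_eq_left] at h1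
    exact one_ne_zero (uel_eq_one.1 h1).1
  have h22 : g 2 2 = 0 := by
    rcases hbc with hb | hb
    · exact p02.resolve_left hb
    · exact p12.resolve_left hb
  have c0 : g 0 0 = 0 := by rw [h22] at q02; linear_combination q02
  have c1 : g 1 0 = 0 := by rw [h22] at q12; linear_combination q12
  have c2 : g 2 0 = 0 := by linear_combination q22
  have hd := g.2
  rw [Matrix.det_fin_three] at hd
  simp [c0, c1, c2] at hd

theorem card_inter_P [CharP F 2] :
    Nat.card (rowG.map (proj (F := F)) ⊓ colG.map proj : Subgroup Q3) = 4 := by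
  rw [← hF, ← Nat.card_eq_fintype_card]
  refine (Nat.card_congr (Equiv.ofBijective (fun b : F => (⟨proj (uel 0 b 0), ⟨_, uel_mem_row 0 b, rfl⟩,
    ⟨_, uel_mem_col b 0, rfl⟩⟩ : (rowG.map (proj (F := F)) ⊓ colG.map proj : Subgroup Q3))) ⟨?_, ?_⟩)).symm
  · intro b b' h
    have := proj_inj (uel_mem 0 b 0) (uel_mem 0 b' 0) (congrArg Subtype.val h)
    simpa [uel_coe] using congrArg (fun w : G3 => w 0 2) this
  · rintro ⟨x, ⟨u, ⟨hu, h0⟩, rfl⟩, ⟨v, ⟨hv, h0'⟩, he⟩⟩
    obtain rfl := proj_inj hv hu he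
    refine ⟨v 0 2, Subtype.ext ?_⟩
    show proj (uel 0 (v 0 2) 0) = proj v
    conv_rhs => rw [eq_uel hu, h0, h0']

theorem card_invol_P [CharP F 2] : Nat.card {x : Q3 // x * x = 1 ∧ x ≠ 1} = 315 := by
  have h : Nat.card (Q3 ⧸ centralizer ({zP} : Set Q3)) * Nat.card (centralizer ({zP} : Set Q3)) = 20160 := by
    rw [← card_eq_card_quotient_mul_card_subgroup, card_psl_four hF]
  rw [cent_z_P hF, card_map_upper le_rfl, card_upper, hF] at h
  have hz2 : (zP : Q3) * zP = 1 := by rw [zP, ← map_mul, uel_row_sq, map_one]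
  let f : Q3 ⧸ centralizer ({zP} : Set Q3) → {x : Q3 // x * x = 1 ∧ x ≠ 1} :=
    Quotient.lift (fun g : Q3 => (⟨g * zP * g⁻¹, by rw [conj_mul, hz2, mul_one, mul_inv_cancel],
      fun h => zP_ne (conj_eq_one_iff.1 h)⟩ : {x : Q3 // x * x = 1 ∧ x ≠ 1}))
      (fun g g' h => Subtype.ext (by
        have := mem_centralizer_singleton_iff.1 (QuotientGroup.leftRel_apply.1 h)
        show g * zP * g⁻¹ = g' * zP * g'⁻¹
        calc g * zP * g⁻¹ = g * (zP * (g⁻¹ * g')) * g'⁻¹ := by group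
          _ = g * (g⁻¹ * g' * zP) * g'⁻¹ := by rw [this]
          _ = _ := by group))
  have hb : Function.Bijective f := by
    constructor
    · intro x y
      induction x using Quotient.inductionOn with
      | _ g => induction y using Quotient.inductionOn with
        | _ g' =>
          intro h
          refine Quotient.sound (QuotientGroup.leftRel_apply.2 (mem_centralizer_singleton_iff.2 ?_))
          have e : g * zP * g⁻¹ = g' * zP * g'⁻¹ := congrArg Subtype.val h
          calc g⁻¹ * g' * zP = g⁻¹ * (g' * zP * g'⁻¹) * g' := by group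
            _ = g⁻¹ * (g * zP * g⁻¹) * g' := by rw [e]
            _ = _ := by group
    · rintro ⟨x, hx, h1⟩
      obtain ⟨g, hg⟩ := exists_conj_z hF x hx h1
      exact ⟨Quotient.mk'' g, Subtype.ext hg⟩
  rw [← Nat.card_congr (Equiv.ofBijective f hb), cent_z_P hF]
  omega

theorem comm_P [CharP F 2] : ∀ a ∈ rowG.map (proj (F := F)), ∀ b ∈ colG.map (proj (F := F)),
    a ∉ colG.map (proj (F := F)) → b ∉ rowG.map (proj (F := F)) →
      a * b ≠ b * a ∧ a * b * a⁻¹ * b⁻¹ ∈ rowG.map (proj (F := F)) ∧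
        a * b * a⁻¹ * b⁻¹ ∈ colG.map (proj (F := F)) := by
  intro a ha b hb hab hba
  obtain ⟨a1, b1, rfl⟩ := row_eq ha
  obtain ⟨v, ⟨hv, h0⟩, rfl⟩ := hb
  set b2 := v 0 2
  set c2 := v 1 2
  have hv' : v = uel 0 b2 c2 := by conv_lhs => rw [eq_uel hv, h0]
  have ha1 : a1 ≠ 0 := fun h => hab ⟨uel a1 b1 0, ⟨uel_mem _ _ _, by simp [uel_coe, h]⟩, rfl⟩
  have hc2 : c2 ≠ 0 := fun h => hba ⟨v, ⟨hv, h⟩, rfl⟩
  have e1 : (uel a1 b1 0 : G3) * v = uel 0 (a1 * c2) 0 * (v * uel a1 b1 0) := by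
    rw [hv', uel_mul, uel_mul, uel_mul]
    congr 1 <;> ring
  have e2 : proj (uel a1 b1 0) * proj v * (proj (uel a1 b1 0))⁻¹ * (proj v)⁻¹ = proj (uel 0 (a1 * c2) 0) := by
    rw [← map_inv, ← map_inv, ← map_mul, ← map_mul, ← map_mul, e1]
    congr 1
    group
  refine ⟨fun h => mul_ne_zero ha1 hc2 (proj_eq_one (a := 0) (b := a1 * c2) (c := 0) ?_).2.1, ?_, ?_⟩
  · rw [← e2, h]; group
  · rw [e2]; exact ⟨_, uel_mem_row _ _, rfl⟩
  · rw [e2]; exact ⟨_, uel_mem_col _ _, rfl⟩

/-- the plane data of the linear group -/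
def pairDataP [CharP F 2] : PairData Q3 where
  A := rowG.map proj
  B := colG.map proj
  z := zP
  zA := ⟨_, uel_mem_row 0 1, rfl⟩
  zB := ⟨_, uel_mem_col 1 0, rfl⟩
  zne := zP_ne
  A_sq := by
    intro a ha
    obtain ⟨x, y, rfl⟩ := row_eq ha
    rw [← map_mul, uel_row_sq, map_one]
  B_sq := by
    rintro _ ⟨u, ⟨hu, h0⟩, rfl⟩
    rw [← map_mul, eq_uel hu, h0, uel_mul]
    have : (uel (F := F) (0 + 0) (u 0 2 + 0 * u 1 2 + u 0 2) (u 1 2 + u 1 2)) = 1 := by
      rw [uel_eq_one]; simp [CharTwo.add_self_eq_zero]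
    rw [this, map_one]
  card_A := by rw [card_map_upper rowG_le, card_rowG, hF]; norm_num
  card_B := by rw [card_map_upper colG_le, card_colG, hF]; norm_num
  all_conj := exists_conj_z hF
  mem_cases := mem_cases_P hF
  not_cj := not_conj_P hF
  card_inter := card_inter_P hF
  comm := comm_P hF
  card_invol := card_invol_P hF
  self_cent := (good_row hF).2.2

end Cfsg.Lib.AutThreeFour
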