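import Mathlib
import Cfsg.Agent.S0813
import Cfsg.Agent.Known.AutPSLn.Named
import Cfsg.Agent.Known.FieldCoset
import Cfsg.Agent.AutThreeFour.LinearSide

/-!
The automorphism groups of the projective special and general linear groups of dimension three over four elements.
-/

set_option autoImplicit false
set_option maxRecDepth 20000
set_option linter.style.haveILetI false

namespace Cfsg.Lib.AutThreeFour

open Matrix Cfsg.Lib.Known.AutPSLn

variable {F : Type*} [Field F] [Fintype F]

local notation "P3" => Matrix.ProjectiveSpecialLinearGroup (Fin 3) F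
local notation "GL3" => GL (Fin 3) F

theorem conjP_range_normal {n : ℕ} (hn : 2 ≤ n) :
    ((conjP : GL (Fin n) F →* MulAut (Matrix.ProjectiveSpecialLinearGroup (Fin n) F)).range).Normal := by
  refine ⟨?_⟩
  rintro _ ⟨d, rfl⟩ α
  obtain ⟨g, σ, γ, hγ, rfl⟩ := exists_decomp_all hn α
  have hfield : ∀ d : GL (Fin n) F, fieldP σ * conjP d =
      (conjP (Matrix.GeneralLinearGroup.map σ.toRingHom d) : MulAut (Matrix.ProjectiveSpecialLinearGroup (Fin n) F)) * fieldP σ := by
    intro d
    rw [fieldP, conjP, MonoidHom.comp_apply, MonoidHom.comp_apply, MonoidHom.comp_apply, ← map_mul, ← map_mul]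
    congr 1
    refine MulEquiv.ext fun N => Subtype.ext ?_
    change (_ * _ * _ : Matrix (Fin n) (Fin n) F).map σ = _ * (N : Matrix (Fin n) (Fin n) F).map σ * _
    rw [Matrix.map_mul, Matrix.map_mul, ← map_inv]
    rfl
  have hgam : ∀ d : GL (Fin n) F, ∃ d', γ * conjP d = conjP d' * γ := by
    intro d
    rcases hγ with rfl | rfl
    · exact ⟨d, by rw [one_mul, mul_one]⟩
    · refine ⟨⟨((d⁻¹ : GL (Fin n) F) : Matrix (Fin n) (Fin n) F)ᵀ, (d : Matrix (Fin n) (Fin n) F)ᵀ,
        by rw [← Matrix.transpose_mul, d.mul_inv, Matrix.transpose_one],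
        by rw [← Matrix.transpose_mul, d.inv_mul, Matrix.transpose_one]⟩, ?_⟩
      rw [graphP, conjP, MonoidHom.comp_apply, MonoidHom.comp_apply, ← map_mul, ← map_mul]
      congr 1
      refine MulEquiv.ext fun N => Subtype.ext ?_
      change (((conjSL d N)⁻¹ : SpecialLinearGroup (Fin n) F) : Matrix (Fin n) (Fin n) F)ᵀ =
        ((d⁻¹ : GL (Fin n) F) : Matrix (Fin n) (Fin n) F)ᵀ * ((N⁻¹ : SpecialLinearGroup (Fin n) F) : Matrix (Fin n) (Fin n) F)ᵀ *
          (d : Matrix (Fin n) (Fin n) F)ᵀ
      rw [← map_inv, coe_conjSL, Matrix.transpose_mul, Matrix.transpose_mul, mul_assoc]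
  obtain ⟨d', hd'⟩ := hgam d
  refine ⟨g * Matrix.GeneralLinearGroup.map σ.toRingHom d' * g⁻¹, ?_⟩
  symm
  rw [map_mul, map_mul, map_inv]
  calc conjP g * fieldP σ * γ * conjP d * (conjP g * fieldP σ * γ)⁻¹
      = conjP g * fieldP σ * (γ * conjP d) * γ⁻¹ * (fieldP σ)⁻¹ * (conjP g)⁻¹ := by group
    _ = conjP g * (fieldP σ * conjP d') * (fieldP σ)⁻¹ * (conjP g)⁻¹ := by rw [hd']; group
    _ = _ := by rw [hfield]; group

variable (hF : Fintype.card F = 4)
include hF

theorem charTwo : CharP F 2 := by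
  haveI : Fact (Nat.Prime 2) := ⟨Nat.prime_two⟩
  exact charP_of_card_eq_prime_pow (f := 2) (by rw [hF]; norm_num)

theorem card_mulAut_psl : Nat.card (MulAut P3) = 241920 := by
  haveI : Fact (Nat.Prime 2) := ⟨Nat.prime_two⟩
  rw [Cfsg.Agent.S0813.result 2 2 (by norm_num) (by rw [hF]; norm_num) 3 (by norm_num) (by norm_num),
    Cfsg.Lib.Classical.card_PGL]
  have hc := Cfsg.Lib.Classical.card_SL_mul_eq_prod (F := F) (n := 3) (by norm_num)
  norm_num [Fin.prod_univ_three, hF, -Nat.card_eq_fintype_card] at hc ⊢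
  omega

/-- `MulAut (GL ⧸ centre) ≅ MulAut PSL` -/
theorem mulAut_pgl : Nonempty (MulAut (GL3 ⧸ Subgroup.center GL3) ≃* MulAut P3) := by
  haveI := charTwo hF
  set D := pairDataP hF
  haveI hs : IsSimpleGroup P3 := Cfsg.Lib.Classical.isSimpleGroup_PSL_fin (by norm_num) (by norm_num)
  set R := (conjP : GL3 →* MulAut P3).range
  haveI hR : R.Normal := conjP_range_normal (by norm_num)
  have hker : (conjP : GL3 →* MulAut P3).ker = Subgroup.center GL3 := by
    ext g
    refine ⟨fun h => (conjP_fieldP_eq_one (n := 3) (by norm_num) (σ := 1) ?_).1, fun h => conjP_scalar h⟩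
    rw [MonoidHom.mem_ker.1 h, map_one, one_mul]
  let eR : (GL3 ⧸ Subgroup.center GL3) ≃* R :=
    (QuotientGroup.quotientMulEquivOfEq hker.symm).trans (QuotientGroup.quotientKerEquivRange _)
  -- inner automorphisms
  have hconj_inj : Function.Injective (MulAut.conj : P3 → MulAut P3) := by
    intro x y h
    refine inv_mul_eq_one.1 (D.fix_trivial (d := x⁻¹ * y) fun T => ?_)
    ext u
    have e : ∀ v, x * v * x⁻¹ = y * v * y⁻¹ := fun v => DFunLike.congr_fun h v
    rw [mem_cj]
    have : (x⁻¹ * y)⁻¹ * u * (x⁻¹ * y) = u := by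
      have e' := e ((x⁻¹ * y)⁻¹ * u * (x⁻¹ * y))
      calc (x⁻¹ * y)⁻¹ * u * (x⁻¹ * y) = x⁻¹ * (x * ((x⁻¹ * y)⁻¹ * u * (x⁻¹ * y)) * x⁻¹) * x := by group
        _ = x⁻¹ * (y * ((x⁻¹ * y)⁻¹ * u * (x⁻¹ * y)) * y⁻¹) * x := by rw [e']
        _ = u := by group
    rw [this]
  have hinn : ∀ M : SpecialLinearGroup (Fin 3) F, MulAut.conj (π M) ∈ R := fun M =>
    ⟨_, conjP_toGL M⟩
  have hinnR : ∀ x : P3, MulAut.conj x ∈ R := fun x => by
    obtain ⟨M, rfl⟩ := QuotientGroup.mk'_surjective _ x
    exact hinn M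
  let ι : P3 →* R := (MulAut.conj : P3 →* MulAut P3).codRestrict R hinnR
  have hι : Function.Injective ι := fun x y h => hconj_inj (congrArg Subtype.val h)
  -- the cube of every element of the range is inner
  have hcube : ∀ r : R, ∃ x, r * r * r = ι x := by
    rintro ⟨_, g, rfl⟩
    set u := Units.map Matrix.detMonoidHom g
    have hu : (u * u * u : Fˣ) = 1 := by
      have hc : Nat.card Fˣ = 3 := by rw [Nat.card_units, Nat.card_eq_fintype_card, hF]
      have := pow_card_eq_one' (G := Fˣ) (x := u)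
      rw [hc, pow_succ, pow_two] at this
      exact this
    let M : SpecialLinearGroup (Fin 3) F := ⟨((g * g * g : GL3) : Matrix (Fin 3) (Fin 3) F), by
      have := congrArg Units.val hu
      simpa [u, Matrix.det_mul] using this⟩
    refine ⟨π M, Subtype.ext ?_⟩
    show conjP g * conjP g * conjP g = MulAut.conj (π M)
    rw [← map_mul, ← map_mul, ← conjP_toGL]
    congr 1
    exact Units.ext rfl
  -- every automorphism of the range preserves the inner automorphisms
  have hpres : ∀ (φ : MulAut R) (x : P3), ∃ y, φ (ι x) = ι y := by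
    intro φ x
    let S : Subgroup P3 := (ι.range.comap (φ.toMonoidHom.comp ι))
    have hzS : zP ∈ S := by
      obtain ⟨y, hy⟩ := hcube (φ (ι zP))
      refine ⟨y, ?_⟩
      have h2 : φ (ι zP) * φ (ι zP) = 1 := by
        rw [← map_mul, ← map_mul, show (zP : P3) * zP = 1 from D.A_sq _ D.zA, map_one, map_one]
      rw [h2, one_mul] at hy
      exact hy.symm
    have hle : Subgroup.normalClosure {(zP : P3)} ≤ S := by
      refine (Subgroup.closure_le S).2 ?_
      intro w hw
      obtain ⟨v, hv, hc⟩ := Group.mem_conjugatesOfSet_iff.1 hw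
      rw [Set.mem_singleton_iff] at hv
      subst hv
      obtain ⟨g, hg⟩ := isConj_iff.1 hc
      obtain ⟨y, hy⟩ := hcube (φ (ι w))
      refine ⟨y, ?_⟩
      have hw2 : w * w = 1 := by
        rw [← hg, conj_mul, show (zP : P3) * zP = 1 from D.A_sq _ D.zA, mul_one, mul_inv_cancel]
      have h2 : φ (ι w) * φ (ι w) = 1 := by rw [← map_mul, ← map_mul, hw2, map_one, map_one]
      rw [h2, one_mul] at hy
      exact hy.symm
    have htop : Subgroup.normalClosure {(zP : P3)} = ⊤ :=
      (Subgroup.normalClosure_normal.eq_bot_or_eq_top).resolve_left fun h => D.zne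
        (Subgroup.mem_bot.1 (h ▸ Subgroup.subset_normalClosure (Set.mem_singleton _)))
    obtain ⟨y, hy⟩ := hle (htop ▸ Subgroup.mem_top x)
    exact ⟨y, hy.symm⟩
  choose res hres using hpres
  have hres_mul : ∀ φ x y, res φ (x * y) = res φ x * res φ y := fun φ x y => hι (by
    rw [← hres, map_mul, map_mul, map_mul, hres, hres])
  have hres_inj : ∀ φ, Function.Injective (res φ) := fun φ x y h => hι (φ.injective (by rw [hres, hres, h]))
  let down : MulAut R → MulAut P3 := fun φ =>
    MulEquiv.ofBijective (MonoidHom.mk' (res φ) (hres_mul φ)) ((Finite.injective_iff_bijective).1 (hres_inj φ))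
  have hdown : Function.Injective down := by
    intro φ φ' h
    have h' : ∀ x, φ (ι x) = φ' (ι x) := fun x => by
      rw [hres, hres]
      exact congrArg ι (DFunLike.congr_fun h x)
    refine MulEquiv.ext fun r => Subtype.ext ?_
    -- both images act in the same way
    refine MulEquiv.ext fun x => hconj_inj ?_
    obtain ⟨w, hw⟩ : ∃ w, φ (ι w) = ι x := by
      obtain ⟨w, hw⟩ := (Finite.injective_iff_surjective.1 (hres_inj φ)) x
      exact ⟨w, by rw [hres, hw]⟩
    have key : ∀ s : R, MulAut.conj ((s : MulAut P3) x) = ((s * ι x * s⁻¹ : R) : MulAut P3) := fun s =>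
      MulEquiv.ext fun v => by simp [ι]
    rw [key, key]
    refine congrArg Subtype.val ?_
    obtain ⟨w', hw'⟩ : ∃ w', r * ι w * r⁻¹ = ι w' := by
      refine ⟨(r : MulAut P3) w, Subtype.ext ?_⟩
      show ((r * ι w * r⁻¹ : R) : MulAut P3) = MulAut.conj ((r : MulAut P3) w)
      exact MulEquiv.ext fun v => by simp [ι]
    calc φ r * ι x * (φ r)⁻¹ = φ (r * ι w * r⁻¹) := by rw [map_mul, map_mul, map_inv, hw]
      _ = φ' (r * ι w * r⁻¹) := by rw [hw', h']
      _ = _ := by rw [map_mul, map_mul, map_inv, ← h', hw]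
  let up : MulAut P3 →* MulAut R := MulAut.conjNormal
  have hup : Function.Injective up := by
    rw [injective_iff_map_eq_one]
    intro e he
    refine MulEquiv.ext fun x => hconj_inj ?_
    have h1 : ((up e (ι x) : R) : MulAut P3) = MulAut.conj x := by rw [he]; rfl
    rw [MulAut.conjNormal_apply] at h1
    refine Eq.trans ?_ h1
    exact MulEquiv.ext fun v => by simp [ι]
  have hbij : Function.Bijective up := by
    refine ⟨hup, ?_⟩
    haveI : Finite (MulAut R) := Finite.of_injective down hdown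
    have hle := Nat.card_le_card_of_injective down hdown
    exact ((Nat.bijective_iff_injective_and_card up).2 ⟨hup, le_antisymm (Nat.card_le_card_of_injective up hup) hle⟩).2
  exact ⟨(MulAut.congr eR).trans (MulEquiv.ofBijective up hbij).symm⟩

theorem iso_planeGroup_pgl : Nonempty (MulAut (GL3 ⧸ Subgroup.center GL3) ≃* planeGroup) := by
  haveI := charTwo hF
  obtain ⟨e⟩ := mulAut_pgl hF
  obtain ⟨f, hf⟩ := (pairDataP hF).exists_embedding
  have h1 := Nat.card_le_card_of_injective f hf
  have h2 := card_planeGroup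
  refine ⟨e.trans (MulEquiv.ofBijective f ((Nat.bijective_iff_injective_and_card f).2 ⟨hf, ?_⟩))⟩
  rw [card_mulAut_psl hF] at h1 ⊢
  omega

end Cfsg.Lib.AutThreeFour
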