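import Mathlib
import Cfsg.Agent.AutThreeFour.CodeData

/-!
The four central extensions `2^{1+4}₋.Sym₄` on codes `24 e + p`.
-/

set_option autoImplicit false
set_option maxRecDepth 20000

namespace Cfsg.Lib.AutThreeFour

/-- field `i` of width `w` -/
def get (tab w i : ℕ) : ℕ := (tab >>> (w * i)) % 2 ^ w

/-- product in the extraspecial group -/
def emul (a b : Fin 32) : Fin 32 := ⟨get eMulTab 5 (a.val * 32 + b.val) % 32, Nat.mod_lt _ (by norm_num)⟩

/-- action of the symmetric group -/
def act (p : Fin 24) (a : Fin 32) : Fin 32 := ⟨get actTab 5 (p.val * 32 + a.val) % 32, Nat.mod_lt _ (by norm_num)⟩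

/-- product in the symmetric group -/
def pmul (p q : Fin 24) : Fin 24 := ⟨get pMulTab 5 (p.val * 24 + q.val) % 24, Nat.mod_lt _ (by norm_num)⟩

/-- cocycle bit -/
def cbit (ε : Fin 4) (p q : Fin 24) : Bool := (cocTab.getD ε.val 0).testBit (p.val * 24 + q.val)

/-- a central element from a bit -/
def zb (b : Bool) : Fin 32 := if b then 1 else 0

theorem emul_assoc : ∀ a b c : Fin 32, emul (emul a b) c = emul a (emul b c) := by decide +kernel
theorem zb_comm : ∀ (b : Bool) (a : Fin 32), emul (zb b) a = emul a (zb b) := by decide +kernel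
theorem zb_add : ∀ b c : Bool, emul (zb b) (zb c) = zb (xor b c) := by decide +kernel
theorem emul_zero : ∀ a : Fin 32, emul 0 a = a ∧ emul a 0 = a := by decide +kernel
theorem pmul_assoc : ∀ a b c : Fin 24, pmul (pmul a b) c = pmul a (pmul b c) := by decide +kernel
theorem act_mul : ∀ p : Fin 24, ∀ a b : Fin 32, act p (emul a b) = emul (act p a) (act p b) := by decide +kernel
theorem act_act : ∀ p q : Fin 24, ∀ a : Fin 32, act (pmul p q) a = act p (act q a) := by decide +kernel
theorem act_zb : ∀ p : Fin 24, ∀ b : Bool, act p (zb b) = zb b := by decide +kernel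

theorem cocycle : ∀ ε : Fin 4, ∀ p q r : Fin 24,
    xor (cbit ε p q) (cbit ε (pmul p q) r) = xor (cbit ε q r) (cbit ε p (pmul q r)) := by decide +kernel

/-- the model -/
def M (_ε : Fin 4) : Type := Fin 768
deriving DecidableEq, Fintype

variable {ε : Fin 4}

/-- the code -/
def M.val (x : M ε) : ℕ := Fin.val (n := 768) x

/-- from a code -/
def M.mk (i : ℕ) : M ε := (⟨i % 768, Nat.mod_lt _ (by norm_num)⟩ : Fin 768)

/-- the two parts of a code -/
def ep (x : M ε) : Fin 32 := ⟨x.val / 24, Nat.div_lt_of_lt_mul x.isLt⟩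
/-- the part in the symmetric group -/
def pp (x : M ε) : Fin 24 := ⟨x.val % 24, Nat.mod_lt _ (by norm_num)⟩
/-- the code of a pair -/
def pr (a : Fin 32) (p : Fin 24) : M ε := (⟨a.val * 24 + p.val, by omega⟩ : Fin 768)

theorem parts_pr (a : Fin 32) (p : Fin 24) : ep (pr a p : M ε) = a ∧ pp (pr a p : M ε) = p := by
  constructor <;> apply Fin.ext
  · show (a.val * 24 + p.val) / 24 = a.val
    omega
  · show (a.val * 24 + p.val) % 24 = p.val
    omega

theorem pr_parts (x : M ε) : pr (ep x) (pp x) = x := by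
  apply Fin.ext (n := 768)
  show x.val / 24 * 24 + x.val % 24 = x.val
  omega

/-- product of the model -/
def mulM (x y : M ε) : M ε :=
  pr (emul (emul (ep x) (act (pp x) (ep y))) (zb (cbit ε (pp x) (pp y)))) (pmul (pp x) (pp y))

/-- inverse -/
def invM (x : M ε) : M ε := M.mk (get (invTab.getD ε.val 0) 10 x.val)

instance : One (M ε) := ⟨M.mk 0⟩
instance : Mul (M ε) := ⟨mulM⟩
instance : Inv (M ε) := ⟨invM⟩

theorem one_mul_aux : ∀ ε : Fin 4, ∀ x : M ε, mulM (M.mk 0) x = x := by decide +kernel

theorem inv_mul_aux : ∀ ε : Fin 4, ∀ x : M ε, mulM (invM x) x = M.mk 0 := by decide +kernel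

theorem mulM_assoc (x y z : M ε) : mulM (mulM x y) z = mulM x (mulM y z) := by
  unfold mulM
  simp only [(parts_pr _ _).1, (parts_pr _ _).2, pmul_assoc, act_mul, act_zb, ← act_act]
  congr 1
  set a := ep x
  set u := act (pp x) (ep y)
  set v := act (pmul (pp x) (pp y)) (ep z)
  simp only [emul_assoc]
  rw [← emul_assoc (zb _) v, zb_comm (cbit ε (pp x) (pp y)) v, emul_assoc v, zb_add, zb_add, cocycle]

instance instGroupM : Group (M ε) :=
  Group.ofLeftAxioms mulM_assoc (one_mul_aux ε) (inv_mul_aux ε)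

theorem card_M : Nat.card (M ε) = 768 := Nat.card_fin 768

theorem mul_pr (a b : Fin 32) (p q : Fin 24) :
    (pr a p : M ε) * pr b q = pr (emul (emul a (act p b)) (zb (cbit ε p q))) (pmul p q) := by
  show mulM _ _ = _
  rw [mulM, (parts_pr a p).1, (parts_pr a p).2, (parts_pr b q).1, (parts_pr b q).2]

theorem pr_inj {a b : Fin 32} {p q : Fin 24} (h : (pr a p : M ε) = pr b q) : a = b ∧ p = q := by
  constructor
  · rw [← (parts_pr (ε := ε) a p).1, h, (parts_pr b q).1]
  · rw [← (parts_pr (ε := ε) a p).2, h, (parts_pr b q).2]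

/-- the central involution -/
def zM : M ε := M.mk 24

/-- the two generators of the complement -/
def pts (g : Fin 2) : Fin 24 := if g = 0 then fin24 xPt else fin24 yPt
where
  /-- reduce modulo 24 -/
  fin24 (i : ℕ) : Fin 24 := ⟨i % 24, Nat.mod_lt _ (by norm_num)⟩

/-- the relators, with the value of their central part -/
def relWords : List (List (Fin 2)) :=
  [[0, 0], [1, 1, 1], [0, 1, 0, 1, 0, 1, 0, 1], [1, 0, 1, 0, 1, 0, 1, 0]]

/-- central parts of the relators -/
def relBits (ε : Fin 4) : List Bool := [decide (ε.val % 2 = 1), false, decide (ε.val / 2 = 1), decide (ε.val / 2 = 1)]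

/-- index of an edge -/
def eix (p : Fin 24) (g : Fin 2) : ℕ := 2 * p.val + g.val

/-- follow a word along known edges -/
def follow (ε : Fin 4) (mask : ℕ) : List (Fin 2) → Fin 24 → Option (Fin 24 × Bool)
  | [], p => some (p, false)
  | g :: r, p =>
    if mask.testBit (eix p g) then
      (follow ε mask r (pmul p (pts g))).map fun t => (t.1, xor (cbit ε p (pts g)) t.2)
    else none

/-- one derivation of an edge -/
def stepOK (ε : Fin 4) (mask : ℕ) (s : ℕ × ℕ) : Option ℕ :=
  let r := relWords.getD s.2 []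
  let q : Fin 24 := ⟨s.1 % 24, Nat.mod_lt _ (by norm_num)⟩
  let g := r.getLastD 0
  match follow ε mask r.dropLast (pmul q (pts g)) with
  | some (e, c) => if e = q ∧ cbit ε q (pts g) = xor ((relBits ε).getD s.2 false) c ∧ s.2 < 4 then
      some (mask ||| 2 ^ eix q g) else none
  | none => none

/-- all derivations -/
def stepsOK (ε : Fin 4) : List (ℕ × ℕ) → ℕ → Option ℕ
  | [], mask => some mask
  | s :: r, mask => (stepOK ε mask s).bind (stepsOK ε r)

end Cfsg.Lib.AutThreeFour
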