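import Mathlib
import Cfsg.Agent.AutThreeFour.Code
import Cfsg.Agent.AutThreeFour.ClassData

/-!
Classes of involutions of the models and numbers of square roots in their centralisers.
-/

set_option autoImplicit false
set_option maxRecDepth 20000

namespace Cfsg.Lib.AutThreeFour

variable {ε : Fin 4}

/-- label: `0` for the trivial and central elements, `1` to `5` for the classes -/
def lab (x : M ε) : ℕ := get (labTab.getD ε.val 0) 3 x.val

/-- conjugator to the representative -/
def cw (x : M ε) : M ε := M.mk (get (conjTab.getD ε.val 0) 10 x.val)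

/-- representative of a class -/
def repM (ε : Fin 4) (k : ℕ) : M ε := M.mk ((repTab.getD ε.val []).getD (k - 1) 0)

theorem zM_spec : ∀ ε : Fin 4, (zM : M ε) * zM = 1 ∧ (zM : M ε) ≠ 1 ∧ ∀ x : M ε, zM * x = x * zM := by
  decide +kernel

theorem center_spec : ∀ ε : Fin 4, ∀ x : M ε, x * M.mk 1 = M.mk 1 * x → x * M.mk 2 = M.mk 2 * x →
    x * M.mk 48 = M.mk 48 * x → x = 1 ∨ x = zM := by decide +kernel

theorem lab_invol : ∀ ε : Fin 4, ∀ x : M ε, x * x = 1 → x ≠ 1 → (lab x = 0 ∧ x = zM) ∨
    (1 ≤ lab x ∧ lab x ≤ 5 ∧ cw x * x * (cw x)⁻¹ = repM ε (lab x)) := by decide +kernel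

theorem lab_zero : ∀ ε : Fin 4, lab (zM : M ε) = 0 := by decide +kernel

theorem lab_pos : ∀ ε : Fin 4, ∀ x : M ε, lab x ≠ 0 → x * x = 1 ∧ x ≠ 1 ∧ x ≠ zM := by decide +kernel

/-- the number of square roots of `s` centralising `t` -/
def roots (t s : M ε) : ℕ := ((List.finRange 768).filter fun i =>
  let x : M ε := M.mk i.val
  decide (x * t = t * x ∧ x * x = s)).length

theorem roots_facts : ∀ ε : Fin 4, ∀ k : Fin 6, 1 ≤ k.val → (∃ x : M ε, lab x = k.val) →
    0 < roots (repM ε k.val) zM ∧ (3 ≤ k.val → roots (repM ε k.val) (repM ε k.val) = 0) ∧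
    (k.val = 1 → ε.val ≠ 0 → roots (repM ε 1) zM ≠ roots (repM ε 1) (repM ε 1)) ∧
    (k.val = 1 → ε.val ≠ 0 → roots (repM ε 1) zM ≠ 4) ∧
    (k.val = 1 → roots (repM ε 1) (repM ε 1) = 12) ∧
    (k.val = 2 → roots (repM ε 2) zM = 4 ∧ roots (repM ε 2) (repM ε 2) = 4) := by decide +kernel

theorem lab_two : ∀ ε : Fin 4, 2 ≤ ε.val → ∀ x : M ε, lab x ≠ 2 := by decide +kernel

/-- membership in the set consisting of the centre involution and the second class -/
def inTwo (x : M ε) : Bool := (lab x == 0 && decide (x = zM)) || lab x == 2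

/-- partners of `s` in that set -/
def partners (t s : M ε) : ℕ := ((List.finRange 768).filter fun i =>
  let x : M ε := M.mk i.val
  inTwo x && inTwo (s * x) && decide (x * t = t * x)).length

theorem partners_facts : ∀ ε : Fin 4, ε.val ≤ 1 →
    partners (repM ε 2) zM = 12 ∧ partners (repM ε 2) (repM ε 2) = 10 := by decide +kernel

end Cfsg.Lib.AutThreeFour
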