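import Mathlib
import Cfsg.Prelude.Def_CaseTheorems
import Cfsg.Agent.InvolCalc.ZStarApps
import Cfsg.Agent.Chars.Burnside

/-!
The odd core and the case of an isolated involution.
-/

set_option autoImplicit false
set_option linter.style.haveILetI false

namespace Cfsg.Lib.AutThreeFour

open Subgroup

variable {G : Type*} [Group G] [Finite G]

/-- An involution without fixed points on an invariant subgroup inverts it. -/
theorem inverts_of_fpf {z : G} (hz : z * z = 1) (N : Subgroup G) (hN : ∀ n ∈ N, z * n * z ∈ N)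
    (hfix : ∀ n ∈ N, n * z = z * n → n = 1) : ∀ n ∈ N, z * n * z = n⁻¹ := by
  have hzz : ∀ x : G, z * (z * x) = x := fun x => by rw [← mul_assoc, hz, one_mul]
  let f : N → N := fun n => ⟨n.1⁻¹ * (z * n.1 * z), N.mul_mem (N.inv_mem n.2) (hN _ n.2)⟩
  have hinj : Function.Injective f := by
    intro a b h
    have h' : a.1⁻¹ * (z * a.1 * z) = b.1⁻¹ * (z * b.1 * z) := congrArg Subtype.val h
    have h1 : b.1 * a.1⁻¹ = 1 := by
      refine hfix _ (N.mul_mem b.2 (N.inv_mem a.2)) ?_
      calc b.1 * a.1⁻¹ * z = b.1 * (a.1⁻¹ * (z * a.1 * z)) * z * a.1⁻¹ * z * z := by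
            simp only [mul_assoc, hzz, hz, mul_one, mul_inv_cancel_left]
        _ = b.1 * (b.1⁻¹ * (z * b.1 * z)) * z * a.1⁻¹ * z * z := by rw [h']
        _ = _ := by simp only [mul_assoc, hzz, hz, mul_one, mul_inv_cancel_left]
    exact Subtype.ext (mul_inv_eq_one.1 h1).symm
  intro n hn
  obtain ⟨a, ha⟩ := (Finite.injective_iff_surjective.1 hinj) ⟨n, hn⟩
  have ha' : a.1⁻¹ * (z * a.1 * z) = n := congrArg Subtype.val ha
  rw [← ha']
  have hzi : z⁻¹ = z := inv_eq_of_mul_eq_one_right hz
  simp only [mul_inv_rev, inv_inv, hzi, mul_assoc, hzz, hz, mul_one]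

theorem odd_oddCore : Odd (Nat.card (Cfsg.oddCore G)) :=
  Nat.Coprime.odd_of_right (Cfsg.Lib.Components.coprime_card_pPrimeCore (G := G) 2)

/-- An odd subgroup normalised by a centraliser meets it trivially. -/
theorem inter_centralizer_eq_one (z : G) (E : Subgroup ↥(centralizer ({z} : Set G))) [E.Normal]
    (h32 : Nat.card E = 32) (hCE : centralizer (E : Set ↥(centralizer ({z} : Set G))) ≤ E)
    (N : Subgroup G) [N.Normal] (hodd : Odd (Nat.card N)) :
    ∀ n ∈ N, n * z = z * n → n = 1 := by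
  intro n hn hc
  set N' := N.subgroupOf (centralizer ({z} : Set G))
  let x : ↥(centralizer ({z} : Set G)) := ⟨n, mem_centralizer_singleton_iff.2 hc⟩
  have hx : x ∈ N' := hn
  have hdis : Disjoint N' E := by
    rw [disjoint_iff]
    refine Subgroup.eq_bot_of_card_eq _ (Nat.eq_one_of_dvd_coprimes (a := Nat.card N) (b := 32) ?_ ?_ ?_)
    · exact (Nat.Coprime.pow_right 5 (Nat.coprime_two_right.2 hodd) : Nat.Coprime (Nat.card N) (2 ^ 5))
    · exact (card_dvd_of_le inf_le_left).trans (Subgroup.card_comap_dvd_of_injective N _ (centralizer ({z} : Set G)).subtype_injective)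
    · rw [← h32]
      exact card_dvd_of_le inf_le_right
  have hxE : x ∈ E := hCE <| mem_centralizer_iff.2 fun u hu =>
    (commute_of_normal_of_disjoint N' E inferInstance inferInstance hdis x u hx hu).symm
  have := (disjoint_iff.1 hdis) ▸ (mem_inf.2 ⟨hx, hxE⟩ : x ∈ N' ⊓ E)
  exact congrArg Subtype.val (mem_bot.1 this)

theorem oddCore_inverted (z : G) (hz : orderOf z = 2) (E : Subgroup ↥(centralizer ({z} : Set G))) [E.Normal]
    (h32 : Nat.card E = 32) (hCE : centralizer (E : Set ↥(centralizer ({z} : Set G))) ≤ E) :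
    ∀ n ∈ Cfsg.oddCore G, z * n * z = n⁻¹ := by
  have hzz : z * z = 1 := by rw [← pow_two, ← hz, pow_orderOf_eq_one]
  refine inverts_of_fpf hzz _ (fun n hn => ?_) (inter_centralizer_eq_one z E h32 hCE _ odd_oddCore)
  have h := (inferInstance : (Cfsg.oddCore G).Normal).conj_mem n hn z
  rwa [inv_eq_of_mul_eq_one_right hzz] at h

theorem isMulCommutative_oddCore (z : G) (hz : orderOf z = 2) (E : Subgroup ↥(centralizer ({z} : Set G)))
    [E.Normal] (h32 : Nat.card E = 32) (hCE : centralizer (E : Set ↥(centralizer ({z} : Set G))) ≤ E) :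
    IsMulCommutative ↥(Cfsg.oddCore G) := by
  have hinv := oddCore_inverted z hz E h32 hCE
  have hzz : z * z = 1 := by rw [← pow_two, ← hz, pow_orderOf_eq_one]
  refine ⟨⟨fun a b => Subtype.ext ?_⟩⟩
  show a.1 * b.1 = b.1 * a.1
  have h := hinv _ (Subgroup.mul_mem _ (inv_mem a.2) (inv_mem b.2))
  rw [mul_inv_rev, inv_inv, inv_inv] at h
  have ha := hinv _ (inv_mem a.2)
  have hb := hinv _ (inv_mem b.2)
  rw [inv_inv] at ha hb
  calc a.1 * b.1 = z * a.1⁻¹ * z * (z * b.1⁻¹ * z) := by rw [ha, hb]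
    _ = z * a.1⁻¹ * (z * z) * b.1⁻¹ * z := by group
    _ = z * (a.1⁻¹ * b.1⁻¹) * z := by rw [hzz]; group
    _ = b.1 * a.1 := h

/-- An isolated involution with such a centraliser forces solvability. -/
theorem isSolvable_of_isolated (z : G) (hz : orderOf z = 2) (E : Subgroup ↥(centralizer ({z} : Set G))) [E.Normal]
    (h32 : Nat.card E = 32) (hCE : centralizer (E : Set ↥(centralizer ({z} : Set G))) ≤ E)
    (hC : Nat.card ↥(centralizer ({z} : Set G)) = 768)
    (hiso : ∀ g : G, Commute z (g * z * g⁻¹) → g * z * g⁻¹ = z) : Group.IsSolvable G := by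
  have hinv := oddCore_inverted z hz E h32 hCE
  have hzz : z * z = 1 := by rw [← pow_two, ← hz, pow_orderOf_eq_one]
  have hzi : z⁻¹ = z := inv_eq_of_mul_eq_one_right hzz
  set O := Cfsg.oddCore G
  have hzs : ∀ g : G, z * g * z⁻¹ * g⁻¹ ∈ O := Cfsg.Lib.ZStarApps.zstarProp ⟨hz, hiso⟩
  haveI : Group.IsSolvable O := by
    haveI := isMulCommutative_oddCore z hz E h32 hCE
    exact Group.isSolvable_of_comm fun a b => mul_comm' a b
  haveI : Group.IsSolvable ↥(centralizer ({z} : Set G)) :=
    Cfsg.Lib.Chars.burnside_isSolvable 2 3 Nat.prime_two Nat.prime_three _ ⟨8, 1, by rw [hC]; norm_num⟩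
  let f : ↥(centralizer ({z} : Set G)) →* G ⧸ O := (QuotientGroup.mk' O).comp (centralizer ({z} : Set G)).subtype
  have hsurj : Function.Surjective f := by
    intro q
    obtain ⟨g, rfl⟩ := QuotientGroup.mk_surjective q
    -- correct `g` by a square root
    set o := z * g * z⁻¹ * g⁻¹ with ho
    obtain ⟨⟨r, hr⟩, hr2⟩ := (Finite.injective_iff_surjective.1
      (powCoprime (n := 2) (Nat.coprime_two_right.2 (odd_oddCore (G := G)))).injective) ⟨o, hzs g⟩
    have hr2' : r * r = o := by
      have := congrArg Subtype.val hr2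
      simpa [powCoprime, pow_two] using this
    refine ⟨⟨r * g, mem_centralizer_singleton_iff.2 ?_⟩, ?_⟩
    · have h1 := hinv r hr
      calc r * g * z = r * (g * z * g⁻¹ * z) * (z * g) := by
            simp only [mul_assoc, inv_mul_cancel_left]
            rw [← mul_assoc z z, hzz, one_mul, inv_mul_cancel, mul_one]
        _ = r * o⁻¹ * (z * g) := by rw [ho]; simp only [mul_inv_rev, inv_inv, hzi, mul_assoc]
        _ = r * (r * r)⁻¹ * (z * g) := by rw [hr2']
        _ = r⁻¹ * (z * g) := by rw [mul_inv_rev, mul_inv_cancel_left]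
        _ = z * r * z * (z * g) := by rw [h1]
        _ = _ := by rw [← mul_assoc (z * r * z) z g, mul_assoc (z * r), hzz, mul_one, mul_assoc]
    · show ((r * g : G) : G ⧸ O) = (g : G ⧸ O)
      rw [QuotientGroup.mk_mul, (QuotientGroup.eq_one_iff r).2 hr, one_mul]
  haveI : Group.IsSolvable (G ⧸ O) := Group.isSolvable_of_surjective hsurj
  exact Group.isSolvable_of_ker_le_range O.subtype (QuotientGroup.mk' O) (by simp)

end Cfsg.Lib.AutThreeFour
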