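import Mathlib
import Cfsg.Agent.AutThreeFour.Classes
import Cfsg.Agent.AutThreeFour.SplitData

/-!
Computations in the split model.
-/

set_option autoImplicit false
set_option maxRecDepth 20000

namespace Cfsg.Lib.AutThreeFour

/-- the split model -/
abbrev H0 : Type := M 0

/-- the members of a mask -/
def members (mask : ℕ) : List H0 := ((List.finRange 768).map fun i => (M.mk i.val : H0)).filter fun x => mask.testBit x.val

/-- membership -/
def inMask (mask : ℕ) (x : H0) : Bool := mask.testBit x.val

/-- closedness of a mask -/
def maskOK (mask : ℕ) : Bool :=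
  inMask mask 1 && (members mask).all fun x => (members mask).all fun y => inMask mask (x * y⁻¹)

theorem mk_val (x : H0) : (M.mk x.val : H0) = x := Fin.ext (n := 768) (Nat.mod_eq_of_lt x.isLt)

theorem mem_members {mask : ℕ} {x : H0} : x ∈ members mask ↔ inMask mask x = true := by
  simp only [members, List.mem_filter, List.mem_map, List.mem_finRange, true_and]
  exact ⟨fun h => h.2, fun h => ⟨⟨⟨x.val, x.isLt⟩, mk_val x⟩, h⟩⟩

theorem mask_ok : maskOK sylMask = true ∧ maskOK eMask = true ∧ maskOK phiMask = true ∧ maskOK gamMask = true ∧
    maskOK vMask = true ∧ maskOK aMask = true ∧ maskOK AMask = true ∧ maskOK BMask = true ∧ maskOK NAMask = true := by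
  decide +kernel

/-- the subgroup of a closed mask -/
def maskSub (mask : ℕ) (h : maskOK mask = true) : Subgroup H0 where
  carrier := {x | inMask mask x = true}
  one_mem' := by
    simp only [maskOK, Bool.and_eq_true] at h
    exact h.1
  mul_mem' := by
    intro x y hx hy
    simp only [maskOK, Bool.and_eq_true, List.all_eq_true, mem_members] at h
    have := h.2 x hx (y⁻¹) (by
      have := h.2 1 h.1 y hy
      rwa [one_mul] at this)
    rwa [inv_inv] at this
  inv_mem' := by
    intro y hy
    simp only [maskOK, Bool.and_eq_true, List.all_eq_true, mem_members] at h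
    have := h.2 1 h.1 y hy
    rwa [one_mul] at this

theorem mem_maskSub {mask : ℕ} {h : maskOK mask = true} {x : H0} : x ∈ maskSub mask h ↔ inMask mask x = true := Iff.rfl

theorem card_maskSub {mask : ℕ} (h : maskOK mask = true) :
    Nat.card (maskSub mask h) = ((List.finRange 768).filter fun i => inMask mask (M.mk i.val)).length := by
  classical
  let e : Fin 768 ≃ H0 := Equiv.refl _
  have h1 : ((List.finRange 768).filter fun i => inMask mask (M.mk i.val)).toFinset =
      Finset.univ.filter fun i : Fin 768 => inMask mask (e i) = true := by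
    ext i
    simp [show (M.mk i.val : H0) = e i from mk_val (e i)]
  rw [← List.toFinset_card_of_nodup ((List.nodup_finRange 768).filter _), h1, ← Fintype.card_subtype,
    ← Nat.card_eq_fintype_card]
  exact (Nat.card_congr (e.subtypeEquiv fun i => Iff.rfl)).symm

theorem mask_cards : ((List.finRange 768).filter fun i => inMask sylMask (M.mk i.val)).length = 256 ∧
    ((List.finRange 768).filter fun i => inMask eMask (M.mk i.val)).length = 32 ∧
    ((List.finRange 768).filter fun i => inMask phiMask (M.mk i.val)).length = 32 ∧
    ((List.finRange 768).filter fun i => inMask gamMask (M.mk i.val)).length = 16 ∧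
    ((List.finRange 768).filter fun i => inMask vMask (M.mk i.val)).length = 128 ∧
    ((List.finRange 768).filter fun i => inMask aMask (M.mk i.val)).length = 32 ∧
    ((List.finRange 768).filter fun i => inMask AMask (M.mk i.val)).length = 16 ∧
    ((List.finRange 768).filter fun i => inMask BMask (M.mk i.val)).length = 16 ∧
    ((List.finRange 768).filter fun i => inMask NAMask (M.mk i.val)).length = 384 := by decide +kernel

/-- representatives -/
def vM : H0 := M.mk 720
/-- representative of the second class -/
def aM : H0 := M.mk 22
/-- representative on the other side -/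
def bM : H0 := M.mk 598
/-- representative of the third class -/
def eM : H0 := M.mk 48
/-- the field automorphism -/
def phiM : H0 := M.mk 1
/-- representative of the fifth class -/
def gamM : H0 := M.mk 68

theorem rep_spec : repM 0 1 = vM ∧ repM 0 2 = aM ∧ repM 0 3 = eM ∧ repM 0 4 = phiM ∧ repM 0 5 = gamM ∧
    lab vM = 1 ∧ lab aM = 2 ∧ lab bM = 2 ∧ lab eM = 3 ∧ lab phiM = 4 ∧ lab gamM = 5 := by decide +kernel

theorem cent_masks : (∀ x : H0, inMask eMask x = true → x * eM = eM * x) ∧
    (∀ x : H0, inMask phiMask x = true ↔ x * phiM = phiM * x) ∧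
    (∀ x : H0, inMask gamMask x = true ↔ x * gamM = gamM * x) ∧
    (∀ x : H0, inMask vMask x = true → x * vM = vM * x) ∧
    (∀ x : H0, inMask aMask x = true ↔ x * aM = aM * x) := by decide +kernel

/-- central members -/
def centralIn (mask : ℕ) (x : H0) : Bool := inMask mask x && (members mask).all fun y => decide (x * y = y * x)

theorem central_members : ∀ x : H0,
    (centralIn sylMask x = true → x = 1 ∨ x = zM) ∧
    ((centralIn eMask x || centralIn phiMask x || centralIn gamMask x) = true → lab x ≠ 1 ∧ lab x ≠ 2) ∧
    (inMask eMask zM ∧ inMask phiMask zM ∧ inMask gamMask zM ∧ centralIn eMask zM ∧ centralIn phiMask zM ∧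
      centralIn gamMask zM) := by decide +kernel

/-- counting the members with trivial square, fourth power -/
def sqCount (mask : ℕ) : ℕ × ℕ :=
  (((members mask).filter fun x => decide (x * x = 1)).length,
    ((members mask).filter fun x => decide (x * x * (x * x) = 1)).length)

theorem sq_counts : sqCount eMask = (12, 24) ∧ sqCount phiMask = (20, 24) ∧ sqCount aMask = (20, 32) := by
  decide +kernel

/-- the two characters -/
def chP (x : H0) : Bool := (treeWords.getD (pp x).val []).count 0 % 2 == 1
/-- parity in the extraspecial group -/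
def chE (x : H0) : Bool :=
  let a := (ep x).val
  xor (xor (a.testBit 1) (a.testBit 2)) (xor (a.testBit 3) (a.testBit 4))

theorem chP_pts : ∀ p q : Fin 24, chP (pr 0 (pmul p q)) = xor (chP (pr 0 p)) (chP (pr 0 q)) := by decide +kernel
theorem chP_eq : ∀ x : H0, chP x = chP (pr 0 (pp x)) := by decide +kernel
theorem chE_eq : ∀ x : H0, chE x = chE (pr (ep x) 0) := by decide +kernel
theorem chE_act : ∀ p : Fin 24, ∀ a : Fin 32, chE (pr (act p a) 0) = chE (pr a 0) := by decide +kernel
theorem chE_emul : ∀ a b : Fin 32, chE (pr (emul a b) 0) = xor (chE (pr a 0)) (chE (pr b 0)) := by decide +kernel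
theorem chE_zb : ∀ b : Bool, chE (pr (zb b) 0) = false := by decide +kernel

theorem chP_mul (x y : H0) : chP (x * y) = xor (chP x) (chP y) := by
  conv_lhs => rw [← pr_parts x, ← pr_parts y, mul_pr, chP_eq, (parts_pr _ _).2, chP_pts]
  rw [← chP_eq, ← chP_eq]

theorem chE_mul (x y : H0) : chE (x * y) = xor (chE x) (chE y) := by
  conv_lhs => rw [← pr_parts x, ← pr_parts y, mul_pr, chE_eq, (parts_pr _ _).1, chE_emul, chE_emul, chE_zb, chE_act]
  rw [← chE_eq, ← chE_eq, Bool.xor_false]

/-- the derived group -/
def inH1 (x : H0) : Bool := !chP x && !chE x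

theorem char_values : chP eM = false ∧ chE eM = true ∧ chP phiM = true ∧ chE phiM = false ∧ chP gamM = true ∧
    chE gamM = true := by decide +kernel

theorem lab_chars : ∀ x : H0, (lab x = 1 → inH1 x = true) ∧ (lab x = 2 → inH1 x = true) ∧
    (lab x = 3 → chP x = false ∧ chE x = true) ∧ (lab x = 4 → chP x = true ∧ chE x = false) ∧
    (lab x = 5 → chP x = true ∧ chE x = true) ∧ inH1 (zM : H0) = true := by decide +kernel

/-- square roots for a pair of squares -/
def sqWit (x : H0) : H0 × H0 := (M.mk (get sqWitTab 20 x.val % 1024), M.mk (get sqWitTab 20 x.val / 1024))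

theorem squares_gen : ∀ x : H0, inH1 x = true →
    x = (sqWit x).1 * (sqWit x).1 * ((sqWit x).2 * (sqWit x).2) := by decide +kernel

theorem card_H1 : ((List.finRange 768).filter fun i => inH1 (M.mk i.val)).length = 192 := by decide +kernel

theorem syl_reps : ∀ k : Fin 3,
    inMask sylMask (M.mk (sylReps.getD k.val 0)) = true ∧ lab (M.mk (sylReps.getD k.val 0) : H0) = k.val + 3 := by
  decide +kernel

/-- membership in the first abelian subgroup -/
def inA (x : H0) : Bool := inMask AMask x
/-- membership in the second abelian subgroup -/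
def inB (x : H0) : Bool := inMask BMask x

theorem elementary_AB : ∀ x : H0, (inA x = true → x * x = 1 ∧ inH1 x = true) ∧ (inB x = true → x * x = 1 ∧ inH1 x = true) := by
  decide +kernel

theorem invol_H1 : ∀ x : H0, inH1 x = true → x * x = 1 → (inA x || inB x) = true := by decide +kernel

theorem inter_AB : ∀ x : H0, (inA x && inB x) = true ↔ x = 1 ∨ x = zM ∨ lab x = 1 := by decide +kernel

theorem lab_AB : ∀ x : H0, (inA x || inB x) = true → x = 1 ∨ x = zM ∨ lab x = 1 ∨ lab x = 2 := by decide +kernel

theorem gens_H1 : inA zM = true ∧ inB zM = true ∧ inA vM = true ∧ inB vM = true ∧ inA aM = true ∧ inB aM = false ∧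
    inB bM = true ∧ inA bM = false ∧ inA (zM * vM : H0) = true ∧ lab (zM * vM : H0) = 1 := by decide +kernel

/-- the graph element exchanging the two subgroups -/
def grM : H0 := M.mk 192

theorem grM_spec : grM * phiM = phiM * grM ∧ (members AMask).all (fun x => inB (grM * x * grM⁻¹)) = true ∧
    (members BMask).all (fun x => inA (grM * x * grM⁻¹)) = true := by decide +kernel

theorem normal_AB : (members AMask).all (fun a => (members NAMask).all fun g => inA (g * a * g⁻¹)) = true ∧
    (members BMask).all (fun b => (members NAMask).all fun g => inB (g * b * g⁻¹)) = true := by decide +kernel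

theorem NA_spec : ∀ x : H0, (inH1 x = true → inMask NAMask x = true) ∧
    (inMask NAMask x = false → inB (x * aM * x⁻¹) = true ∧ inA (x * aM * x⁻¹) = false) := by decide +kernel

theorem commutators : (members AMask).all (fun a => (members BMask).all fun b => (inB a || inA b) ||
    (decide (a * b ≠ b * a) && (inA (a * b * a⁻¹ * b⁻¹) && inB (a * b * a⁻¹ * b⁻¹)))) = true := by decide +kernel

theorem cent_AB : ∀ x : H0, (inH1 x = true → x * aM = aM * x → inA x = true) ∧
    (inH1 x = true → x * vM = vM * x) ∧ (inH1 x = true → x * bM = bM * x → inB x = true) := by decide +kernel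

/-- conjugator inside the derived group -/
def cwA (x : H0) : H0 := M.mk (get cwATab 10 x.val)
/-- conjugator inside the normaliser -/
def cwN (x : H0) : H0 := M.mk (get cwNTab 10 x.val)

theorem cwA_spec : ∀ x : H0, lab x = 2 → inH1 (cwA x) = true ∧
    cwA x * x * (cwA x)⁻¹ = if inA x then aM else bM := by decide +kernel

theorem cwN_spec : ∀ x : H0, lab x = 4 → inMask NAMask x = true →
    inMask NAMask (cwN x) = true ∧ cwN x * x * (cwN x)⁻¹ = phiM := by decide +kernel

/-- the unique involution of a cyclic group generated by a product -/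
def hitsZ (x : H0) : Bool := (List.range 12).any fun k => decide ((List.replicate (k + 1) x).prod = zM)

/-- the pairs counted by the order formula -/
def zPhiPairs : ℕ :=
  let X := ((List.finRange 768).map fun i => (M.mk i.val : H0)).filter fun x => x == zM || lab x == 1 || lab x == 2
  let Y := ((List.finRange 768).map fun i => (M.mk i.val : H0)).filter fun x => lab x == 4
  (X.map fun x => (Y.filter fun y => hitsZ (x * y)).length).sum

theorem zPhiPairs_eq : zPhiPairs = 144 := by decide +kernel

/-- the pairs for the two one-sided classes -/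
def abPairs : ℕ :=
  let X := (members AMask).filter fun x => !inB x
  let Y := (members BMask).filter fun x => !inA x
  (X.map fun x => (Y.filter fun y => decide (x * y * (x * y) = zM)).length).sum

theorem abPairs_eq : abPairs = 48 := by decide +kernel

theorem invol_phi_coset : ∀ x : H0, x * x = 1 → x ≠ 1 → chE x = false → chP x = true → lab x = 4 := by
  decide +kernel

theorem phi_cent : ∀ x : H0, inH1 x = true → x * phiM = phiM * x → x * x = 1 → x ≠ 1 → x ≠ zM →
    lab x = 2 ∧ lab (x * phiM) = 4 ∧
      ((inA x = true ∧ (x = aM ∨ x = aM * zM)) ∨ (inB x = true ∧ (x = bM ∨ x = bM * zM))) := by decide +kernel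

end Cfsg.Lib.AutThreeFour
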