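import Mathlib
import Cfsg.Agent.AutThreeFour.Split
import Cfsg.Agent.LocalThree.HallJankoType.OrderFormula

/-!
Computations for the full case and counting with a dihedral centraliser of order eight.
-/

set_option autoImplicit false
set_option maxRecDepth 20000

namespace Cfsg.Lib.AutThreeFour

open Subgroup Cfsg.Lib.HallJankoType

/-- powers of the element of order four -/
def rotM (i : ZMod 4) : H0 :=
  if i = 0 then 1 else if i = 1 then aM * bM else if i = 2 then aM * bM * (aM * bM) else bM * aM

/-- the dihedral group inside the centraliser of both involutions -/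
def dihFun : DihedralGroup 4 → H0
  | .r i => rotM i
  | .sr i => aM * rotM i

theorem dihFun_mul : ∀ d e : DihedralGroup 4, dihFun (d * e) = dihFun d * dihFun e := by decide +kernel

/-- the homomorphism onto the centraliser of both involutions in the derived group -/
def dihHom : DihedralGroup 4 →* H0 := MonoidHom.mk' dihFun dihFun_mul

theorem dihHom_apply (d : DihedralGroup 4) : dihHom d = dihFun d := rfl

theorem dihFun_facts : (∀ d : DihedralGroup 4, inH1 (dihFun d) = true ∧ dihFun d * phiM = phiM * dihFun d) ∧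
    (∀ d e : DihedralGroup 4, dihFun d = dihFun e → d = e) ∧
    dihFun (.r 2) = zM ∧ dihFun (.sr 0) = aM ∧ dihFun (.sr 1) = bM ∧
    (∀ x : H0, inH1 x = true → x * phiM = phiM * x → ∃ d : DihedralGroup 4, dihFun d = x) := by decide +kernel

theorem dih_spec : (∀ i : ZMod 4, ∃ d : DihedralGroup 4,
      d * .sr i * d⁻¹ = .sr 0 ∨ d * .sr i * d⁻¹ = .sr 1) ∧
    (∀ d : DihedralGroup 4, d * d = 1 → d ≠ 1 → d = .r 2 ∨ ∃ i : ZMod 4, d = .sr i) ∧
    (∀ d : DihedralGroup 4, d * d = 1 → d * .r 2 = .r 2 * d) ∧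
    (∀ i : ZMod 4, (Finset.univ.filter fun d : DihedralGroup 4 =>
      d * d = 1 ∧ d ≠ 1 ∧ ∃ k : Fin 4, (.sr i * d) ^ (k.val + 1) = .r 2).card = 3) ∧
    (∀ g : DihedralGroup 4, g ^ 4 = 1) ∧
    (Finset.univ.filter fun d : DihedralGroup 4 => d * d = 1 ∧ d ≠ 1 ∧ d ≠ .r 2).card = 4 := by decide +kernel

theorem full_facts : aM * phiM = phiM * aM ∧ inMask NAMask phiM = true ∧ phiM * phiM = 1 ∧ phiM ≠ 1 ∧
    grM * phiM = phiM * grM ∧ chP phiM = true ∧ chE phiM = false ∧
    (chE grM = true) ∧ grM * zM = zM * grM ∧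
    (∃ i : ZMod 4, (i = 1 ∨ i = 3) ∧ grM * aM * grM⁻¹ = dihFun (.sr i)) ∧
    (∀ x : H0, x ^ 24 = 1) ∧ inMask phiMask grM = true := by decide +kernel

/-- a power equal to an involution is the half power -/
theorem half_pow_eq {X : Type*} [Group X] [Finite X] {g i : X} (hi : orderOf i = 2) {k : ℕ} (hk : g ^ k = i) :
    g ^ (orderOf g / 2) = i ∧ Even (orderOf g) := by
  have hd : 2 ∣ orderOf g := hi ▸ hk ▸ orderOf_pow_dvd k
  obtain ⟨r, hr⟩ := hd
  refine ⟨?_, ⟨r, by omega⟩⟩
  rw [hr, Nat.mul_div_cancel_left r two_pos]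
  have h2 : orderOf g ∣ k * 2 := orderOf_dvd_of_pow_eq_one (by
    rw [pow_mul, hk, ← hi, pow_orderOf_eq_one])
  rw [hr, mul_comm k 2] at h2
  obtain ⟨s, rfl⟩ := Nat.dvd_of_mul_dvd_mul_left two_pos h2
  rcases Nat.even_or_odd s with ⟨t, rfl⟩ | ⟨t, rfl⟩
  · have h1 : g ^ (r * (t + t)) = 1 := by
      rw [show r * (t + t) = 2 * r * t by ring, ← hr, pow_mul, pow_orderOf_eq_one, one_pow]
    rw [h1] at hk
    rw [← hk, orderOf_one] at hi
    omega
  · rw [show r * (2 * t + 1) = 2 * r * t + r by ring, ← hr, pow_add, pow_mul, pow_orderOf_eq_one, one_pow, one_mul]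
      at hk
    exact hk

/-- Pairs of involutions with product of odd order in a group with dihedral centraliser of order eight
and five fused involutions there. -/
theorem odd_pairs {K : Type*} [Group K] [Finite K] (z : K) (hz : orderOf z = 2) (f : DihedralGroup 4 →* K)
    (hf : Function.Injective f) (hr : f (.r 2) = z) (hC : f.range = centralizer ({z} : Set K))
    (hconj : ∀ i : ZMod 4, IsConj z (f (.sr i))) :
    ∃ n, n * 8 = Nat.card K ∧
      Nat.card {p : K × K // orderOf p.1 = 2 ∧ orderOf p.2 = 2 ∧ Odd (orderOf (p.1 * p.2))} + n * 12 = n * n := by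
  classical
  letI := Fintype.ofFinite K
  have hC8 : Nat.card (centralizer ({z} : Set K)) = 8 := by
    rw [← hC, ← Nat.card_congr (MonoidHom.ofInjective hf).toEquiv, DihedralGroup.nat_card]
  have hfo : ∀ d, orderOf (f d) = orderOf d := orderOf_injective f hf
  -- involutions of the centraliser
  have hin : ∀ x : K, orderOf x = 2 → x * z = z * x → x = z ∨ ∃ i, x = f (.sr i) := by
    intro x hx hxz
    obtain ⟨d, rfl⟩ : x ∈ f.range := hC ▸ mem_centralizer_singleton_iff.2 hxz
    rw [hfo] at hx
    rcases dih_spec.2.1 d (by rw [← pow_two, ← hx, pow_orderOf_eq_one])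
      (fun h => by rw [h, orderOf_one] at hx; omega) with rfl | ⟨i, rfl⟩
    · exact Or.inl hr
    · exact Or.inr ⟨i, rfl⟩
  have hinc : ∀ x : K, orderOf x = 2 → x * z = z * x → IsConj z x := fun x hx hxz => by
    rcases hin x hx hxz with rfl | ⟨i, rfl⟩
    exacts [IsConj.refl _, hconj i]
  have hone : ∀ v : K, orderOf v = 2 → IsConj z v := by
    intro v hv
    by_contra hne
    have he := even_of_not_conj hz hv hne
    obtain ⟨hi, hzi, hvi⟩ := Cfsg.Lib.InvolCalc.central_spec hz hv he
    set i := (z * v) ^ (orderOf (z * v) / 2)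
    obtain ⟨g, hg⟩ := isConj_iff.1 (hinc i hi hzi)
    refine hne ((hinc (g⁻¹ * v * g) ?_ ?_).trans (isConj_iff.2 ⟨g, by group⟩))
    · refine order_two_of_conj hv (isConj_iff.2 ⟨g⁻¹, by rw [inv_inv]⟩)
    · calc g⁻¹ * v * g * z = g⁻¹ * (v * (g * z * g⁻¹)) * g := by group
        _ = g⁻¹ * (g * z * g⁻¹ * v) * g := by rw [hg, hvi]
        _ = _ := by group
  set n := Nat.card {x // IsConj z x} with hn
  have hnK : n * 8 = Nat.card K := by rw [← hC8]; exact card_class_mul z
  refine ⟨n, hnK, ?_⟩
  let I : Finset K := Finset.univ.filter fun x => orderOf x = 2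
  have hI : ∀ x, x ∈ I ↔ orderOf x = 2 := fun x => by simp [I]
  have hIn : I.card = n := by
    rw [hn, Nat.card_eq_fintype_card, Fintype.card_subtype]
    congr 1
    ext x
    simp only [I, Finset.mem_filter, Finset.mem_univ, true_and]
    exact ⟨hone x, order_two_of_conj hz⟩
  -- the partners of a fixed involution with product of even order
  have key : ∀ x ∈ I, (I.filter fun v => Even (orderOf (x * v))).card = 12 := by
    intro x hx
    obtain ⟨g, hg⟩ := isConj_iff.1 (hone x ((hI x).1 hx))
    have hzx : (I.filter fun v => Even (orderOf (z * v))).card = (I.filter fun v => Even (orderOf (x * v))).card := by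
      refine Finset.card_equiv (MulAut.conj g).toEquiv fun v => ?_
      simp only [Finset.mem_filter, hI, MulEquiv.toEquiv_eq_coe, EquivLike.coe_coe, MulEquiv.orderOf_eq]
      refine and_congr_right fun _ => ?_
      have hx' : x = MulAut.conj g z := hg.symm
      rw [hx', ← map_mul, MulEquiv.orderOf_eq]
    rw [← hzx]
    let W : Finset K := (Finset.univ : Finset (ZMod 4)).image fun i => f (.sr i)
    have hmaps : ∀ v ∈ I.filter (fun v => Even (orderOf (z * v))), pairInvol z v ∈ W := by
      intro v hv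
      rw [Finset.mem_filter, hI] at hv
      obtain ⟨hi, hzi, hvi⟩ := Cfsg.Lib.InvolCalc.central_spec hz hv.1 hv.2
      rcases hin _ hi hzi with h | ⟨i, h⟩
      · exfalso
        rw [h] at hvi
        have hcm : Commute z v := hvi
        have hsq : (z * v) ^ 2 = 1 := by
          rw [hcm.mul_pow, ← hz, pow_orderOf_eq_one, hz, ← hv.1, pow_orderOf_eq_one, one_mul]
        have h2 : orderOf (z * v) ∣ 2 := orderOf_dvd_of_pow_eq_one hsq
        obtain ⟨r, hr'⟩ := hv.2
        have : r = 1 := by
          have := Nat.le_of_dvd two_pos h2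
          have := orderOf_pos (z * v)
          omega
        rw [show orderOf (z * v) / 2 = 1 by omega, pow_one, mul_eq_left] at h
        rw [h, orderOf_one] at hv
        omega
      · exact Finset.mem_image.2 ⟨i, Finset.mem_univ _, h.symm⟩
    rw [Finset.card_eq_sum_card_fiberwise hmaps, Finset.sum_const_nat (m := 3)]
    · rw [Finset.card_image_of_injective _ fun i j h => DihedralGroup.sr.inj (hf h), Finset.card_univ, ZMod.card]
    intro w hw
    obtain ⟨i, -, rfl⟩ := Finset.mem_image.1 hw
    obtain ⟨k, hk⟩ := isConj_iff.1 (hconj i)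
    have hz' : k⁻¹ * z * k ∈ f.range := by
      rw [hC, mem_centralizer_singleton_iff]
      have hc : Commute z (f (.sr i)) := by
        have : (f (.sr i)) ∈ centralizer ({z} : Set K) := hC ▸ ⟨_, rfl⟩
        exact (mem_centralizer_singleton_iff.1 this).symm
      calc k⁻¹ * z * k * z = k⁻¹ * (z * (k * z * k⁻¹)) * k := by group
        _ = k⁻¹ * (k * z * k⁻¹ * z) * k := by rw [hk, hc.eq]
        _ = _ := by group
    obtain ⟨d, hd⟩ := hz'
    have hd2 : orderOf d = 2 := by
      rw [← hfo, hd]
      exact order_two_of_conj hz (isConj_iff.2 ⟨k⁻¹, by rw [inv_inv]⟩)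
    obtain ⟨j, rfl⟩ : ∃ j, d = .sr j := by
      rcases dih_spec.2.1 d (by rw [← pow_two, ← hd2, pow_orderOf_eq_one])
        (fun h => by rw [h, orderOf_one] at hd2; omega) with rfl | h
      · exfalso
        rw [hr] at hd
        have hkz : k * z = z * k := by
          calc k * z = k * (k⁻¹ * z * k) := by rw [← hd]
            _ = z * k := by group
        rw [hkz, mul_inv_cancel_right, ← hr] at hk
        exact absurd (hf hk) (by simp)
      · exact h
    rw [← dih_spec.2.2.2.1 j]
    refine (Finset.card_nbij (fun e => k * f e * k⁻¹) ?_ ?_ ?_).symm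
    · intro e he
      simp only [Finset.coe_filter, Finset.mem_filter, Finset.mem_univ, true_and, Set.mem_setOf_eq] at he ⊢
      obtain ⟨h1, h2, r, h3⟩ := he
      have he2 : orderOf (k * f e * k⁻¹) = 2 := by
        refine order_two_of_conj ?_ (isConj_iff.2 ⟨k, rfl⟩)
        rw [hfo]
        exact orderOf_eq_prime (by rw [pow_two, h1]) h2
      have hp : (z * (k * f e * k⁻¹)) ^ (r.val + 1) = f (.sr i) := by
        have h3' := congrArg f h3
        rw [map_pow, map_mul, hd, hr] at h3'
        rw [← hk, show z * (k * f e * k⁻¹) = k * (k⁻¹ * z * k * f e) * k⁻¹ by group, conj_pow, h3']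
      obtain ⟨hp1, hp2⟩ := half_pow_eq (by rw [← hk]; exact order_two_of_conj hz (isConj_iff.2 ⟨k, rfl⟩)) hp
      exact ⟨⟨(hI _).2 he2, hp2⟩, hp1⟩
    · intro e _ e' _ h
      exact hf (mul_left_cancel (mul_right_cancel h))
    · intro v hv
      simp only [Finset.coe_filter, Finset.mem_filter, Set.mem_setOf_eq, hI] at hv
      obtain ⟨⟨hv2, hev⟩, hp⟩ := hv
      obtain ⟨-, -, hvi⟩ := Cfsg.Lib.InvolCalc.central_spec hz hv2 hev
      rw [← pairInvol, hp, ← hk] at hvi
      obtain ⟨e, he⟩ : k⁻¹ * v * k ∈ f.range := by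
        rw [hC, mem_centralizer_singleton_iff]
        calc k⁻¹ * v * k * z = k⁻¹ * (v * (k * z * k⁻¹)) * k := by group
          _ = k⁻¹ * (k * z * k⁻¹ * v) * k := by rw [hvi]
          _ = _ := by group
      have he2 : orderOf e = 2 := by
        rw [← hfo, he]
        exact order_two_of_conj hv2 (isConj_iff.2 ⟨k⁻¹, by rw [inv_inv]⟩)
      refine ⟨e, ?_, by show k * f e * k⁻¹ = v; rw [he]; group⟩
      simp only [Finset.coe_filter, Finset.mem_univ, true_and, Set.mem_setOf_eq]
      refine ⟨by rw [← pow_two, ← he2, pow_orderOf_eq_one], fun h => by rw [h, orderOf_one] at he2; omega, ?_⟩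
      have hpow : (.sr j * e : DihedralGroup 4) ^ (orderOf (z * v) / 2) = .r 2 := by
        apply hf
        rw [map_pow, map_mul, hd, he, hr, show k⁻¹ * z * k * (k⁻¹ * v * k) = k⁻¹ * (z * v) * k⁻¹⁻¹ by group, conj_pow,
          ← pairInvol, hp, ← hk]
        group
      set m := orderOf (z * v) / 2
      have hm : (.sr j * e : DihedralGroup 4) ^ (m % 4) = .r 2 := by
        rw [← hpow]
        conv_rhs => rw [← Nat.mod_add_div m 4, pow_add, pow_mul, dih_spec.2.2.2.2.1, one_pow, mul_one]
      have hm0 : m % 4 ≠ 0 := fun h => by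
        rw [h, pow_zero] at hm
        exact absurd hm (by decide +kernel)
      exact ⟨⟨m % 4 - 1, by omega⟩, by rw [show m % 4 - 1 + 1 = m % 4 by omega]; exact hm⟩
  have hsplit : ∀ x ∈ I, (I.filter fun v => Odd (orderOf (x * v))).card + 12 = n := by
    intro x hx
    rw [← key x hx, ← hIn]
    simp only [← Nat.not_even_iff_odd]
    rw [add_comm, Finset.card_filter_add_card_filter_not]
  have e1 : Nat.card {p : K × K // orderOf p.1 = 2 ∧ orderOf p.2 = 2 ∧ Odd (orderOf (p.1 * p.2))} =
      ∑ x ∈ I, (I.filter fun v => Odd (orderOf (x * v))).card := by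
    rw [Nat.card_eq_fintype_card, Fintype.card_subtype, ← Finset.card_sigma]
    refine Finset.card_equiv (Equiv.sigmaEquivProd K K).symm fun p => ?_
    simp [hI]
  rw [e1]
  calc ∑ x ∈ I, (I.filter fun v => Odd (orderOf (x * v))).card + n * 12 =
        ∑ x ∈ I, ((I.filter fun v => Odd (orderOf (x * v))).card + 12) := by
        rw [Finset.sum_add_distrib, Finset.sum_const, hIn, smul_eq_mul]
    _ = n * n := by rw [Finset.sum_congr rfl hsplit, Finset.sum_const, hIn, smul_eq_mul]

end Cfsg.Lib.AutThreeFour
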