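import Mathlib
import Cfsg.Agent.AutThreeFour.Classes

/-!
Fusion of the involutions of the centraliser.
-/

set_option autoImplicit false
set_option maxRecDepth 20000

namespace Cfsg.Lib.AutThreeFour

theorem card_filter_range {ε : Fin 4} (p : M ε → Bool) :
    ((List.finRange 768).filter fun i => p (M.mk i.val)).length = Nat.card {x : M ε // p x = true} := by
  classical
  let e : Fin 768 ≃ M ε := Equiv.refl _
  have hmk : ∀ i : Fin 768, (M.mk i.val : M ε) = e i := fun i => Fin.ext (Nat.mod_eq_of_lt i.isLt)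
  have h1 : ((List.finRange 768).filter fun i => p (M.mk i.val)).toFinset =
      Finset.univ.filter fun i : Fin 768 => p (e i) = true := by
    ext i
    simp [hmk]
  rw [← List.toFinset_card_of_nodup ((List.nodup_finRange 768).filter _), h1, ← Fintype.card_subtype,
    ← Nat.card_eq_fintype_card]
  exact Nat.card_congr (e.subtypeEquiv fun i => Iff.rfl)

theorem roots_eq {ε : Fin 4} (t s : M ε) : roots t s = Nat.card {x : M ε // x * t = t * x ∧ x * x = s} := by
  rw [roots, card_filter_range fun x : M ε => decide (x * t = t * x ∧ x * x = s)]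
  exact Nat.card_congr ((Equiv.refl _).subtypeEquiv fun x => by simp)

theorem roots_conj {ε : Fin 4} (g t s : M ε) : roots (g * t * g⁻¹) (g * s * g⁻¹) = roots t s := by
  rw [roots_eq, roots_eq]
  refine (Nat.card_congr ((MulAut.conj g).toEquiv.subtypeEquiv fun x => ?_)).symm
  show x * t = t * x ∧ x * x = s ↔ g * x * g⁻¹ * (g * t * g⁻¹) = g * t * g⁻¹ * (g * x * g⁻¹) ∧
    g * x * g⁻¹ * (g * x * g⁻¹) = g * s * g⁻¹
  constructor
  · rintro ⟨h1, h2⟩
    exact ⟨by rw [conj_mul, conj_mul, h1], by rw [conj_mul, h2]⟩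
  · rintro ⟨h1, h2⟩
    rw [conj_mul] at h2
    rw [conj_mul, conj_mul] at h1
    exact ⟨(MulAut.conj g).injective h1, (MulAut.conj g).injective h2⟩

/-- a group with a centraliser of an involution isomorphic to a model -/
structure Setting (ε : Fin 4) (G : Type*) [Group G] where
  /-- the involution -/
  z : G
  hz : orderOf z = 2
  /-- the centraliser -/
  ψ : M ε →* G
  inj : Function.Injective ψ
  range_eq : ψ.range = Subgroup.centralizer {z}
  map_z : ψ zM = z

namespace Setting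

variable {ε : Fin 4} {G : Type*} [Group G] (S : Setting ε G)

/-- conjugate in the big group to the central involution -/
def InF (m : M ε) : Prop := IsConj S.z (S.ψ m)

theorem inF_z : S.InF zM := by
  unfold InF
  rw [S.map_z]

theorem mem_range {x : G} (h : x * S.z = S.z * x) : ∃ m, S.ψ m = x := by
  have : x ∈ S.ψ.range := by
    rw [S.range_eq, Subgroup.mem_centralizer_singleton_iff]
    exact h
  exact this

theorem comm_z (m : M ε) : S.ψ m * S.z = S.z * S.ψ m := by
  rw [← S.map_z, ← map_mul, ← map_mul, (zM_spec ε).2.2 m]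

theorem inF_conj {m : M ε} (h : S.InF m) (g : M ε) : S.InF (g * m * g⁻¹) :=
  h.trans (isConj_iff.2 ⟨S.ψ g, by rw [map_mul, map_mul, map_inv]⟩)

theorem inF_invol {m : M ε} (h : S.InF m) : m * m = 1 ∧ m ≠ 1 := by
  obtain ⟨g, hg⟩ := isConj_iff.1 h
  constructor
  · refine S.inj ?_
    rw [map_mul, map_one, ← hg, conj_mul, ← pow_two S.z, ← S.hz, pow_orderOf_eq_one, mul_one, mul_inv_cancel]
  · rintro rfl
    rw [map_one, conj_eq_one_iff] at hg
    have := S.hz
    rw [hg, orderOf_one] at this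
    omega

theorem inF_cases {m : M ε} (h : S.InF m) :
    m = zM ∨ (1 ≤ lab m ∧ lab m ≤ 5 ∧ cw m * m * (cw m)⁻¹ = repM ε (lab m)) := by
  obtain ⟨h1, h2⟩ := S.inF_invol h
  exact (lab_invol ε m h1 h2).imp And.right id

theorem inF_of_lab {m m' : M ε} (h : S.InF m) (hm : lab m ≠ 0) (hl : lab m' = lab m) : S.InF m' := by
  have hp := lab_pos ε m' (by omega)
  rcases lab_invol ε m' hp.1 hp.2.1 with ⟨h0, -⟩ | ⟨-, -, hc⟩
  · omega
  have hq := lab_pos ε m hm
  rcases lab_invol ε m hq.1 hq.2.1 with ⟨h0, -⟩ | ⟨-, -, hd⟩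
  · omega
  have h1 := S.inF_conj (S.inF_conj h (cw m)) (cw m')⁻¹
  rw [hd, ← hl, ← hc] at h1
  convert h1 using 1
  group

/-- a conjugation exchanging the roles of the central involution and a conjugate -/
theorem swap {t : M ε} (ht : S.InF t) (htz : t ≠ zM) :
    ∃ (t' : M ε) (β : {x : M ε // x * t = t * x} ≃ {x : M ε // x * t' = t' * x}),
      S.InF t' ∧ t' ≠ zM ∧ (∀ a b c : {x : M ε // x * t = t * x}, a.1 * b.1 = c.1 → (β a).1 * (β b).1 = (β c).1) ∧
      (∀ a, a.1 = t → (β a).1 = zM) ∧ (∀ a, a.1 = zM → (β a).1 = t') ∧ (∀ a, S.InF a.1 ↔ S.InF (β a).1) := by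
  obtain ⟨k, hk⟩ := isConj_iff.1 ht
  set g := k⁻¹ with hg
  have hgt : g * S.ψ t * g⁻¹ = S.z := by rw [← hk, hg]; group
  have hgz : g * S.z * g⁻¹ * S.z = S.z * (g * S.z * g⁻¹) := by
    conv_lhs => arg 2; rw [← hgt]
    conv_rhs => arg 1; rw [← hgt]
    rw [conj_mul, conj_mul, ← S.comm_z t]
  obtain ⟨t', ht'⟩ := S.mem_range hgz
  have hfwd : ∀ x : M ε, x * t = t * x → ∃ y : M ε, y * t' = t' * y ∧ S.ψ y = g * S.ψ x * g⁻¹ := by
    intro x hx
    obtain ⟨y, hy⟩ := S.mem_range (x := g * S.ψ x * g⁻¹) (by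
      rw [← hgt, conj_mul, conj_mul, ← map_mul, ← map_mul, hx])
    refine ⟨y, S.inj ?_, hy⟩
    rw [map_mul, map_mul, hy, ht', conj_mul, conj_mul, S.comm_z]
  have hbwd : ∀ y : M ε, y * t' = t' * y → ∃ x : M ε, x * t = t * x ∧ g * S.ψ x * g⁻¹ = S.ψ y := by
    intro y hy
    have hy' := congrArg S.ψ hy
    rw [map_mul, map_mul, ht'] at hy'
    obtain ⟨x, hx⟩ := S.mem_range (x := g⁻¹ * S.ψ y * g) (by
      calc g⁻¹ * S.ψ y * g * S.z = g⁻¹ * (S.ψ y * (g * S.z * g⁻¹)) * g := by group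
        _ = g⁻¹ * (g * S.z * g⁻¹ * S.ψ y) * g := by rw [hy']
        _ = _ := by group)
    refine ⟨x, S.inj ?_, by rw [hx]; group⟩
    rw [map_mul, map_mul, hx]
    have h2 := S.comm_z y
    rw [← hgt] at h2
    calc g⁻¹ * S.ψ y * g * S.ψ t = g⁻¹ * (S.ψ y * (g * S.ψ t * g⁻¹)) * g := by group
      _ = g⁻¹ * (g * S.ψ t * g⁻¹ * S.ψ y) * g := by rw [h2]
      _ = _ := by group
  choose f hf1 hf2 using hfwd
  have hbij : Function.Bijective (fun a : {x : M ε // x * t = t * x} =>
      (⟨f a.1 a.2, hf1 a.1 a.2⟩ : {x : M ε // x * t' = t' * x})) := by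
    constructor
    · intro a b h
      have := congrArg (fun c : {x : M ε // x * t' = t' * x} => S.ψ c.1) h
      simp only [hf2] at this
      exact Subtype.ext (S.inj (mul_left_cancel (mul_right_cancel this)))
    · rintro ⟨y, hy⟩
      obtain ⟨x, hx, hxy⟩ := hbwd y hy
      exact ⟨⟨x, hx⟩, Subtype.ext (S.inj (by rw [hf2, hxy]))⟩
  refine ⟨t', Equiv.ofBijective _ hbij, ?_, ?_, fun a b c h => S.inj ?_, fun a h => S.inj ?_, fun a h => S.inj ?_,
    fun a => ?_⟩
  · show IsConj S.z (S.ψ t')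
    rw [ht']
    exact isConj_iff.2 ⟨g, rfl⟩
  · rintro rfl
    rw [S.map_z] at ht'
    apply htz
    apply S.inj
    rw [S.map_z]
    exact mul_left_cancel (mul_right_cancel (hgt.trans ht'))
  · show S.ψ (f a.1 a.2 * f b.1 b.2) = S.ψ (f c.1 c.2)
    rw [map_mul, hf2, hf2, hf2, conj_mul, ← map_mul, h]
  · show S.ψ (f a.1 a.2) = _
    rw [hf2, S.map_z, h, hgt]
  · show S.ψ (f a.1 a.2) = _
    rw [hf2, h, S.map_z, ht']
  · show IsConj S.z (S.ψ a.1) ↔ IsConj S.z (S.ψ (f a.1 a.2))
    rw [hf2]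
    exact ⟨fun h => h.trans (isConj_iff.2 ⟨g, rfl⟩), fun h => h.trans (isConj_iff.2 ⟨g⁻¹, by group⟩)⟩

theorem swap_roots {t : M ε} (ht : S.InF t) (htz : t ≠ zM) :
    ∃ t', S.InF t' ∧ t' ≠ zM ∧ roots t' t' = roots t zM ∧ roots t' zM = roots t t := by
  obtain ⟨t', β, hF, hne, hmul, hβt, hβz, -⟩ := S.swap ht htz
  refine ⟨t', hF, hne, ?_, ?_⟩
  all_goals
    rw [roots_eq, roots_eq]
    refine (Nat.card_congr ((Equiv.subtypeSubtypeEquivSubtypeInter _ _).symm.trans
      ((β.subtypeEquiv fun a => ?_).trans (Equiv.subtypeSubtypeEquivSubtypeInter _ _)))).symm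
  · constructor
    · intro h
      rw [hmul a a ⟨zM, ((zM_spec ε).2.2 t)⟩ h, hβz _ rfl]
    · intro h
      have h' := hmul a a ⟨a.1 * a.1, by rw [mul_assoc, a.2, ← mul_assoc, a.2, mul_assoc]⟩ rfl
      have h'' := (h'.symm.trans h).trans (hβz ⟨zM, (zM_spec ε).2.2 t⟩ rfl).symm
      exact congrArg Subtype.val (β.injective (Subtype.ext h''))
  · constructor
    · intro h
      rw [hmul a a ⟨t, rfl⟩ h, hβt _ rfl]
    · intro h
      have h' := hmul a a ⟨a.1 * a.1, by rw [mul_assoc, a.2, ← mul_assoc, a.2, mul_assoc]⟩ rfl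
      have h'' := (h'.symm.trans h).trans (hβt ⟨t, rfl⟩ rfl).symm
      exact congrArg Subtype.val (β.injective (Subtype.ext h''))

theorem roots_lab {t : M ε} (k : ℕ) (hk : lab t = k) (hk0 : k ≠ 0) :
    roots t zM = roots (repM ε k) zM ∧ roots t t = roots (repM ε k) (repM ε k) := by
  obtain ⟨h1, h2, -⟩ := lab_pos ε t (by omega)
  rcases lab_invol ε t h1 h2 with ⟨h0, -⟩ | ⟨-, -, hc⟩
  · omega
  rw [hk] at hc
  have hz : cw t * zM * (cw t)⁻¹ = zM := by rw [← (zM_spec ε).2.2 (cw t), mul_inv_cancel_right]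
  constructor
  · rw [← roots_conj (cw t) t zM, hc, hz]
  · rw [← roots_conj (cw t) t t, hc]

theorem inF_lab {t : M ε} (ht : S.InF t) : t = zM ∨ lab t = 1 ∨ lab t = 2 := by
  rcases S.inF_cases ht with h | ⟨h1, h5, -⟩
  · exact Or.inl h
  refine Or.inr ?_
  have htz : t ≠ zM := (lab_pos ε t (by omega)).2.2
  obtain ⟨t', hF', hne', e1, e2⟩ := S.swap_roots ht htz
  rcases S.inF_cases hF' with h | ⟨q1, q5, -⟩
  · exact absurd h hne'
  by_contra hc
  have hpos := (roots_facts ε ⟨lab t', by omega⟩ q1 ⟨t', rfl⟩).1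
  have hz := (roots_facts ε ⟨lab t, by omega⟩ h1 ⟨t, rfl⟩).2.1 (show 3 ≤ lab t by omega)
  obtain ⟨-, r2⟩ := roots_lab (lab t) rfl (by omega)
  obtain ⟨r3, -⟩ := roots_lab (lab t') rfl (by omega)
  rw [r2, r3, hz] at e2
  exact (Nat.pos_iff_ne_zero.1 hpos) e2

theorem inF_lab_one {t : M ε} (ht : S.InF t) (hl : lab t = 1) : ε = 0 := by
  by_contra hε
  have hε' : ε.val ≠ 0 := fun h => hε (Fin.ext h)
  obtain ⟨t', hF', hne', e1, e2⟩ := S.swap_roots ht (lab_pos ε t (by omega)).2.2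
  obtain ⟨r1, -⟩ := roots_lab 1 hl one_ne_zero
  have f := roots_facts ε 1 le_rfl ⟨t, hl⟩
  rw [r1] at e1
  rcases S.inF_lab hF' with h | h | h
  · exact hne' h
  · rw [(roots_lab 1 h one_ne_zero).2] at e1
    exact f.2.2.1 rfl hε' e1.symm
  · have f2 := roots_facts ε 2 (by decide) ⟨t', h⟩
    rw [(roots_lab 2 h two_ne_zero).2] at e1
    exact f.2.2.2.1 rfl hε' (e1.symm.trans (f2.2.2.2.2.2 rfl).2)

theorem inTwo_iff (h1 : ∀ m : M ε, S.InF m → lab m ≠ 1) {t : M ε} (ht : S.InF t) (hl : lab t = 2) (m : M ε) :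
    inTwo m = true ↔ S.InF m := by
  simp only [inTwo, Bool.or_eq_true, Bool.and_eq_true, beq_iff_eq, decide_eq_true_eq]
  constructor
  · rintro (⟨-, rfl⟩ | h)
    · exact S.inF_z
    · exact S.inF_of_lab ht (by omega) (h.trans hl.symm)
  · intro h
    rcases S.inF_lab h with rfl | h' | h'
    · exact Or.inl ⟨lab_zero ε, rfl⟩
    · exact absurd h' (h1 m h)
    · exact Or.inr h'

theorem exists_lab_one {t : M ε} (ht : S.InF t) (hl : lab t = 2) : ∃ m, S.InF m ∧ lab m = 1 := by
  by_contra hc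
  push Not at hc
  have h1 : ∀ m : M ε, S.InF m → lab m ≠ 1 := hc
  have hε : ε.val ≤ 1 := by
    by_contra h
    exact lab_two ε (by omega) t hl
  have htz : t ≠ zM := (lab_pos ε t (by omega)).2.2
  have hiff := S.inTwo_iff h1 ht hl
  -- partners are preserved by conjugation inside
  have hinv : ∀ (g x : M ε), inTwo (g * x * g⁻¹) = inTwo x := fun g x => by
    rw [Bool.eq_iff_iff, hiff, hiff]
    refine ⟨fun h => ?_, fun h => S.inF_conj h g⟩
    have := S.inF_conj h g⁻¹
    convert this using 1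
    group
  have hpconj : ∀ g a s : M ε, partners (g * a * g⁻¹) (g * s * g⁻¹) = partners a s := fun g a s => by
    rw [partners, partners,
      card_filter_range fun x : M ε => inTwo x && inTwo (g * s * g⁻¹ * x) && decide (x * (g * a * g⁻¹) = g * a * g⁻¹ * x),
      card_filter_range fun x : M ε => inTwo x && inTwo (s * x) && decide (x * a = a * x)]
    refine (Nat.card_congr ((MulAut.conj g).toEquiv.subtypeEquiv fun x => ?_)).symm
    show _ ↔ (inTwo (g * x * g⁻¹) && inTwo (g * s * g⁻¹ * (g * x * g⁻¹)) &&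
      decide (g * x * g⁻¹ * (g * a * g⁻¹) = g * a * g⁻¹ * (g * x * g⁻¹))) = true
    rw [conj_mul, conj_mul, conj_mul, hinv, hinv]
    simp [Bool.and_eq_true]
  obtain ⟨t', β, hF', hne', hmul, hβt, hβz, hβF⟩ := S.swap ht htz
  have hl' : lab t' = 2 := by
    rcases S.inF_lab hF' with h | h | h
    · exact absurd h hne'
    · exact absurd h (h1 t' hF')
    · exact h
  have hcross : ∀ s : {x : M ε // x * t = t * x}, partners t s.1 = partners t' (β s).1 := fun s => by
    rw [partners, partners, card_filter_range fun x : M ε => inTwo x && inTwo (s.1 * x) && decide (x * t = t * x),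
      card_filter_range fun x : M ε => inTwo x && inTwo ((β s).1 * x) && decide (x * t' = t' * x)]
    refine Nat.card_congr (((Equiv.refl _).subtypeEquiv fun x => ?_).trans
      ((Equiv.subtypeSubtypeEquivSubtypeInter (fun x : M ε => x * t = t * x)
        (fun x => inTwo x = true ∧ inTwo (s.1 * x) = true)).symm.trans ((β.subtypeEquiv fun a => ?_).trans
          ((Equiv.subtypeSubtypeEquivSubtypeInter (fun x : M ε => x * t' = t' * x)
            (fun x => inTwo x = true ∧ inTwo ((β s).1 * x) = true)).trans ((Equiv.refl _).subtypeEquiv fun x => ?_)))))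
    · simp [and_comm]
    · simp only [hiff, ← hβF a]
      have h' := hmul s a ⟨s.1 * a.1, by rw [mul_assoc, a.2, ← mul_assoc, s.2, mul_assoc]⟩ rfl
      rw [h', ← hβF]
    · simp [and_comm]; exact fun _ _ => ⟨fun h => decide_eq_true h, fun h => of_decide_eq_true h⟩
  have htt : t * t = t * t := rfl
  have k1 := hcross ⟨t, htt⟩
  rw [hβt _ rfl] at k1
  have lrep : ∀ u : M ε, lab u = 2 → cw u * u * (cw u)⁻¹ = repM ε 2 := fun u hu => by
    obtain ⟨a, b, -⟩ := lab_pos ε u (by omega)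
    rcases lab_invol ε u a b with ⟨h0, -⟩ | ⟨-, -, h⟩
    · omega
    · rwa [hu] at h
  have hzf : ∀ g : M ε, g * zM * g⁻¹ = zM := fun g => by rw [← (zM_spec ε).2.2 g, mul_inv_cancel_right]
  obtain ⟨p12, p10⟩ := partners_facts ε hε
  have a1 : partners t t = 10 := by rw [← hpconj (cw t), lrep t hl, p10]
  have a2 : partners t' zM = 12 := by rw [← hpconj (cw t'), lrep t' hl', hzf, p12]
  change partners t t = _ at k1
  omega

/-- The second class is fused only together with the first, and then the extension splits. -/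
theorem eps_zero {t : M ε} (ht : S.InF t) (htz : t ≠ zM) : ε = 0 := by
  rcases S.inF_lab ht with h | h | h
  · exact absurd h htz
  · exact S.inF_lab_one ht h
  · obtain ⟨m, hm, hm1⟩ := S.exists_lab_one ht h
    exact S.inF_lab_one hm hm1

end Setting

end Cfsg.Lib.AutThreeFour
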