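import Mathlib
import Cfsg.Agent.AutThreeFour.Fusion
import Cfsg.Agent.AutThreeFour.Split

/-!
Sylow subgroups of centralisers of involutions and the classes of involutions.
-/

set_option autoImplicit false
set_option maxRecDepth 20000
set_option linter.style.haveILetI false

namespace Cfsg.Lib.AutThreeFour

open Subgroup

theorem cent_counts :
    ((List.finRange 768).filter fun i => decide ((M.mk i.val : H0) * eM = eM * M.mk i.val)).length = 96 ∧
    ((List.finRange 768).filter fun i => decide ((M.mk i.val : H0) * phiM = phiM * M.mk i.val)).length = 32 ∧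
    ((List.finRange 768).filter fun i => decide ((M.mk i.val : H0) * gamM = gamM * M.mk i.val)).length = 16 := by
  decide +kernel

/-- the three involutions outside the derived group with their two-groups -/
def special (k : Fin 3) : H0 × ℕ := ![(eM, eMask), (phiM, phiMask), (gamM, gamMask)] k

theorem special_spec : ∀ k : Fin 3, maskOK (special k).2 = true ∧ inMask (special k).2 (special k).1 = true ∧
    lab (special k).1 = k.val + 3 := by decide +kernel

theorem special_cent : ∀ k : Fin 3, ∀ x : H0, inMask (special k).2 x = true → x * (special k).1 = (special k).1 * x := by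
  decide +kernel

theorem special_max (k : Fin 3) (U : Subgroup H0) (hU : IsPGroup 2 U) (hc : ∀ u ∈ U, u * (special k).1 = (special k).1 * u) :
    Nat.card U ≤ Nat.card (maskSub (special k).2 (special_spec k).1) := by
  haveI : Fact (Nat.Prime 2) := ⟨Nat.prime_two⟩
  obtain ⟨n, hn⟩ := IsPGroup.iff_card.1 hU
  have hle : U ≤ centralizer {(special k).1} := fun u hu => mem_centralizer_singleton_iff.2 (hc u hu)
  have hdvd := card_dvd_of_le hle
  have hcard : Nat.card (centralizer ({(special k).1} : Set H0)) =
      ((List.finRange 768).filter fun i => decide ((M.mk i.val : H0) * (special k).1 = (special k).1 * M.mk i.val)).length := by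
    rw [card_filter_range fun x : H0 => decide (x * (special k).1 = (special k).1 * x)]
    exact Nat.card_congr ((Equiv.refl _).subtypeEquiv fun x => by
      rw [mem_centralizer_singleton_iff]
      exact ⟨fun h => decide_eq_true h, fun h => of_decide_eq_true h⟩)
  rw [hcard, hn] at hdvd
  rw [card_maskSub, hn]
  obtain ⟨c1, c2, c3⟩ := cent_counts
  obtain ⟨-, m1, m2, m3, -⟩ := mask_cards
  fin_cases k
  · show 2 ^ n ≤ ((List.finRange 768).filter fun i => inMask eMask (M.mk i.val)).length
    replace hdvd : 2 ^ n ∣ 96 := c1 ▸ hdvd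
    rw [m1]
    rcases le_or_gt n 5 with h | h
    · exact le_trans (Nat.pow_le_pow_right (by norm_num) h) (le_refl 32)
    · have : 2 ^ 6 ∣ 96 := (pow_dvd_pow 2 h).trans hdvd
      norm_num at this
  · show 2 ^ n ≤ ((List.finRange 768).filter fun i => inMask phiMask (M.mk i.val)).length
    replace hdvd : 2 ^ n ∣ 32 := c2 ▸ hdvd
    rw [m2]
    exact Nat.le_of_dvd (by norm_num) hdvd
  · show 2 ^ n ≤ ((List.finRange 768).filter fun i => inMask gamMask (M.mk i.val)).length
    replace hdvd : 2 ^ n ∣ 16 := c3 ▸ hdvd
    rw [m3]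
    exact Nat.le_of_dvd (by norm_num) hdvd

theorem centralIn_of {mask : ℕ} {h : maskOK mask = true} {x : H0} (hx : x ∈ maskSub mask h)
    (hc : ∀ y ∈ maskSub mask h, x * y = y * x) : centralIn mask x = true := by
  simp only [centralIn, Bool.and_eq_true, List.all_eq_true, decide_eq_true_eq, mem_members]
  exact ⟨hx, hc⟩

/-- the number of elements killed by the fourth power and by the square -/
noncomputable def sqNum (X : Type*) [Group X] : ℕ × ℕ :=
  (Nat.card {x : X // x * x = 1}, Nat.card {x : X // x * x * (x * x) = 1})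

theorem sqNum_congr {X Y : Type*} [Group X] [Group Y] (e : X ≃* Y) : sqNum X = sqNum Y := by
  refine Prod.ext ?_ ?_ <;> refine Nat.card_congr (e.toEquiv.subtypeEquiv fun x => ?_) <;>
    simp [← map_mul]

theorem sqNum_mask {mask : ℕ} (h : maskOK mask = true) : sqNum (maskSub mask h) = sqCount mask := by
  have key : ∀ p : H0 → Bool, Nat.card {x : maskSub mask h // p x.1 = true} = ((members mask).filter p).length := by
    intro p
    have e1 : ((members mask).filter p).length =
        ((List.finRange 768).filter fun i => inMask mask (M.mk i.val) && p (M.mk i.val)).length := by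
      rw [members, List.filter_filter, List.filter_map, List.length_map]
      congr 2
      funext i
      simp [inMask, Bool.and_comm]
    rw [e1, card_filter_range fun x : H0 => inMask mask x && p x]
    exact Nat.card_congr ((Equiv.subtypeSubtypeEquivSubtypeInter (fun x => x ∈ maskSub mask h) (fun x => p x = true)).trans
      ((Equiv.refl _).subtypeEquiv fun x => by simp [mem_maskSub]))
  refine Prod.ext ?_ ?_
  · refine Eq.trans ?_ (key fun x => decide (x * x = 1))
    exact Nat.card_congr ((Equiv.refl _).subtypeEquiv fun x =>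
      ⟨fun h => decide_eq_true (congrArg Subtype.val h), fun h => Subtype.ext (of_decide_eq_true h)⟩)
  · refine Eq.trans ?_ (key fun x => decide (x * x * (x * x) = 1))
    exact Nat.card_congr ((Equiv.refl _).subtypeEquiv fun x =>
      ⟨fun h => decide_eq_true (congrArg Subtype.val h), fun h => Subtype.ext (of_decide_eq_true h)⟩)

namespace Setting

variable {G : Type*} [Group G] [Finite G] (S : Setting (0 : Fin 4) G)

theorem inF_lab_zero {m : H0} (h : S.InF m) : lab m ≠ 3 ∧ lab m ≠ 4 ∧ lab m ≠ 5 := by
  rcases S.inF_lab h with rfl | h | h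
  · rw [lab_zero]; decide
  all_goals omega

/-- the two-group of a special involution -/
def sylSpecial (k : Fin 3) : Subgroup G := (maskSub (special k).2 (special_spec k).1).map S.ψ

theorem isPGroup_special (k : Fin 3) : IsPGroup 2 (maskSub (special k).2 (special_spec k).1) := by
  haveI : Fact (Nat.Prime 2) := ⟨Nat.prime_two⟩
  obtain ⟨-, m1, m2, m3, -⟩ := mask_cards
  fin_cases k
  · exact IsPGroup.of_card (n := 5) ((card_maskSub _).trans m1)
  · exact IsPGroup.of_card (n := 5) ((card_maskSub _).trans m2)
  · exact IsPGroup.of_card (n := 4) ((card_maskSub _).trans m3)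

/-- A two-group containing the chosen one and centralising the involution is equal to it. -/
theorem special_sylow (k : Fin 3) (P : Subgroup G) (hP : IsPGroup 2 P) (hle : S.sylSpecial k ≤ P)
    (hc : ∀ p ∈ P, p * S.ψ (special k).1 = S.ψ (special k).1 * p) : S.sylSpecial k = P := by
  haveI : Fact (Nat.Prime 2) := ⟨Nat.prime_two⟩
  by_contra hne
  haveI := hP.isNilpotent
  set U := (S.sylSpecial k).subgroupOf P with hU
  have hUlt : U < ⊤ := lt_top_iff_ne_top.2 fun h => hne (le_antisymm hle (subgroupOf_eq_top.1 h))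
  obtain ⟨⟨g, hgP⟩, hgN, hgU⟩ := SetLike.exists_of_lt (Group.normalizerCondition_of_isNilpotent _ hUlt)
  have hgU' : g ∉ S.sylSpecial k := fun h => hgU (mem_subgroupOf.2 h)
  have hgN' : ∀ y ∈ S.sylSpecial k, g * y * g⁻¹ ∈ S.sylSpecial k := fun y hy =>
    mem_subgroupOf.1 ((mem_normalizer_iff.1 hgN ⟨y, hle hy⟩).1 (mem_subgroupOf.2 hy))
  have hgN2 : ∀ y ∈ S.sylSpecial k, g⁻¹ * y * g ∈ S.sylSpecial k := fun y hy => by
    have := (mem_normalizer_iff.1 hgN ⟨g⁻¹ * y * g, P.mul_mem (P.mul_mem (P.inv_mem hgP) (hle hy)) hgP⟩).2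
      (mem_subgroupOf.2 (by simpa [mul_assoc] using hy))
    exact mem_subgroupOf.1 this
  obtain ⟨-, -, hz1, hz2, hz3, hz4, hz5, hz6⟩ := central_members (zM : H0)
  have hzmem : (zM : H0) ∈ maskSub (special k).2 (special_spec k).1 := by
    fin_cases k
    exacts [hz1, hz2, hz3]
  -- the image of the central involution stays central
  obtain ⟨c, hc', hcz⟩ := mem_map.1 (hgN' S.z ⟨zM, hzmem, S.map_z⟩)
  have hcF : S.InF c := by
    show IsConj S.z (S.ψ c)
    rw [hcz]
    exact isConj_iff.2 ⟨g, rfl⟩
  have hcC : centralIn (special k).2 c = true := centralIn_of (h := (special_spec k).1) hc' fun y hy => by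
    refine S.inj ?_
    rw [map_mul, map_mul, hcz]
    obtain ⟨y', hy', hyy⟩ := mem_map.1 (hgN2 _ ⟨y, hy, rfl⟩)
    have hyy' : g * S.ψ y' * g⁻¹ = S.ψ y := by rw [hyy]; group
    rw [← hyy', conj_mul, conj_mul, S.comm_z]
  have hcz' : c = zM := by
    rcases S.inF_lab hcF with h | h | h
    · exact h
    all_goals
      exfalso
      have := (central_members c).2.1 (by
        fin_cases k
        · exact Bool.or_eq_true_iff.2 (Or.inl (Bool.or_eq_true_iff.2 (Or.inl hcC)))
        · exact Bool.or_eq_true_iff.2 (Or.inl (Bool.or_eq_true_iff.2 (Or.inr hcC)))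
        · exact Bool.or_eq_true_iff.2 (Or.inr hcC))
      omega
  rw [hcz', S.map_z, eq_mul_inv_iff_mul_eq] at hcz
  obtain ⟨m, rfl⟩ := S.mem_range hcz.symm
  set W := maskSub (special k).2 (special_spec k).1 ⊔ zpowers m with hW
  have hWle : W ≤ P.comap S.ψ := sup_le (fun x hx => hle ⟨x, hx, rfl⟩) (zpowers_le.2 hgP)
  have hWp : IsPGroup 2 W := (hP.comap_of_injective S.ψ S.inj).to_le hWle
  have hmax := special_max k W hWp fun u hu => S.inj (by
    rw [map_mul, map_mul]; exact hc _ (hWle hu))
  have := eq_of_le_of_card_ge (le_sup_left : _ ≤ W) hmax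
  exact hgU' ⟨m, this ▸ (le_sup_right : _ ≤ W) (mem_zpowers m), rfl⟩

theorem not_conj_special (k : Fin 3) (y : H0) {mask : ℕ} (hm : maskOK mask = true)
    (hcm : ∀ x : H0, inMask mask x = true → x * y = y * x) (hp : IsPGroup 2 (maskSub mask hm))
    (hbig : Nat.card (maskSub (special k).2 (special_spec k).1) < Nat.card (maskSub mask hm) ∨
      (Nat.card (maskSub (special k).2 (special_spec k).1) = Nat.card (maskSub mask hm) ∧
        sqCount (special k).2 ≠ sqCount mask)) :
    ¬ IsConj (S.ψ (special k).1) (S.ψ y) := by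
  intro hconj
  haveI : Fact (Nat.Prime 2) := ⟨Nat.prime_two⟩
  obtain ⟨g, hg⟩ := isConj_iff.1 hconj.symm
  let f : maskSub mask hm →* G := (MulAut.conj g).toMonoidHom.comp (S.ψ.comp (maskSub mask hm).subtype)
  have hfinj : Function.Injective f := (MulAut.conj g).injective.comp (S.inj.comp Subtype.val_injective)
  -- both lie in Sylow subgroups of the centraliser
  set C := centralizer ({S.ψ (special k).1} : Set G) with hC
  have hT : S.sylSpecial k ≤ C := by
    rintro _ ⟨x, hx, rfl⟩
    rw [mem_centralizer_singleton_iff, ← map_mul, ← map_mul, special_cent k x hx]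
  have hR : f.range ≤ C := by
    rintro _ ⟨x, rfl⟩
    rw [mem_centralizer_singleton_iff, ← hg]
    show g * S.ψ x.1 * g⁻¹ * (g * S.ψ y * g⁻¹) = g * S.ψ y * g⁻¹ * (g * S.ψ x.1 * g⁻¹)
    rw [conj_mul, conj_mul, ← map_mul, ← map_mul, hcm x.1 x.2]
  have hTp : IsPGroup 2 ((S.sylSpecial k).subgroupOf C) :=
    ((isPGroup_special k).map S.ψ).comap_of_injective _ C.subtype_injective
  obtain ⟨P, hP⟩ := hTp.exists_le_sylow
  have hPp : IsPGroup 2 ((P : Subgroup C).map C.subtype) := P.2.map _
  have heq : S.sylSpecial k = (P : Subgroup C).map C.subtype := S.special_sylow k _ hPp (fun x hx =>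
    ⟨⟨x, hT hx⟩, hP (mem_subgroupOf.2 hx), rfl⟩) fun p hp => by
      obtain ⟨q, -, rfl⟩ := hp
      exact mem_centralizer_singleton_iff.1 q.2
  have hPcard : Nat.card (P : Subgroup C) = Nat.card (maskSub (special k).2 (special_spec k).1) := by
    rw [← card_map_of_injective (K := (P : Subgroup C)) (f := C.subtype) C.subtype_injective, ← heq, sylSpecial,
      card_map_of_injective (f := S.ψ) S.inj]
  let f' : maskSub mask hm →* C := f.codRestrict C fun x => hR ⟨x, rfl⟩
  have hf' : Function.Injective f' := fun a b h => hfinj (congrArg Subtype.val h)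
  obtain ⟨Q, hQ⟩ := (hp.of_equiv (MonoidHom.ofInjective hf')).exists_le_sylow
  have hQcard : Nat.card (Q : Subgroup C) = Nat.card (P : Subgroup C) :=
    Nat.card_congr (Q.equiv P).toEquiv
  have hle := card_le_of_le hQ
  rw [← Nat.card_congr (MonoidHom.ofInjective hf').toEquiv] at hle
  rcases hbig with h | ⟨h, hne⟩
  · omega
  · apply hne
    have hQe : f'.range = (Q : Subgroup C) := eq_of_le_of_card_ge hQ (by
      rw [← Nat.card_congr (MonoidHom.ofInjective hf').toEquiv]; omega)
    rw [← sqNum_mask hm, ← sqNum_mask (special_spec k).1]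
    refine sqNum_congr (MulEquiv.symm ?_)
    refine (MonoidHom.ofInjective hf').trans ?_
    refine (MulEquiv.subgroupCongr hQe).trans ((Q.equiv P).trans ?_)
    refine ((P : Subgroup C).equivMapOfInjective C.subtype C.subtype_injective).trans ?_
    refine (MulEquiv.subgroupCongr heq.symm).trans ?_
    exact ((maskSub (special k).2 (special_spec k).1).equivMapOfInjective S.ψ S.inj).symm

theorem two_group_mask {mask : ℕ} (h : maskOK mask = true) {n : ℕ}
    (hc : ((List.finRange 768).filter fun i => inMask mask (M.mk i.val)).length = 2 ^ n) :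
    IsPGroup 2 (maskSub mask h) := IsPGroup.of_card ((card_maskSub h).trans hc)

theorem conj_rep {x : H0} (hl : lab x ≠ 0) : IsConj (S.ψ x) (S.ψ (repM 0 (lab x))) := by
  obtain ⟨h1, h2, -⟩ := lab_pos 0 x hl
  rcases lab_invol 0 x h1 h2 with ⟨h0, -⟩ | ⟨-, -, hc⟩
  · omega
  exact isConj_iff.2 ⟨S.ψ (cw x), by rw [← hc, map_mul, map_mul, map_inv]⟩

/-- The classes outside the derived group meet the centraliser in one class each. -/
theorem lab_of_conj (k : Fin 3) {x : H0} (h : IsConj (S.ψ (special k).1) (S.ψ x)) : lab x = k.val + 3 := by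
  have hl := (special_spec k).2.2
  have hx1 : x * x = 1 ∧ x ≠ 1 := by
    obtain ⟨h1, h2, -⟩ := lab_pos 0 (special k).1 (by omega)
    obtain ⟨g, hg⟩ := isConj_iff.1 h
    constructor
    · exact S.inj (by rw [map_mul, ← hg, conj_mul, ← map_mul, h1, map_one, mul_one, mul_inv_cancel])
    · rintro rfl
      rw [map_one, conj_eq_one_iff, map_eq_one_iff _ S.inj] at hg
      exact h2 hg
  rcases lab_invol 0 x hx1.1 hx1.2 with ⟨-, rfl⟩ | ⟨q1, q5, -⟩
  · have hF : S.InF (special k).1 := by
      show IsConj S.z _
      have := h.symm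
      rwa [S.map_z] at this
    have := S.inF_lab_zero hF
    have := k.isLt
    omega
  by_contra hne
  have h' := h.trans (S.conj_rep (x := x) (by omega))
  obtain ⟨rv, ra, re, rp, rg, -⟩ := rep_spec
  obtain ⟨ms, me, mp, mg, mv, ma, -⟩ := mask_cards
  obtain ⟨ce, cp, cg, cv, ca⟩ := cent_masks
  obtain ⟨-, oe, op, og, ov, oa, -⟩ := mask_ok
  obtain ⟨se, sp, sa⟩ := sq_counts
  have cards : ∀ j : Fin 3, Nat.card (maskSub (special j).2 (special_spec j).1) = ![32, 32, 16] j := by
    intro j
    rw [card_maskSub]
    fin_cases j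
    exacts [me, mp, mg]
  interval_cases hx : lab x
  · rw [rv] at h'
    refine S.not_conj_special k vM ov cv (two_group_mask (n := 7) ov mv) (Or.inl ?_) h'
    rw [cards, card_maskSub, mv]
    fin_cases k <;> simp
  · rw [ra] at h'
    fin_cases k
    · refine S.not_conj_special 0 aM oa (fun x h => (ca x).1 h) (two_group_mask (n := 5) oa ma) (Or.inr ⟨?_, ?_⟩) h'
      · rw [cards, card_maskSub, ma]; rfl
      · show sqCount eMask ≠ _
        rw [se, sa]; decide
    · refine S.not_conj_special 1 aM oa (fun x h => (ca x).1 h) (two_group_mask (n := 5) oa ma) (Or.inr ⟨?_, ?_⟩) h'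
      · rw [cards, card_maskSub, ma]; rfl
      · show sqCount phiMask ≠ _
        rw [sp, sa]; decide
    · refine S.not_conj_special 2 aM oa (fun x h => (ca x).1 h) (two_group_mask (n := 5) oa ma) (Or.inl ?_) h'
      rw [cards, card_maskSub, ma]; simp
  · rw [re] at h'
    fin_cases k
    · exact hne rfl
    · refine S.not_conj_special 1 eM oe ce (two_group_mask (n := 5) oe me) (Or.inr ⟨?_, ?_⟩) h'
      · rw [cards, card_maskSub, me]; rfl
      · show sqCount phiMask ≠ _
        rw [se, sp]; decide
    · refine S.not_conj_special 2 eM oe ce (two_group_mask (n := 5) oe me) (Or.inl ?_) h'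
      rw [cards, card_maskSub, me]; simp
  · rw [rp] at h'
    fin_cases k
    · refine S.not_conj_special 0 phiM op (fun x h => (cp x).1 h) (two_group_mask (n := 5) op mp) (Or.inr ⟨?_, ?_⟩) h'
      · rw [cards, card_maskSub, mp]; rfl
      · show sqCount eMask ≠ _
        rw [se, sp]; decide
    · exact hne rfl
    · refine S.not_conj_special 2 phiM op (fun x h => (cp x).1 h) (two_group_mask (n := 5) op mp) (Or.inl ?_) h'
      rw [cards, card_maskSub, mp]; simp
  · rw [rg] at h'
    have h'' : IsConj (S.ψ (special 2).1) (S.ψ (special k).1) := h'.symm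
    fin_cases k
    · refine S.not_conj_special 2 eM oe ce (two_group_mask (n := 5) oe me) (Or.inl ?_) h''
      rw [cards, card_maskSub, me]; simp
    · refine S.not_conj_special 2 phiM op (fun x h => (cp x).1 h) (two_group_mask (n := 5) op mp) (Or.inl ?_) h''
      rw [cards, card_maskSub, mp]; simp
    · exact hne rfl

end Setting

end Cfsg.Lib.AutThreeFour
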