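import Mathlib
import Cfsg.Agent.AutThreeFour.Sylow
import Cfsg.Agent.S0111

/-!
Transfer: a normal subgroup of index four with two-fold abelian quotient.
-/

set_option autoImplicit false
set_option maxRecDepth 20000
set_option linter.style.haveILetI false

namespace Cfsg.Lib.AutThreeFour

open Subgroup

theorem syl_card : Nat.card (maskSub sylMask mask_ok.1) = 256 := by rw [card_maskSub]; exact mask_cards.1

/-- kernel of a character on the Sylow subgroup -/
def sylKer (χ : H0 → Bool) (hχ : ∀ x y, χ (x * y) = xor (χ x) (χ y)) : Subgroup H0 where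
  carrier := {x | inMask sylMask x = true ∧ χ x = false}
  one_mem' := ⟨(maskSub sylMask mask_ok.1).one_mem, by
    have := hχ 1 1
    rw [one_mul, Bool.xor_self] at this
    exact this⟩
  mul_mem' := fun {x y} hx hy => ⟨(maskSub sylMask mask_ok.1).mul_mem hx.1 hy.1, by rw [hχ, hx.2, hy.2]; rfl⟩
  inv_mem' := fun {x} hx => ⟨(maskSub sylMask mask_ok.1).inv_mem hx.1, by
    have h := hχ x x⁻¹
    have h1 := hχ 1 1
    rw [one_mul, Bool.xor_self] at h1
    rw [mul_inv_cancel, h1, hx.2, Bool.false_xor] at h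
    exact h.symm⟩

/-- the three characters -/
def chi (j : Fin 3) (x : H0) : Bool := ![chP x, chE x, xor (chP x) (chE x)] j

theorem chi_mul (j : Fin 3) (x y : H0) : chi j (x * y) = xor (chi j x) (chi j y) := by
  fin_cases j
  · exact chP_mul x y
  · exact chE_mul x y
  · show xor (chP (x * y)) (chE (x * y)) = _
    rw [chP_mul, chE_mul]
    show _ = xor (xor (chP x) (chE x)) (xor (chP y) (chE y))
    cases chP x <;> cases chP y <;> cases chE x <;> cases chE y <;> rfl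

/-- a character not vanishing on a special class -/
def chiFor (k : Fin 3) : Fin 3 := ![1, 0, 1] k

namespace Setting

variable {G : Type*} [Group G] [Finite G] (S : Setting (0 : Fin 4) G)

/-- the Sylow two-subgroup in the big group -/
def sylG : Subgroup G := (maskSub sylMask mask_ok.1).map S.ψ

theorem card_sylG : Nat.card S.sylG = 256 := by rw [sylG, card_map_of_injective S.inj, syl_card]

theorem sylG_pgroup : IsPGroup 2 S.sylG := IsPGroup.of_card (n := 8) S.card_sylG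

theorem sylow_of_le (P : Subgroup G) (hP : IsPGroup 2 P) (hle : S.sylG ≤ P) : S.sylG = P := by
  haveI : Fact (Nat.Prime 2) := ⟨Nat.prime_two⟩
  by_contra hne
  haveI := hP.isNilpotent
  have hlt : S.sylG.subgroupOf P < ⊤ :=
    lt_top_iff_ne_top.2 fun h => hne (le_antisymm hle (subgroupOf_eq_top.1 h))
  obtain ⟨⟨g, hgP⟩, hgN, hgU⟩ := SetLike.exists_of_lt (Group.normalizerCondition_of_isNilpotent _ hlt)
  have hgU' : g ∉ S.sylG := fun h => hgU (mem_subgroupOf.2 h)
  have hgN' : ∀ y ∈ S.sylG, g * y * g⁻¹ ∈ S.sylG := fun y hy =>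
    mem_subgroupOf.1 ((mem_normalizer_iff.1 hgN ⟨y, hle hy⟩).1 (mem_subgroupOf.2 hy))
  have hgN2 : ∀ y ∈ S.sylG, g⁻¹ * y * g ∈ S.sylG := fun y hy => by
    have := (mem_normalizer_iff.1 hgN ⟨g⁻¹ * y * g, P.mul_mem (P.mul_mem (P.inv_mem hgP) (hle hy)) hgP⟩).2
      (mem_subgroupOf.2 (by simpa [mul_assoc] using hy))
    exact mem_subgroupOf.1 this
  have hzmem : (zM : H0) ∈ maskSub sylMask mask_ok.1 := mem_maskSub.2 (by decide +kernel)
  obtain ⟨c, hc', hcz⟩ := mem_map.1 (hgN' S.z ⟨zM, hzmem, S.map_z⟩)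
  have hcC : centralIn sylMask c = true := centralIn_of (h := mask_ok.1) hc' fun y hy => by
    refine S.inj ?_
    rw [map_mul, map_mul, hcz]
    obtain ⟨y', hy', hyy⟩ := mem_map.1 (hgN2 _ ⟨y, hy, rfl⟩)
    have hyy' : g * S.ψ y' * g⁻¹ = S.ψ y := by rw [hyy]; group
    rw [← hyy', conj_mul, conj_mul, S.comm_z]
  rcases (central_members c).1 hcC with rfl | rfl
  · rw [map_one, eq_comm, conj_eq_one_iff] at hcz
    have := S.hz
    rw [hcz, orderOf_one] at this
    omega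
  rw [S.map_z, eq_mul_inv_iff_mul_eq] at hcz
  obtain ⟨m, rfl⟩ := S.mem_range hcz.symm
  set W := maskSub sylMask mask_ok.1 ⊔ zpowers m with hW
  have hWle : W ≤ P.comap S.ψ := sup_le (fun x hx => hle ⟨x, hx, rfl⟩) (zpowers_le.2 hgP)
  obtain ⟨n, hn⟩ := IsPGroup.iff_card.1 ((hP.comap_of_injective S.ψ S.inj).to_le hWle)
  have hd := card_subgroup_dvd_card W
  rw [hn, card_M] at hd
  have hle8 : n ≤ 8 := by
    by_contra h
    have : 2 ^ 9 ∣ 768 := (pow_dvd_pow 2 (by omega)).trans hd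
    norm_num at this
  have := eq_of_le_of_card_ge (le_sup_left : _ ≤ W)
    (by rw [hn, syl_card]; exact Nat.pow_le_pow_right (by norm_num) hle8)
  exact hgU' ⟨m, this ▸ (le_sup_right : _ ≤ W) (mem_zpowers m), rfl⟩

/-- the Sylow subgroup -/
noncomputable def sylP : Sylow 2 G := S.sylG_pgroup.exists_le_sylow.choose

theorem coe_sylP : (S.sylP : Subgroup G) = S.sylG :=
  (S.sylow_of_le _ S.sylP.2 S.sylG_pgroup.exists_le_sylow.choose_spec).symm

theorem not_two_dvd_index : ¬ 2 ∣ S.sylG.index := by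
  haveI : Fact (Nat.Prime 2) := ⟨Nat.prime_two⟩
  rw [← S.coe_sylP]
  exact S.sylP.not_dvd_index

theorem exists_kernel (k : Fin 3) :
    ∃ N : Subgroup G, N.Normal ∧ N.index = 2 ∧ S.ψ (special k).1 ∉ N := by
  haveI : Fact (Nat.Prime 2) := ⟨Nat.prime_two⟩
  obtain ⟨hin, hlab⟩ := syl_reps k
  set x : H0 := M.mk (sylReps.getD k.val 0)
  set j := chiFor k
  have hval : ∀ y : H0, lab y = k.val + 3 → chi j y = true := by
    intro y hy
    obtain ⟨-, -, h3, h4, h5, -⟩ := lab_chars y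
    fin_cases k
    · exact (h3 hy).2
    · exact (h4 hy).1
    · exact (h5 hy).2
  set Q0 := sylKer (chi j) (chi_mul j)
  have hQ0 : Q0.relIndex (maskSub sylMask mask_ok.1) = 2 := by
    rw [relIndex, index_eq_two_iff]
    refine ⟨⟨x, hin⟩, fun b => ?_⟩
    have hb : inMask sylMask b.1 = true := b.2
    have hbx : inMask sylMask (b.1 * x) = true := (maskSub sylMask mask_ok.1).mul_mem b.2 hin
    simp only [mem_subgroupOf, Subgroup.coe_mul]
    show Xor (inMask sylMask (b.1 * x) = true ∧ chi j (b.1 * x) = false) (inMask sylMask b.1 = true ∧ chi j b.1 = false)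
    rw [chi_mul, hval x hlab]
    cases chi j b.1 <;> simp [hb, hbx, Xor]
  have hQle : Q0.map S.ψ ≤ S.sylG := Subgroup.map_mono fun y hy => hy.1
  have hQi : (Q0.map S.ψ).relIndex (S.sylP : Subgroup G) = 2 := by
    rw [S.coe_sylP, sylG, ← hQ0, relIndex_map_map_of_injective _ _ S.inj]
  have hx2 : orderOf (S.ψ x) = 2 := by
    obtain ⟨q1, q2, -⟩ := lab_pos 0 x (by omega)
    exact orderOf_eq_prime (by rw [← map_pow, pow_two, q1, map_one])
      (fun h => q2 (S.inj (h.trans (map_one _).symm)))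
  have hconj : IsConj (S.ψ (special k).1) (S.ψ x) := by
    have h1 := S.conj_rep (x := (special k).1) (by rw [(special_spec k).2.2]; omega)
    have h2 := S.conj_rep (x := x) (by rw [hlab]; omega)
    rw [(special_spec k).2.2] at h1
    rw [hlab] at h2
    exact h1.trans h2.symm
  rcases Cfsg.Agent.S0111.result S.sylP (Q0.map S.ψ) (by rw [S.coe_sylP]; exact hQle) hQi (S.ψ x) hx2
    (by rw [S.coe_sylP]; exact ⟨x, hin, rfl⟩) (by
      rintro ⟨y, ⟨-, hy⟩, hyx⟩
      rw [S.inj hyx, hval x hlab] at hy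
      exact Bool.noConfusion hy) with ⟨N, hN, hN2, hxN⟩ | ⟨g, y, ⟨-, hy⟩, hyg⟩
  · refine ⟨N, hN, hN2, fun h => hxN ?_⟩
    obtain ⟨c, hc⟩ := isConj_iff.1 hconj
    rw [← hc]
    exact hN.conj_mem _ h c
  · have hl := S.lab_of_conj k (x := y) (hconj.trans (by rw [hyg]; exact isConj_iff.2 ⟨g, rfl⟩))
    rw [hval y hl] at hy
    exact Bool.noConfusion hy

theorem comap_facts {N : Subgroup G} [N.Normal] (hN : N.index = 2) :
    (∀ x : H0, inH1 x = true → S.ψ x ∈ N) ∧
      (∀ a b : H0, S.ψ a ∉ N → S.ψ b ∉ N → S.ψ (a * b) ∈ N) ∧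
      (∀ a b : H0, S.ψ a ∈ N → (S.ψ (a * b) ∈ N ↔ S.ψ b ∈ N)) := by
  refine ⟨fun x hx => ?_, fun a b ha hb => ?_, fun a b ha => ?_⟩
  · rw [squares_gen x hx, map_mul, map_mul, map_mul]
    exact N.mul_mem (mul_self_mem_of_index_two hN _) (mul_self_mem_of_index_two hN _)
  · rw [map_mul, mul_mem_iff_of_index_two hN]
    exact iff_of_false ha hb
  · rw [map_mul, mul_mem_iff_of_index_two hN]
    exact iff_true_left ha

theorem exists_index_four :
    ∃ L : Subgroup G, L.Normal ∧ L.index = 4 ∧ (∀ x : H0, S.ψ x ∈ L ↔ inH1 x = true) ∧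
      ∀ g : G, ∃ x : H0, g * (S.ψ x)⁻¹ ∈ L := by
  obtain ⟨N1, hN1, i1, e1⟩ := S.exists_kernel 0
  obtain ⟨N2, hN2, i2, p2⟩ := S.exists_kernel 1
  obtain ⟨N3, hN3, i3, g3⟩ := S.exists_kernel 2
  obtain ⟨cPe, cEe, cPp, cEp, cPg, cEg⟩ := char_values
  have heg : inH1 (eM * phiM * gamM⁻¹) = true := by decide +kernel
  -- each kernel contains exactly one of the three involutions
  have key : ∀ N : Subgroup G, N.Normal → N.index = 2 →
      (S.ψ gamM ∈ N ↔ (S.ψ eM ∈ N ↔ S.ψ phiM ∈ N)) := fun N hn hi => by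
    haveI := hn
    obtain ⟨k1, -, -⟩ := S.comap_facts hi
    have h := k1 _ heg
    rw [map_mul, map_mul, map_inv, mul_mem_iff_of_index_two hi, inv_mem_iff, mul_mem_iff_of_index_two hi] at h
    exact h.symm
  obtain ⟨A, B, hA, hB, iA, iB, hinter⟩ : ∃ A B : Subgroup G, A.Normal ∧ B.Normal ∧ A.index = 2 ∧ B.index = 2 ∧
      ((S.ψ phiM ∈ A ∧ S.ψ eM ∉ A ∧ S.ψ phiM ∉ B) ∨ (S.ψ gamM ∈ A ∧ S.ψ eM ∉ A ∧ S.ψ gamM ∉ B)) := by
    by_cases hp : S.ψ phiM ∈ N1
    · exact ⟨N1, N2, hN1, hN2, i1, i2, Or.inl ⟨hp, e1, p2⟩⟩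
    · exact ⟨N1, N3, hN1, hN3, i1, i3, Or.inr ⟨(key N1 hN1 i1).2 (iff_of_false e1 hp), e1, g3⟩⟩
  haveI := hA
  haveI := hB
  obtain ⟨a1, -, a3⟩ := S.comap_facts iA
  obtain ⟨b1, -, b3⟩ := S.comap_facts iB
  have kA := key A hA iA
  have kB := key B hB iB
  have hset : ∀ x : H0, S.ψ x ∈ A → S.ψ x ∈ B → inH1 x = true := by
    intro x hxA hxB
    by_contra hx
    obtain ⟨r, hr, hrx⟩ : ∃ r ∈ [eM, phiM, gamM], inH1 (x * r⁻¹) = true := by
      simp only [inH1, Bool.and_eq_true, Bool.not_eq_true', not_and_or, Bool.not_eq_false] at hx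
      have ri : ∀ r ∈ [eM, phiM, gamM], r⁻¹ = r := by decide +kernel
      rcases hP : chP x with _ | _ <;> rcases hE : chE x with _ | _
      · simp [hP, hE] at hx
      · exact ⟨eM, by simp, by rw [ri _ (by simp), inH1, chP_mul, chE_mul, hP, hE, cPe, cEe]; rfl⟩
      · exact ⟨phiM, by simp, by rw [ri _ (by simp), inH1, chP_mul, chE_mul, hP, hE, cPp, cEp]; rfl⟩
      · exact ⟨gamM, by simp, by rw [ri _ (by simp), inH1, chP_mul, chE_mul, hP, hE, cPg, cEg]; rfl⟩
    have hA' : S.ψ r ∈ A := (a3 _ r (a1 _ hrx)).1 (by rwa [inv_mul_cancel_right])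
    have hB' : S.ψ r ∈ B := (b3 _ r (b1 _ hrx)).1 (by rwa [inv_mul_cancel_right])
    simp only [List.mem_cons, List.not_mem_nil, or_false] at hr
    rcases hr with rfl | rfl | rfl <;> rcases hinter with ⟨u1, u2, u3⟩ | ⟨u1, u2, u3⟩ <;> tauto
  refine ⟨A ⊓ B, inferInstance, ?_, fun x => ⟨fun h => hset x h.1 h.2, fun h => ⟨a1 x h, b1 x h⟩⟩, ?_⟩
  all_goals
    have hle : (A ⊓ B).index ≤ 4 := (index_inf_le (H := A) (K := B)).trans (by rw [iA, iB])
    let f : Fin 4 → G ⧸ (A ⊓ B) := fun i => QuotientGroup.mk (S.ψ (![1, eM, phiM, gamM] i))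
    have hfi : Function.Injective f := by
      intro i i' h
      have h' : (S.ψ (![1, eM, phiM, gamM] i))⁻¹ * S.ψ (![1, eM, phiM, gamM] i') ∈ A ⊓ B := QuotientGroup.eq.1 h
      rw [← map_inv, ← map_mul] at h'
      have hd : ∀ i i' : Fin 4, inH1 ((![1, eM, phiM, gamM] i)⁻¹ * ![1, eM, phiM, gamM] i') = true → i = i' := by
        decide +kernel
      exact hd i i' (hset _ h'.1 h'.2)
    have hge : 4 ≤ (A ⊓ B).index := by
      rw [index]
      simpa using Nat.card_le_card_of_injective f hfi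
  · omega
  · intro g
    have hb : Function.Bijective f :=
      (Nat.bijective_iff_injective_and_card f).2 ⟨hfi, by rw [Nat.card_fin, ← index]; omega⟩
    obtain ⟨i, hi⟩ := hb.2 (QuotientGroup.mk g)
    refine ⟨![1, eM, phiM, gamM] i, ?_⟩
    have h' : (S.ψ (![1, eM, phiM, gamM] i))⁻¹ * g ∈ A ⊓ B := QuotientGroup.eq.1 hi
    have := (inferInstance : (A ⊓ B).Normal).conj_mem _ h' (S.ψ (![1, eM, phiM, gamM] i))
    simpa [mul_assoc] using this

end Setting

end Cfsg.Lib.AutThreeFour
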