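import Mathlib
import Cfsg.Agent.AutThreeFour.Transfer
import Cfsg.Agent.InvolCalc.ZStarApps

/-!
The two elementary abelian subgroups of order sixteen in the subgroup of index four.
-/

set_option autoImplicit false
set_option maxRecDepth 20000
set_option linter.style.haveILetI false

namespace Cfsg.Lib.AutThreeFour

open Subgroup

/-- the derived group of the model -/
def H1 : Subgroup H0 where
  carrier := {x | inH1 x = true}
  one_mem' := show inH1 (1 : H0) = true by decide +kernel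
  mul_mem' := fun {x y} (hx : inH1 x = true) (hy : inH1 y = true) => show inH1 (x * y) = true by
    simp only [inH1, Bool.and_eq_true, Bool.not_eq_true'] at hx hy ⊢
    rw [chP_mul, chE_mul, hx.1, hy.1, hx.2, hy.2]
    exact ⟨rfl, rfl⟩
  inv_mem' := fun {x} (hx : inH1 x = true) => show inH1 x⁻¹ = true by
    simp only [inH1, Bool.and_eq_true, Bool.not_eq_true'] at hx ⊢
    have h1 : chP (1 : H0) = false ∧ chE (1 : H0) = false := by decide +kernel
    constructor
    · have h := chP_mul x x⁻¹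
      rw [mul_inv_cancel, h1.1, hx.1, Bool.false_xor] at h
      exact h.symm
    · have h := chE_mul x x⁻¹
      rw [mul_inv_cancel, h1.2, hx.2, Bool.false_xor] at h
      exact h.symm

theorem mem_H1 {x : H0} : x ∈ H1 ↔ inH1 x = true := Iff.rfl

theorem card_H1_eq : Nat.card H1 = 192 := by
  rw [← card_H1, card_filter_range fun x : H0 => inH1 x]
  exact Nat.card_congr ((Equiv.refl _).subtypeEquiv fun x => Iff.rfl)

/-- the Sylow subgroup of the derived group -/
def T1 : Subgroup H0 := maskSub sylMask mask_ok.1 ⊓ H1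

theorem T1_facts : ((List.finRange 768).filter fun i => inMask sylMask (M.mk i.val) && inH1 (M.mk i.val)).length = 64 ∧
    (∀ x : H0, inMask sylMask x = true → inH1 x = true →
      ((members sylMask).filter fun y => inH1 y).all (fun y => decide (x * y = y * x)) = true →
      (inA x && inB x) = true) ∧
    (∀ x : H0, (inA x || inB x) = true → inMask sylMask x = true) ∧
    ((members AMask).filter fun x => inB x).all (fun x =>
      ((members sylMask).filter fun y => inH1 y).all (fun y => decide (x * y = y * x))) = true := by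
  decide +kernel

theorem card_T1 : Nat.card T1 = 64 := by
  rw [← T1_facts.1, card_filter_range fun x : H0 => inMask sylMask x && inH1 x]
  exact Nat.card_congr ((Equiv.refl _).subtypeEquiv fun x => by
    simp only [Equiv.refl_apply, Bool.and_eq_true]; exact Iff.rfl)

/-- the first subgroup -/
abbrev A0 : Subgroup H0 := maskSub AMask mask_ok.2.2.2.2.2.2.1
/-- the second subgroup -/
abbrev B0 : Subgroup H0 := maskSub BMask mask_ok.2.2.2.2.2.2.2.1
/-- the normaliser of both -/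
abbrev N0 : Subgroup H0 := maskSub NAMask mask_ok.2.2.2.2.2.2.2.2

theorem card_A0 : Nat.card A0 = 16 := by rw [card_maskSub]; exact mask_cards.2.2.2.2.2.2.1
theorem card_B0 : Nat.card B0 = 16 := by rw [card_maskSub]; exact mask_cards.2.2.2.2.2.2.2.1

theorem conj_A0 {g a : H0} (hg : inMask NAMask g = true) (ha : a ∈ A0) : g * a * g⁻¹ ∈ A0 := by
  have h := normal_AB.1
  simp only [List.all_eq_true, mem_members] at h
  exact h a ha g hg

theorem conj_B0 {g a : H0} (hg : inMask NAMask g = true) (ha : a ∈ B0) : g * a * g⁻¹ ∈ B0 := by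
  have h := normal_AB.2
  simp only [List.all_eq_true, mem_members] at h
  exact h a ha g hg

/-- a setting together with the subgroup of index four -/
structure Frame (G : Type*) [Group G] extends Setting (0 : Fin 4) G where
  /-- the subgroup of index four -/
  L : Subgroup G
  normal : L.Normal
  index_L : L.index = 4
  mem_L : ∀ x : H0, ψ x ∈ L ↔ inH1 x = true
  cover : ∀ g : G, ∃ x : H0, g * (ψ x)⁻¹ ∈ L

namespace Frame

variable {G : Type*} [Group G] (F : Frame G)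

/-- the first subgroup in the big group -/
def A : Subgroup G := A0.map F.ψ
/-- the second subgroup in the big group -/
def B : Subgroup G := B0.map F.ψ

theorem A_le : F.A ≤ F.L := by
  rintro _ ⟨x, hx, rfl⟩
  exact (F.mem_L x).2 ((elementary_AB x).1 hx).2

theorem B_le : F.B ≤ F.L := by
  rintro _ ⟨x, hx, rfl⟩
  exact (F.mem_L x).2 ((elementary_AB x).2 hx).2

theorem A_sq {a : G} (ha : a ∈ F.A) : a * a = 1 := by
  obtain ⟨x, hx, rfl⟩ := ha
  rw [← map_mul, ((elementary_AB x).1 hx).1, map_one]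

theorem B_sq {a : G} (ha : a ∈ F.B) : a * a = 1 := by
  obtain ⟨x, hx, rfl⟩ := ha
  rw [← map_mul, ((elementary_AB x).2 hx).1, map_one]

theorem card_A : Nat.card F.A = 16 := by rw [A, card_map_of_injective F.inj, card_A0]
theorem card_B : Nat.card F.B = 16 := by rw [B, card_map_of_injective F.inj, card_B0]

theorem mem_A {x : H0} : F.ψ x ∈ F.A ↔ inA x = true :=
  ⟨fun ⟨y, hy, hxy⟩ => F.inj hxy ▸ hy, fun h => ⟨x, h, rfl⟩⟩

theorem mem_B {x : H0} : F.ψ x ∈ F.B ↔ inB x = true :=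
  ⟨fun ⟨y, hy, hxy⟩ => F.inj hxy ▸ hy, fun h => ⟨x, h, rfl⟩⟩

theorem z_mem_L : F.z ∈ F.L := by
  rw [← F.map_z, F.mem_L]
  exact (lab_chars zM).2.2.2.2.2

theorem z_mem_A : F.z ∈ F.A := by rw [← F.map_z, F.mem_A]; exact gens_H1.1
theorem z_mem_B : F.z ∈ F.B := by rw [← F.map_z, F.mem_B]; exact gens_H1.2.1

theorem z_sq : F.z * F.z = 1 := F.A_sq F.z_mem_A
theorem z_ne : F.z ≠ 1 := fun h => by
  have := F.hz
  rw [h, orderOf_one] at this
  omega

/-- centraliser of the involution in the subgroup of index four -/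
theorem cent_z {g : G} (hg : g ∈ F.L) (hc : g * F.z = F.z * g) : ∃ x, inH1 x = true ∧ F.ψ x = g := by
  obtain ⟨x, rfl⟩ := F.mem_range hc
  exact ⟨x, (F.mem_L x).1 hg, rfl⟩

theorem conj_in_L {u : G} (h : IsConj F.z u) : ∃ l ∈ F.L, l * F.z * l⁻¹ = u := by
  obtain ⟨g, hg⟩ := isConj_iff.1 h
  obtain ⟨x, hx⟩ := F.cover g
  refine ⟨_, hx, ?_⟩
  rw [← hg]
  have h1 := F.comm_z x
  calc g * (F.ψ x)⁻¹ * F.z * (g * (F.ψ x)⁻¹)⁻¹ = g * ((F.ψ x)⁻¹ * (F.z * F.ψ x)) * g⁻¹ := by group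
    _ = _ := by rw [← h1]; group

theorem conj_A_of_H1 {x : H0} (hx : inH1 x = true) : ∀ a ∈ F.A, F.ψ x * a * (F.ψ x)⁻¹ ∈ F.A := by
  rintro _ ⟨y, hy, rfl⟩
  rw [← map_inv, ← map_mul, ← map_mul]
  exact F.mem_A.2 (conj_A0 ((NA_spec x).1 hx) hy)

theorem conj_B_of_H1 {x : H0} (hx : inH1 x = true) : ∀ a ∈ F.B, F.ψ x * a * (F.ψ x)⁻¹ ∈ F.B := by
  rintro _ ⟨y, hy, rfl⟩
  rw [← map_inv, ← map_mul, ← map_mul]
  exact F.mem_B.2 (conj_B0 ((NA_spec x).1 hx) hy)

/-- the elementary abelian subgroups of order sixteen centralising `z` -/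
theorem eq_A_or_B [Finite G] (X : Subgroup G) (hX : Nat.card X = 16) (h2 : ∀ x ∈ X, x * x = 1) (hXL : X ≤ F.L)
    (hc : ∀ x ∈ X, x * F.z = F.z * x) : X = F.A ∨ X = F.B := by
  have key : ∀ x ∈ X, x ∈ F.A ∨ x ∈ F.B := fun x hx => by
    obtain ⟨m, hm, rfl⟩ := F.cent_z (hXL hx) (hc x hx)
    have := invol_H1 m hm (F.inj (by rw [map_mul, h2 _ hx, map_one]))
    rw [Bool.or_eq_true] at this
    exact this.imp F.mem_A.2 F.mem_B.2
  have : X ≤ F.A ∨ X ≤ F.B := by
    by_contra hne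
    rw [not_or, SetLike.not_le_iff_exists, SetLike.not_le_iff_exists] at hne
    obtain ⟨⟨a, ha, ha'⟩, b, hb, hb'⟩ := hne
    rcases key _ (X.mul_mem ha hb) with h | h
    · exact ha' ((mul_mem_cancel_right ((key b hb).resolve_right hb')).1 h)
    · exact hb' ((mul_mem_cancel_left ((key a ha).resolve_left ha')).1 h)
  exact this.imp (fun h => eq_of_le_of_card_ge h (by rw [hX, F.card_A]))
    fun h => eq_of_le_of_card_ge h (by rw [hX, F.card_B])

variable [Finite G]

include F in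
theorem card_G_two : ∃ m, ¬ 2 ∣ m ∧ Nat.card G = 256 * m :=
  ⟨_, F.toSetting.not_two_dvd_index, by rw [← F.toSetting.card_sylG, card_mul_index]⟩

theorem not_128_dvd : ¬ 128 ∣ Nat.card F.L := by
  rintro ⟨k, hk⟩
  obtain ⟨m, hm, hG⟩ := F.card_G_two
  have := F.L.card_mul_index
  rw [F.index_L, hk, hG] at this
  exact hm ⟨k, by omega⟩

/-- elements of `L` normalising the intersection -/
theorem cube_fixes {g : G} (hg : g ∈ F.L) (hV : ∀ a, a ∈ F.A → a ∈ F.B → g * a * g⁻¹ ∈ F.A ∧ g * a * g⁻¹ ∈ F.B) :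
    g * g * g * F.z * (g * g * g)⁻¹ = F.z := by
  by_contra hne
  have hVm : ∀ a, a ∈ F.A → a ∈ F.B → a = 1 ∨ a = F.z ∨ a = F.ψ vM ∨ a = F.z * F.ψ vM := by
    rintro _ ⟨x, hx, rfl⟩ hb
    have key : ∀ y : H0, (inA y && inB y) = true → y = 1 ∨ y = zM ∨ y = vM ∨ y = zM * vM := by decide +kernel
    rcases key x (by rw [Bool.and_eq_true]; exact ⟨hx, F.mem_B.1 hb⟩) with rfl | rfl | rfl | rfl
    · exact Or.inl (map_one _)
    · exact Or.inr (Or.inl F.map_z)
    · exact Or.inr (Or.inr (Or.inl rfl))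
    · exact Or.inr (Or.inr (Or.inr (by rw [map_mul, F.map_z])))
  obtain ⟨-, -, hvA, hvB, -, -, -, -, -, -⟩ := gens_H1
  set v := F.ψ vM
  have v1 : v ∈ F.A := F.mem_A.2 hvA
  have v2 : v ∈ F.B := F.mem_B.2 hvB
  have hzv : F.z ≠ v := by
    intro h
    rw [← F.map_z] at h
    exact absurd (F.inj h) (by decide +kernel)
  have hv1 : v ≠ 1 := fun h => absurd (F.inj (h.trans (map_one F.ψ).symm)) (by decide +kernel)
  set c : G → G := fun a => g * a * g⁻¹ with hc
  have cinj : Function.Injective c := fun a b h => mul_left_cancel (mul_right_cancel h)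
  have c1 : c 1 = 1 := by simp [hc]
  have cm : ∀ a b, c (a * b) = c a * c b := fun a b => (conj_mul).symm
  have p1 : ∀ a, a ∈ F.A → a ∈ F.B → c (c (c a)) = g * g * g * a * (g * g * g)⁻¹ := fun a _ _ => by
    simp [hc, mul_assoc]
  have im : ∀ a, a ∈ F.A → a ∈ F.B → a ≠ 1 → c a = F.z ∨ c a = v ∨ c a = F.z * v := fun a ha hb h1 => by
    rcases hVm _ (hV a ha hb).1 (hV a ha hb).2 with h | h
    · exact absurd (cinj (h.trans c1.symm)) h1
    · exact h
  have hz := im _ F.z_mem_A F.z_mem_B F.z_ne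
  have hv := im v v1 v2 hv1
  have hzv2 : F.z * (F.z * v) = v := by rw [← mul_assoc, F.z_sq, one_mul]
  have hvz : v * F.z = F.z * v := F.comm_z vM
  have hvv : v * v = 1 := F.A_sq v1
  have hvzv : v * (F.z * v) = F.z := by rw [← mul_assoc, hvz, mul_assoc, hvv, mul_one]
  have hne' : c (c (c F.z)) ≠ F.z := by rw [p1 _ F.z_mem_A F.z_mem_B]; exact hne
  -- only a transposition remains; then its square is trivial
  have hsq : c (c F.z) = F.z ∧ c (c v) = v := by
    have n1 : c F.z ≠ c v := fun h => hzv (cinj h)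
    rcases hz with a | a | a <;> rcases hv with b | b | b <;>
      first
      | exact absurd (a.trans b.symm) n1
      | (refine ⟨?_, ?_⟩ <;> simp only [a, b, cm, hzv2, hvz, mul_assoc, hvv, hvzv, mul_one, F.z_sq]; done)
      | (exfalso; apply hne'; simp only [a, b, cm, hzv2, hvz, mul_assoc, hvv, hvzv, mul_one, F.z_sq])
  have hcz' : c F.z ≠ F.z := fun h => hne' (by rw [hsq.1, h])
  -- the centraliser of the four-group
  set K := H1.map F.ψ with hK
  have hKfix : ∀ k ∈ K, k * F.z = F.z * k ∧ k * v = v * k := by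
    rintro _ ⟨x, hx, rfl⟩
    exact ⟨F.comm_z x, by rw [← map_mul, ← map_mul, (cent_AB x).2.1 hx]⟩
  have hKmem : ∀ x ∈ F.L, x * F.z = F.z * x → x ∈ K := fun x hx hc => by
    obtain ⟨m, hm, rfl⟩ := F.cent_z hx hc
    exact ⟨m, hm, rfl⟩
  have hgg : g * g ∈ K := hKmem _ (F.L.mul_mem hg hg) (by
    have := hsq.1
    simp only [hc] at this
    calc g * g * F.z = g * (g * F.z * g⁻¹) * g⁻¹ * (g * g) := by group
      _ = _ := by rw [this])
  have hgK : g ∉ K := fun h => hcz' (by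
    show g * F.z * g⁻¹ = F.z
    rw [(hKfix g h).1, mul_inv_cancel_right])
  have hnorm : ∀ k ∈ K, g * k * g⁻¹ ∈ K := fun k hk => hKmem _
    (F.normal.conj_mem _ (by
      obtain ⟨x, hx, rfl⟩ := hk
      exact (F.mem_L x).2 hx) g) (by
    have fixV : ∀ y, (y = F.z ∨ y = v ∨ y = F.z * v) → k * y = y * k := by
      rintro y (rfl | rfl | rfl)
      · exact (hKfix k hk).1
      · exact (hKfix k hk).2
      · rw [← mul_assoc, (hKfix k hk).1, mul_assoc, (hKfix k hk).2, mul_assoc]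
    have hg' : g⁻¹ * F.z * g = c F.z := by
      conv_lhs => rw [← hsq.1]
      simp [hc, mul_assoc]
    calc g * k * g⁻¹ * F.z = g * (k * (g⁻¹ * F.z * g)) * g⁻¹ := by group
      _ = g * (g⁻¹ * F.z * g * k) * g⁻¹ := by rw [hg', fixV _ hz]
      _ = _ := by group)
  set W := K ⊔ zpowers g with hW
  have hWL : W ≤ F.L := sup_le (by rintro _ ⟨x, hx, rfl⟩; exact (F.mem_L x).2 hx) (zpowers_le.2 hg)
  haveI : (K.subgroupOf W).Normal := by
    rw [normal_subgroupOf_iff_le_normalizer le_sup_left]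
    refine sup_le le_normalizer (zpowers_le.2 ?_)
    exact Cfsg.Lib.ZStarApps.mem_normalizer_of_maps hnorm
  let gq : W ⧸ K.subgroupOf W := QuotientGroup.mk ⟨g, (le_sup_right : _ ≤ W) (mem_zpowers g)⟩
  have hq : orderOf gq = 2 := by
    refine orderOf_eq_prime ?_ fun h => hgK ?_
    · rw [pow_two, ← QuotientGroup.mk_mul, QuotientGroup.eq_one_iff]
      exact mem_subgroupOf.2 hgg
    · rw [QuotientGroup.eq_one_iff] at h
      exact mem_subgroupOf.1 h
  apply F.not_128_dvd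
  have h1 : Nat.card W = Nat.card (W ⧸ K.subgroupOf W) * Nat.card (K.subgroupOf W) :=
    card_eq_card_quotient_mul_card_subgroup _
  have h2 : 2 ∣ Nat.card (W ⧸ K.subgroupOf W) := hq ▸ orderOf_dvd_natCard gq
  have h3 : Nat.card (K.subgroupOf W) = 192 := by
    rw [Nat.card_congr (subgroupOfEquivOfLe le_sup_left).toEquiv, hK, card_map_of_injective F.inj, card_H1_eq]
  refine Dvd.dvd.trans ?_ (card_dvd_of_le hWL)
  rw [h1, h3]
  obtain ⟨q, hq'⟩ := h2
  rw [hq']
  exact ⟨3 * q, by ring⟩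

/-- The two subgroups are not conjugate in `L` by elements fixing their intersection. -/
theorem no_swap_normalizer {g : G} (hg : g ∈ F.L)
    (hV : ∀ a, a ∈ F.A → a ∈ F.B → g * a * g⁻¹ ∈ F.A ∧ g * a * g⁻¹ ∈ F.B) :
    ¬ ∀ a ∈ F.A, g * a * g⁻¹ ∈ F.B := by
  intro hAB
  have hz := F.cube_fixes hg hV
  have hg3 : g * g * g ∈ F.L := F.L.mul_mem (F.L.mul_mem hg hg) hg
  obtain ⟨m, hm, hmg⟩ := F.cent_z hg3 (by
    conv_rhs => rw [← hz]
    group)
  -- the image of the second subgroup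
  have hX : F.B.map (MulAut.conj g).toMonoidHom = F.A ∨ F.B.map (MulAut.conj g).toMonoidHom = F.B := by
    refine F.eq_A_or_B _ (by rw [card_map_of_injective (MulAut.conj g).injective, F.card_B]) ?_ ?_ ?_
    · rintro _ ⟨b, hb, rfl⟩
      rw [← map_mul, F.B_sq hb, map_one]
    · rintro _ ⟨b, hb, rfl⟩
      exact F.normal.conj_mem _ (F.B_le hb) g
    · rintro _ ⟨b, hb, rfl⟩
      obtain ⟨h1, h2⟩ := hV _ F.z_mem_A F.z_mem_B
      show g * b * g⁻¹ * F.z = F.z * (g * b * g⁻¹)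
      -- the image of `z` under the inverse lies in the intersection
      obtain ⟨y, hy1, hy2, hy3⟩ : ∃ y, y ∈ F.A ∧ y ∈ F.B ∧ g * y * g⁻¹ = F.z := by
        let f : (F.A ⊓ F.B : Subgroup G) → (F.A ⊓ F.B : Subgroup G) := fun a => ⟨g * a.1 * g⁻¹, hV a.1 a.2.1 a.2.2⟩
        have hf : Function.Injective f := fun a b h =>
          Subtype.ext (mul_left_cancel (mul_right_cancel (congrArg Subtype.val h)))
        obtain ⟨y, hy⟩ := Finite.injective_iff_surjective.1 hf ⟨F.z, F.z_mem_A, F.z_mem_B⟩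
        exact ⟨y.1, y.2.1, y.2.2, congrArg Subtype.val hy⟩
      rw [← hy3, conj_mul, conj_mul]
      congr 2
      obtain ⟨b', hb', rfl⟩ := hb
      obtain ⟨y', hy', rfl⟩ := hy2
      rw [← map_mul, ← map_mul]
      congr 1
      have hb2 : ∀ u v : H0, u * u = 1 → v * v = 1 → u * v * (u * v) = 1 → u * v = v * u := fun u v hu hv huv =>
        (inv_eq_of_mul_eq_one_right huv).symm.trans (by
          rw [mul_inv_rev, inv_eq_of_mul_eq_one_right hu, inv_eq_of_mul_eq_one_right hv])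
      exact hb2 b' y' ((elementary_AB b').2 hb').1 ((elementary_AB y').2 hy').1
        ((elementary_AB _).2 (B0.mul_mem hb' hy')).1
  rcases hX with hX | hX
  swap
  · -- then the image of the first is the second, twice
    have h1 : F.A.map (MulAut.conj g).toMonoidHom = F.B := eq_of_le_of_card_ge
      (by rintro _ ⟨a, ha, rfl⟩; exact hAB a ha)
      (by rw [card_map_of_injective (MulAut.conj g).injective, F.card_A, F.card_B])
    have := map_injective (MulAut.conj g).injective (h1.trans hX.symm)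
    have ha : F.ψ aM ∈ F.B := this ▸ F.mem_A.2 gens_H1.2.2.2.2.1
    rw [F.mem_B, gens_H1.2.2.2.2.2.1] at ha
    exact Bool.noConfusion ha
  -- the cube both exchanges and preserves
  have e1 : F.ψ m * F.ψ aM * (F.ψ m)⁻¹ ∈ F.A := F.conj_A_of_H1 hm _ (F.mem_A.2 gens_H1.2.2.2.2.1)
  have hbw : ∀ b ∈ F.B, g * b * g⁻¹ ∈ F.A := fun b hb => hX ▸ mem_map_of_mem _ hb
  have e2 : F.ψ m * F.ψ aM * (F.ψ m)⁻¹ ∈ F.B := by
    rw [hmg]
    have := hAB _ (hbw _ (hAB _ (F.mem_A.2 gens_H1.2.2.2.2.1)))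
    simpa [mul_assoc] using this
  have hV' : ∀ a, a ∈ F.A → a ∈ F.B → F.ψ m * a * (F.ψ m)⁻¹ ∈ F.A ∧ F.ψ m * a * (F.ψ m)⁻¹ ∈ F.B :=
    fun a ha hb => ⟨F.conj_A_of_H1 hm a ha, F.conj_B_of_H1 hm a hb⟩
  -- conjugation by the cube is injective on the intersection
  let f : (F.A ⊓ F.B : Subgroup G) → (F.A ⊓ F.B : Subgroup G) := fun a => ⟨_, hV' a.1 a.2.1 a.2.2⟩
  have hf : Function.Injective f := fun a b h =>
    Subtype.ext (mul_left_cancel (mul_right_cancel (congrArg Subtype.val h)))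
  obtain ⟨y, hy⟩ := Finite.injective_iff_surjective.1 hf ⟨_, e1, e2⟩
  have hy' : y.1 = F.ψ aM := mul_left_cancel (mul_right_cancel (congrArg Subtype.val hy))
  have ha : F.ψ aM ∈ F.B := hy' ▸ y.2.2
  rw [F.mem_B, gens_H1.2.2.2.2.2.1] at ha
  exact Bool.noConfusion ha

/-- The two subgroups are not conjugate in `L`. -/
theorem not_conj {g : G} (hg : g ∈ F.L) : ¬ ∀ a ∈ F.A, g * a * g⁻¹ ∈ F.B := by
  intro hAB
  haveI : Fact (Nat.Prime 2) := ⟨Nat.prime_two⟩
  have h1 : F.A.map (MulAut.conj g).toMonoidHom = F.B := eq_of_le_of_card_ge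
    (by rintro _ ⟨a, ha, rfl⟩; exact hAB a ha)
    (by rw [card_map_of_injective (MulAut.conj g).injective, F.card_A, F.card_B])
  set T := T1.map F.ψ with hTdef
  have hTL : T ≤ F.L := by rintro _ ⟨x, hx, rfl⟩; exact (F.mem_L x).2 hx.2
  set N := normalizer (F.A : Set G) ⊓ F.L with hN
  have hTN : ∀ U : Subgroup G, U = T ∨ U = T.map (MulAut.conj g⁻¹).toMonoidHom → U ≤ N := by
    rintro U (rfl | rfl)
    · refine fun u hu => ⟨?_, hTL hu⟩
      obtain ⟨x, hx, rfl⟩ := hu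
      exact Cfsg.Lib.ZStarApps.mem_normalizer_of_maps (F.conj_A_of_H1 hx.2)
    · rintro _ ⟨u, hu, rfl⟩
      refine ⟨Cfsg.Lib.ZStarApps.mem_normalizer_of_maps fun a ha => ?_, F.normal.conj_mem _ (hTL hu) _⟩
      obtain ⟨x, hx, rfl⟩ := hu
      have hb := F.conj_B_of_H1 hx.2 _ (hAB a ha)
      obtain ⟨a', ha', he⟩ : ∃ a' ∈ F.A, g * a' * g⁻¹ = F.ψ x * (g * a * g⁻¹) * (F.ψ x)⁻¹ := by
        rw [← h1] at hb
        exact hb
      show g⁻¹ * F.ψ x * g⁻¹⁻¹ * a * (g⁻¹ * F.ψ x * g⁻¹⁻¹)⁻¹ ∈ F.A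
      convert ha' using 1
      calc _ = g⁻¹ * (F.ψ x * (g * a * g⁻¹) * (F.ψ x)⁻¹) * g := by group
        _ = _ := by rw [← he]; group
  have hTcard : Nat.card T = 64 := by rw [hTdef, card_map_of_injective F.inj, card_T1]
  have hsyl : ∀ U : Subgroup G, U ≤ N → Nat.card U = 64 → ∃ P : Sylow 2 N, (P : Subgroup N) = U.subgroupOf N := by
    intro U hU hU64
    have hp : IsPGroup 2 (U.subgroupOf N) :=
      (IsPGroup.of_card (n := 6) hU64).comap_of_injective _ N.subtype_injective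
    obtain ⟨P, hP⟩ := hp.exists_le_sylow
    refine ⟨P, (eq_of_le_of_card_ge hP ?_).symm⟩
    rw [Nat.card_congr (subgroupOfEquivOfLe hU).toEquiv, hU64]
    obtain ⟨n, hn⟩ := IsPGroup.iff_card.1 P.2
    have hd : 2 ^ n ∣ Nat.card F.L := by
      rw [← hn]
      exact (card_subgroup_dvd_card _).trans (card_dvd_of_le inf_le_right)
    rw [hn]
    by_contra hlt
    have hn7 : 7 ≤ n := by
      by_contra h7
      have := Nat.pow_le_pow_right (show 0 < 2 by norm_num) (show n ≤ 6 by omega)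
      omega
    exact F.not_128_dvd ((pow_dvd_pow 2 hn7).trans hd)
  have c64 : Nat.card (T.map (MulAut.conj g⁻¹).toMonoidHom) = 64 := by
    rw [card_map_of_injective (MulAut.conj g⁻¹).injective, hTcard]
  obtain ⟨P, hP⟩ := hsyl T (hTN T (Or.inl rfl)) hTcard
  obtain ⟨Q, hQ⟩ := hsyl _ (hTN _ (Or.inr rfl)) c64
  obtain ⟨n, hn⟩ := MulAction.exists_smul_eq N P Q
  have hnT : ∀ u ∈ T, g * n.1 * u * (g * n.1)⁻¹ ∈ T := by
    intro u hu
    have h : n * (⟨u, hTN T (Or.inl rfl) hu⟩ : N) * n⁻¹ ∈ (Q : Subgroup N) := by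
      rw [← hn]
      exact ⟨⟨u, hTN T (Or.inl rfl) hu⟩, by rw [hP]; exact hu, rfl⟩
    rw [hQ] at h
    obtain ⟨w, hw, hwe⟩ := mem_subgroupOf.1 h
    have hwe' : g⁻¹ * w * g⁻¹⁻¹ = n.1 * u * n.1⁻¹ := hwe
    have : g * n.1 * u * (g * n.1)⁻¹ = w := by
      calc _ = g * (n.1 * u * n.1⁻¹) * g⁻¹ := by group
        _ = _ := by rw [← hwe']; group
    rw [this]
    exact hw
  refine F.no_swap_normalizer (g := g * n.1) (F.L.mul_mem hg n.2.2) ?_ fun a ha => ?_
  · rintro a ⟨x, hx, rfl⟩ hb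
    have hxB := F.mem_B.1 hb
    have hxT : F.ψ x ∈ T := ⟨x, ⟨T1_facts.2.2.1 x (by rw [show inA x = true from hx]; rfl),
      ((elementary_AB x).1 hx).2⟩, rfl⟩
    obtain ⟨y, hy, hye⟩ := hnT _ hxT
    rw [← hye]
    have hyV : (inA y && inB y) = true := by
      refine T1_facts.2.1 y hy.1 hy.2 ?_
      simp only [List.all_eq_true, List.mem_filter, mem_members, decide_eq_true_eq]
      rintro w ⟨hw1, hw2⟩
      let f : T → T := fun u => ⟨g * n.1 * u.1 * (g * n.1)⁻¹, hnT u.1 u.2⟩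
      have hf : Function.Injective f := fun a b h =>
        Subtype.ext (mul_left_cancel (mul_right_cancel (congrArg Subtype.val h)))
      obtain ⟨⟨_, u, hu, rfl⟩, huw⟩ := Finite.injective_iff_surjective.1 hf ⟨F.ψ w, ⟨w, ⟨hw1, hw2⟩, rfl⟩⟩
      have huw' : g * n.1 * F.ψ u * (g * n.1)⁻¹ = F.ψ w := congrArg Subtype.val huw
      apply F.inj
      have hcomm := T1_facts.2.2.2
      simp only [List.all_eq_true, List.mem_filter, mem_members, decide_eq_true_eq] at hcomm
      rw [map_mul, map_mul, hye, ← huw', conj_mul, conj_mul, ← map_mul, ← map_mul, hcomm x ⟨hx, hxB⟩ u ⟨hu.1, hu.2⟩]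
    rw [Bool.and_eq_true] at hyV
    exact ⟨F.mem_A.2 hyV.1, F.mem_B.2 hyV.2⟩
  · have h2 := (mem_normalizer_iff.1 n.2.1 a).1 ha
    convert hAB _ h2 using 1
    group

end Frame

end Cfsg.Lib.AutThreeFour
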