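import Mathlib
import Cfsg.Agent.AutThreeFour.Local
import Cfsg.Agent.InvolCalc.Dihedral
import Cfsg.Agent.LocalThree.HallJankoType.OrderFormula

/-!
Involutions in the subgroup of index four.
-/

set_option autoImplicit false
set_option maxRecDepth 20000
set_option linter.style.haveILetI false

namespace Cfsg.Lib.AutThreeFour

open Subgroup

theorem zero_or_lab {m : H0} (h1 : m * m = 1) (h : inH1 m = true) (h0 : m ≠ 1) : m = zM ∨ lab m = 1 ∨ lab m = 2 := by
  rcases lab_invol 0 m h1 h0 with ⟨-, hz⟩ | ⟨q1, q5, -⟩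
  · exact Or.inl hz
  refine Or.inr ?_
  obtain ⟨-, -, h3, h4, h5, -⟩ := lab_chars m
  simp only [inH1, Bool.and_eq_true, Bool.not_eq_true'] at h
  by_contra hc
  rcases (show lab m = 3 ∨ lab m = 4 ∨ lab m = 5 by omega) with e | e | e
  · exact Bool.noConfusion ((h3 e).2.symm.trans h.2)
  · exact Bool.noConfusion ((h4 e).1.symm.trans h.1)
  · exact Bool.noConfusion ((h5 e).1.symm.trans h.1)

namespace Frame

variable {G : Type*} [Group G] (F : Frame G)

/-- the element of `L` attached to an element of the derived group -/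
def elL (x : H0) (hx : inH1 x = true) : F.L := ⟨F.ψ x, (F.mem_L x).2 hx⟩

/-- the involution inside `L` -/
def zL : F.L := ⟨F.z, F.z_mem_L⟩

theorem elL_zM (h : inH1 (zM : H0) = true) : F.elL zM h = F.zL := Subtype.ext F.map_z

theorem orderOf_zL : orderOf F.zL = 2 := by rw [← orderOf_submonoid, zL]; exact F.hz

theorem orderOf_elL {x : H0} (hx : inH1 x = true) (h1 : x * x = 1) (h0 : x ≠ 1) : orderOf (F.elL x hx) = 2 :=
  orderOf_eq_prime (Subtype.ext (by
    show ((F.elL x hx) ^ 2 : F.L).1 = 1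
    rw [pow_two]
    show F.ψ x * F.ψ x = 1
    rw [← map_mul, h1, map_one])) fun h => h0 (F.inj ((congrArg Subtype.val h).trans (map_one F.ψ).symm))

theorem card_cent_zL : Nat.card (centralizer ({F.zL} : Set F.L)) = 192 := by
  rw [← card_H1_eq]
  refine (Nat.card_congr (Equiv.ofBijective (fun x : H1 => (⟨F.elL x.1 x.2, ?_⟩ : centralizer ({F.zL} : Set F.L))) ⟨?_, ?_⟩)).symm
  · rw [mem_centralizer_singleton_iff]
    exact Subtype.ext (F.comm_z x.1)
  · intro a b h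
    exact Subtype.ext (F.inj (congrArg (fun u : centralizer ({F.zL} : Set F.L) => u.1.1) h))
  · rintro ⟨⟨g, hg⟩, hc⟩
    obtain ⟨x, hx, rfl⟩ := F.cent_z hg (congrArg Subtype.val (mem_centralizer_singleton_iff.1 hc))
    exact ⟨⟨x, hx⟩, rfl⟩

theorem isConj_L_of_G [Finite G] {u : F.L} (h : IsConj F.z u.1) : IsConj F.zL u := by
  obtain ⟨l, hl, he⟩ := F.conj_in_L h
  exact isConj_iff.2 ⟨⟨l, hl⟩, Subtype.ext he⟩

theorem isConj_G_of_L {u v : F.L} (h : IsConj u v) : IsConj u.1 v.1 :=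
  F.L.subtype.map_isConj h

variable [Finite G]

theorem sylow_conj (U : Subgroup G) (hU : IsPGroup 2 U) (hUL : U ≤ F.L) :
    ∃ l ∈ F.L, ∀ u ∈ U, ∃ m : H0, inH1 m = true ∧ l * u * l⁻¹ = F.ψ m := by
  haveI : Fact (Nat.Prime 2) := ⟨Nat.prime_two⟩
  obtain ⟨P, hP⟩ := hU.exists_le_sylow
  obtain ⟨g, hg⟩ := MulAction.exists_smul_eq G P F.toSetting.sylP
  obtain ⟨x, hx⟩ := F.cover g⁻¹
  refine ⟨F.ψ x * g, ?_, fun u hu => ?_⟩
  · have := F.L.inv_mem hx
    rw [mul_inv_rev, inv_inv, inv_inv] at this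
    exact this
  have h1 : g * u * g⁻¹ ∈ (F.toSetting.sylP : Subgroup G) := by
    rw [← hg]
    exact ⟨u, hP hu, rfl⟩
  rw [F.toSetting.coe_sylP] at h1
  obtain ⟨m, -, hmu⟩ := h1
  have e : F.ψ x * g * u * (F.ψ x * g)⁻¹ = F.ψ (x * m * x⁻¹) := by
    rw [map_mul, map_mul, map_inv, hmu]
    group
  refine ⟨x * m * x⁻¹, (F.mem_L _).1 ?_, e⟩
  rw [← e]
  have hl : F.ψ x * g ∈ F.L := by
    have := F.L.inv_mem hx
    rw [mul_inv_rev, inv_inv, inv_inv] at this
    exact this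
  exact F.L.mul_mem (F.L.mul_mem hl (hUL hu)) (F.L.inv_mem hl)

theorem invol_L (u : F.L) (hu : orderOf u = 2) :
    ∃ (m : H0) (hm : inH1 m = true), IsConj u (F.elL m hm) ∧ m * m = 1 ∧ m ≠ 1 := by
  have hu' : orderOf u.1 = 2 := by rwa [orderOf_submonoid]
  have hp : IsPGroup 2 (zpowers u.1) := IsPGroup.of_card (n := 1) (by rw [Nat.card_zpowers, hu', pow_one])
  obtain ⟨l, hl, hk⟩ := F.sylow_conj (zpowers u.1) hp (zpowers_le.2 u.2)
  obtain ⟨m, hm, he⟩ := hk u.1 (mem_zpowers _)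
  refine ⟨m, hm, isConj_iff.2 ⟨⟨l, hl⟩, Subtype.ext he⟩, ?_, ?_⟩
  · apply F.inj
    rw [map_mul, ← he, conj_mul, Cfsg.Lib.InvolCalc.sq_of_order_two hu', mul_one, mul_inv_cancel, map_one]
  · rintro rfl
    rw [map_one, conj_eq_one_iff] at he
    exact Cfsg.Lib.InvolCalc.ne_one_of_order_two hu' he

theorem conj_L_lab_two (m : H0) (hl : lab m = 2) (hm : inH1 m = true) :
    (inA m = true → IsConj (F.elL m hm) (F.elL aM (lab_chars aM |>.2.1 rep_spec.2.2.2.2.2.2.1))) ∧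
    (inA m = false → IsConj (F.elL m hm) (F.elL bM (lab_chars bM |>.2.1 rep_spec.2.2.2.2.2.2.2.1))) := by
  obtain ⟨hc, he⟩ := cwA_spec m hl
  constructor <;> intro h <;> rw [h] at he <;>
    refine isConj_iff.2 ⟨F.elL (cwA m) hc, Subtype.ext ?_⟩ <;>
    show F.ψ (cwA m) * F.ψ m * (F.ψ (cwA m))⁻¹ = F.ψ _ <;> rw [← map_inv, ← map_mul, ← map_mul, he] <;> rfl

/-- every involution of `L` is conjugate in `L` to one of three representatives -/
theorem invol_classes (hv : F.toSetting.InF vM) (u : F.L) (hu : orderOf u = 2) :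
    IsConj F.zL u ∨ IsConj (F.elL aM (lab_chars aM |>.2.1 rep_spec.2.2.2.2.2.2.1)) u ∨
      IsConj (F.elL bM (lab_chars bM |>.2.1 rep_spec.2.2.2.2.2.2.2.1)) u := by
  obtain ⟨m, hm, hc, h1, h0⟩ := F.invol_L u hu
  have hG : IsConj u.1 (F.ψ m) := F.isConj_G_of_L hc
  rcases zero_or_lab h1 hm h0 with rfl | h | h
  · exact Or.inl ((F.elL_zM hm ▸ hc).symm)
  · refine Or.inl (F.isConj_L_of_G ?_)
    have hF : F.toSetting.InF m := F.toSetting.inF_of_lab hv (by rw [rep_spec.2.2.2.2.2.1]; decide)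
      (h.trans rep_spec.2.2.2.2.2.1.symm)
    exact IsConj.trans hF hG.symm
  · obtain ⟨i1, i2⟩ := F.conj_L_lab_two m h hm
    cases hA : inA m
    · exact Or.inr (Or.inr ((hc.trans (i2 hA)).symm))
    · exact Or.inr (Or.inl ((hc.trans (i1 hA)).symm))

end Frame

end Cfsg.Lib.AutThreeFour
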