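import Mathlib
import Cfsg.Agent.AutThreeFour.Invol
import Cfsg.Agent.AutThreeFour.FullFacts
import Cfsg.Agent.S3035
import Cfsg.Agent.LocalThree.HallJankoType.ThreeLocal
import Cfsg.Agent.AutThreeFour.Core

/-!
The case where the four-group and a side representative are fused: the centraliser of the field involution.
-/

set_option autoImplicit false
set_option maxRecDepth 20000
set_option linter.style.haveILetI false

namespace Cfsg.Lib.AutThreeFour

open Subgroup Cfsg.Lib.HallJankoType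

theorem not_S4_S5 {K : Type*} [Group K] [Finite K] {n : ℕ} (hn : n = 4 ∨ n = 5) (e : K ≃* Equiv.Perm (Fin n))
    (f : DihedralGroup 4 →* K) (hf : Function.Injective f)
    (hconj : ∀ i : ZMod 4, IsConj (f (.r 2)) (f (.sr i))) : False := by
  let s : DihedralGroup 4 →* ℤˣ := Equiv.Perm.sign.comp (e.toMonoidHom.comp f)
  have hsr : ∀ i : ZMod 4, s (.sr i) = s (.r 2) := fun i => by
    obtain ⟨c, hc⟩ := isConj_iff.1 (hconj i)
    show Equiv.Perm.sign (e (f (.sr i))) = Equiv.Perm.sign (e (f (.r 2)))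
    rw [← hc]
    simp only [map_mul, map_inv]
    rw [mul_comm (Equiv.Perm.sign (e c)), mul_inv_cancel_right]
  have hmul : ∀ a b : ZMod 4, (DihedralGroup.sr a) * .sr b = .r (b - a) := fun a b => DihedralGroup.sr_mul_sr a b
  have hr : ∀ i : ZMod 4, s (.r i) = 1 := fun i => by
    have := congrArg s (hmul 0 i)
    rw [sub_zero, map_mul, hsr, hsr, Int.units_mul_self] at this
    exact this.symm
  have hs : ∀ d, s d = 1 := fun d => by
    cases d with
    | r i => exact hr i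
    | sr i => rw [hsr]; exact hr 2
  have hle : (f.range.map e.toMonoidHom) ≤ alternatingGroup (Fin n) := by
    rintro _ ⟨_, ⟨d, rfl⟩, rfl⟩
    exact Equiv.Perm.mem_alternatingGroup.2 (hs d)
  have h8 : Nat.card (f.range.map e.toMonoidHom) = 8 := by
    rw [card_map_of_injective e.injective, ← Nat.card_congr (MonoidHom.ofInjective hf).toEquiv, DihedralGroup.nat_card]
  have hd := h8 ▸ card_dvd_of_le hle
  haveI : Nontrivial (Fin n) := Fin.nontrivial_iff_two_le.2 (by omega)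
  have := two_mul_nat_card_alternatingGroup (α := Fin n)
  rw [Nat.card_perm, Nat.card_fin] at this
  rcases hn with rfl | rfl
  · rw [show Nat.factorial 4 = 24 from rfl] at this
    omega
  · rw [show Nat.factorial 5 = 120 from rfl] at this
    omega

namespace Frame

variable {G : Type*} [Group G] [Finite G] (F : Frame G)

/-- the hypothesis of the main case -/
def FullCase : Prop := F.toSetting.InF vM ∧ F.toSetting.InF aM

/-- the field involution -/
def phi : G := F.ψ phiM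

/-- the centraliser of the field involution in `L` -/
def K : Subgroup G := F.L ⊓ centralizer ({F.phi} : Set G)

theorem orderOf_phi : orderOf F.phi = 2 := by
  obtain ⟨-, -, h2, h1, -⟩ := full_facts
  exact orderOf_eq_prime (by rw [pow_two, phi, ← map_mul, h2, map_one])
    fun h => h1 (F.inj (h.trans (map_one F.ψ).symm))

theorem phi_not_mem : F.phi ∉ F.L := fun h => by
  obtain ⟨-, -, -, -, -, hP, -⟩ := full_facts
  have := (F.mem_L phiM).1 h
  simp [inH1, hP] at this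

theorem mem_K {x : G} : x ∈ F.K ↔ x ∈ F.L ∧ x * F.phi = F.phi * x := by
  rw [K, mem_inf, mem_centralizer_singleton_iff]

/-- the involution in `K` -/
def zK : F.K := ⟨F.z, F.mem_K.2 ⟨F.z_mem_L, (F.comm_z phiM).symm⟩⟩

/-- the dihedral group in `K` -/
def fK : DihedralGroup 4 →* F.K :=
  (F.ψ.comp dihHom).codRestrict F.K fun d => F.mem_K.2
    ⟨(F.mem_L _).2 (dihFun_facts.1 d).1, by
      show F.ψ (dihFun d) * F.ψ phiM = F.ψ phiM * F.ψ (dihFun d)
      rw [← map_mul, ← map_mul, (dihFun_facts.1 d).2]⟩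

theorem coe_fK (d : DihedralGroup 4) : (F.fK d : G) = F.ψ (dihFun d) := rfl

theorem fK_inj : Function.Injective F.fK := fun a b h =>
  dihFun_facts.2.1 a b (F.inj (congrArg Subtype.val h))

theorem fK_r_two : F.fK (.r 2) = F.zK := Subtype.ext (by
  rw [coe_fK, dihFun_facts.2.2.1]; exact F.map_z)

theorem range_fK : F.fK.range = centralizer ({F.zK} : Set F.K) := by
  ext x
  rw [mem_centralizer_singleton_iff]
  constructor
  · rintro ⟨d, rfl⟩
    exact Subtype.ext (F.comm_z _)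
  · intro h
    obtain ⟨hL, hc⟩ := F.mem_K.1 x.2
    obtain ⟨m, hm, hmx⟩ := F.cent_z hL (congrArg Subtype.val h)
    obtain ⟨d, hd⟩ := dihFun_facts.2.2.2.2.2 m hm (F.inj (by rw [map_mul, map_mul, hmx]; exact hc))
    exact ⟨d, Subtype.ext (by rw [coe_fK, hd, hmx])⟩

theorem orderOf_zK : orderOf F.zK = 2 := by
  rw [← orderOf_submonoid]; exact F.hz

/-- some element of the centraliser of `φ` in each coset -/
theorem cover_cent (g : G) : ∃ h : H0, h * phiM = phiM * h ∧ g * (F.ψ h)⁻¹ ∈ F.L := by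
  obtain ⟨x, hx⟩ := F.cover g
  obtain ⟨-, -, -, -, hgp, hP, hE, hgE, -⟩ := full_facts
  have key : ∀ h : H0, chP h = chP x → chE h = chE x → g * (F.ψ h)⁻¹ ∈ F.L := by
    intro h h1 h2
    have h3 : inH1 (x * h⁻¹) = true := by
      have e1 := chP_mul (x * h⁻¹) h
      have e2 := chE_mul (x * h⁻¹) h
      rw [inv_mul_cancel_right, h1] at e1
      rw [inv_mul_cancel_right, h2] at e2
      revert e1 e2
      simp only [inH1]
      cases chP (x * h⁻¹) <;> cases chE (x * h⁻¹) <;> cases chP x <;> cases chE x <;> simp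
    have := F.L.mul_mem hx ((F.mem_L _).2 h3)
    rw [map_mul, map_inv] at this
    simpa [mul_assoc] using this
  have h1 : chP (1 : H0) = false ∧ chE (1 : H0) = false := by decide +kernel
  have hgg : phiM * grM * phiM = phiM * (phiM * grM) := by rw [mul_assoc, hgp]
  rcases hx1 : chP x with _ | _ <;> rcases hx2 : chE x with _ | _
  · exact ⟨1, by simp, key _ (h1.1.trans hx1.symm) (h1.2.trans hx2.symm)⟩
  · cases hg : chP grM
    · exact ⟨grM, hgp, key _ (hg.trans hx1.symm) (hgE.trans hx2.symm)⟩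
    · exact ⟨phiM * grM, hgg, key _ (by rw [chP_mul, hP, hg, hx1]; rfl) (by rw [chE_mul, hE, hgE, hx2]; rfl)⟩
  · exact ⟨phiM, rfl, key _ (hP.trans hx1.symm) (hE.trans hx2.symm)⟩
  · cases hg : chP grM
    · exact ⟨phiM * grM, hgg, key _ (by rw [chP_mul, hP, hg, hx1]; rfl) (by rw [chE_mul, hE, hgE, hx2]; rfl)⟩
    · exact ⟨grM, hgp, key _ (hg.trans hx1.symm) (hgE.trans hx2.symm)⟩

theorem card_cent_phi : Nat.card (centralizer ({F.phi} : Set G)) = 4 * Nat.card F.K := by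
  set C := centralizer ({F.phi} : Set G)
  haveI := F.normal
  have hsup : C ⊔ F.L = ⊤ := eq_top_iff.2 fun g _ => by
    obtain ⟨h, hh, hg⟩ := F.cover_cent g
    have : g = g * (F.ψ h)⁻¹ * F.ψ h := by group
    rw [this]
    refine mul_mem (mem_sup_right hg) (mem_sup_left ?_)
    rw [mem_centralizer_singleton_iff, phi, ← map_mul, ← map_mul, hh]
  have h4 : F.L.relIndex C = 4 := by
    rw [← relIndex_sup_right, hsup, relIndex_top_right, F.index_L]
  have := (F.L.subgroupOf C).card_mul_index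
  rw [← relIndex, h4] at this
  rw [← this, mul_comm, K, ← subgroupOf_map_subtype, card_map_of_injective C.subtype_injective]

variable {F}
variable (hF : F.FullCase)
include hF

omit [Finite G] in
theorem inF_lab_two {m : H0} (h : lab m = 2) : F.toSetting.InF m :=
  F.toSetting.inF_of_lab hF.2 (by rw [rep_spec.2.2.2.2.2.2.1]; decide) (h.trans rep_spec.2.2.2.2.2.2.1.symm)

omit [Finite G] in
theorem inF_iff {m : H0} : F.toSetting.InF m ↔ m = zM ∨ lab m = 1 ∨ lab m = 2 := by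
  refine ⟨F.toSetting.inF_lab, ?_⟩
  rintro (rfl | h | h)
  · exact F.toSetting.inF_z
  · exact F.toSetting.inF_of_lab hF.1 (by rw [rep_spec.2.2.2.2.2.1]; decide) (h.trans rep_spec.2.2.2.2.2.1.symm)
  · exact inF_lab_two hF h

/-- all involutions of `L` are conjugate in `L` -/
theorem all_conj (u : F.L) (hu : orderOf u = 2) : IsConj F.zL u := by
  rcases F.invol_classes hF.1 u hu with h | h | h
  · exact h
  · exact (F.isConj_L_of_G (u := F.elL aM (lab_chars aM |>.2.1 rep_spec.2.2.2.2.2.2.1))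
      (inF_lab_two hF rep_spec.2.2.2.2.2.2.1)).trans h
  · exact (F.isConj_L_of_G (u := F.elL bM (lab_chars bM |>.2.1 rep_spec.2.2.2.2.2.2.2.1))
      (inF_lab_two hF rep_spec.2.2.2.2.2.2.2.1)).trans h

/-- conjugators inside the normaliser of the first subgroup -/
theorem trans_A {a : G} (ha : a ∈ F.A) (h1 : a ≠ 1) :
    ∃ n ∈ F.L, (∀ y, y ∈ F.A ↔ n * y * n⁻¹ ∈ F.A) ∧ n * F.z * n⁻¹ = a := by
  have ho : orderOf (⟨a, F.A_le ha⟩ : F.L) = 2 := by
    rw [← orderOf_submonoid]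
    exact orderOf_eq_prime (by rw [pow_two]; exact F.A_sq ha) h1
  obtain ⟨⟨l, hl⟩, he⟩ := isConj_iff.1 (all_conj hF _ ho)
  have he' : l * F.z * l⁻¹ = a := congrArg Subtype.val he
  refine ⟨l, hl, ?_, he'⟩
  let X := F.A.map (MulAut.conj l⁻¹).toMonoidHom
  have hX : X = F.A ∨ X = F.B := by
    refine F.eq_A_or_B _ (by rw [card_map_of_injective (MulAut.conj l⁻¹).injective, F.card_A]) ?_ ?_ ?_
    · rintro _ ⟨b, hb, rfl⟩
      rw [← map_mul, F.A_sq hb, map_one]
    · rintro _ ⟨b, hb, rfl⟩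
      exact F.normal.conj_mem _ (F.A_le hb) _
    · rintro _ ⟨b, hb, rfl⟩
      show l⁻¹ * b * l⁻¹⁻¹ * F.z = F.z * (l⁻¹ * b * l⁻¹⁻¹)
      obtain ⟨x, hx, hxa⟩ := ha
      obtain ⟨y, hy, rfl⟩ := hb
      have hc : F.ψ y * a = a * F.ψ y := by
        rw [← hxa, ← map_mul, ← map_mul]
        congr 1
        have s1 := ((elementary_AB y).1 hy).1
        have s2 := ((elementary_AB x).1 hx).1
        have s3 := ((elementary_AB _).1 (A0.mul_mem hy hx)).1
        calc y * x = (y * x)⁻¹ := (inv_eq_of_mul_eq_one_right s3).symm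
          _ = _ := by rw [mul_inv_rev, inv_eq_of_mul_eq_one_right s1, inv_eq_of_mul_eq_one_right s2]
      calc l⁻¹ * F.ψ y * l⁻¹⁻¹ * F.z = l⁻¹ * (F.ψ y * (l * F.z * l⁻¹)) * l := by group
        _ = l⁻¹ * ((l * F.z * l⁻¹) * F.ψ y) * l := by rw [he', hc]
        _ = _ := by group
  rcases hX with hX | hX
  · intro y
    constructor
    · intro hy
      rw [← hX] at hy
      obtain ⟨w, hw, hwy⟩ := hy
      rw [← hwy]
      show l * (l⁻¹ * w * l⁻¹⁻¹) * l⁻¹ ∈ F.A
      simpa [mul_assoc] using hw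
    · intro hy
      have : (MulAut.conj l⁻¹).toMonoidHom (l * y * l⁻¹) ∈ X := mem_map_of_mem _ hy
      rw [hX] at this
      simpa [mul_assoc] using this
  · exact absurd (fun b hb => hX ▸ mem_map_of_mem _ hb) (F.not_conj (F.L.inv_mem hl))

theorem card_norm_A : Nat.card (normalizer (F.A : Set G) ⊓ F.L : Subgroup G) = 2880 := by
  set N := normalizer (F.A : Set G) ⊓ F.L with hN
  have hzN : F.z ∈ N := ⟨le_normalizer F.z_mem_A, F.z_mem_L⟩
  have e1 : Nat.card {x : N // IsConj (⟨F.z, hzN⟩ : N) x} = 15 := by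
    have h : Nat.card {a : F.A // a ≠ 1} = 15 := by
      classical
      haveI := Fintype.ofFinite F.A
      rw [Nat.card_eq_fintype_card, Fintype.card_subtype_compl, Fintype.card_subtype_eq, ← Nat.card_eq_fintype_card,
        F.card_A]
    rw [← h]
    refine Nat.card_congr (Equiv.ofBijective (fun x => (⟨⟨x.1.1, ?_⟩, ?_⟩ : {a : F.A // a ≠ 1})) ⟨?_, ?_⟩)
    · obtain ⟨g, hg⟩ := isConj_iff.1 x.2
      rw [← hg]
      exact (mem_normalizer_iff.1 g.2.1 _).1 F.z_mem_A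
    · intro he
      obtain ⟨g, hg⟩ := isConj_iff.1 x.2
      have : x.1 = 1 := Subtype.ext (congrArg (fun a : F.A => (a : G)) he)
      rw [this, conj_eq_one_iff] at hg
      exact F.z_ne (congrArg Subtype.val hg)
    · intro x y e
      exact Subtype.ext (Subtype.ext (congrArg (fun a : {a : F.A // a ≠ 1} => ((a.1 : F.A) : G)) e))
    · rintro ⟨⟨a, ha⟩, ha1⟩
      obtain ⟨n, hnL, hnA, hna⟩ := trans_A hF ha fun h => ha1 (Subtype.ext h)
      have hn : n ∈ N := ⟨mem_normalizer_iff.2 hnA, hnL⟩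
      exact ⟨⟨⟨_, N.mul_mem (N.mul_mem hn hzN) (N.inv_mem hn)⟩, isConj_iff.2 ⟨⟨n, hn⟩, rfl⟩⟩,
        Subtype.ext (Subtype.ext hna)⟩
  have e2 : Nat.card (centralizer ({(⟨F.z, hzN⟩ : N)} : Set N)) = 192 := by
    rw [← card_H1_eq]
    refine (Nat.card_congr (Equiv.ofBijective (fun x : H1 => (⟨⟨F.ψ x.1, ?_, (F.mem_L _).2 x.2⟩, ?_⟩ :
      centralizer ({(⟨F.z, hzN⟩ : N)} : Set N))) ⟨?_, ?_⟩)).symm
    · exact Cfsg.Lib.ZStarApps.mem_normalizer_of_maps (F.conj_A_of_H1 x.2)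
    · exact mem_centralizer_singleton_iff.2 (Subtype.ext (F.comm_z x.1))
    · intro a b h
      exact Subtype.ext (F.inj (congrArg (fun u : centralizer ({(⟨F.z, hzN⟩ : N)} : Set N) => u.1.1) h))
    · rintro ⟨⟨g, hgA, hgL⟩, hc⟩
      obtain ⟨x, hx, rfl⟩ := F.cent_z hgL (congrArg Subtype.val (mem_centralizer_singleton_iff.1 hc))
      exact ⟨⟨x, hx⟩, rfl⟩
  rw [← card_class_mul (⟨F.z, hzN⟩ : N), e1, e2]

/-- an element of `K` moving `z` to the first representative -/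
theorem conj_K_a : IsConj F.zK (F.fK (.sr 0)) := by
  obtain ⟨hap, hNphi, hpp, -, -⟩ := full_facts
  obtain ⟨-, -, -, -, hA, -⟩ := gens_H1
  have ha : F.ψ aM ∈ F.A := F.mem_A.2 hA
  have ha1 : F.ψ aM ≠ 1 := fun h => (by decide +kernel : aM ≠ (1 : H0)) (F.inj (h.trans (map_one F.ψ).symm))
  obtain ⟨n, hnL, hnA, hna⟩ := trans_A hF ha ha1
  -- the transported field involution
  have hcomm : n⁻¹ * F.phi * n * F.z = F.z * (n⁻¹ * F.phi * n) := by
    have e : F.phi * F.ψ aM = F.ψ aM * F.phi := by rw [phi, ← map_mul, ← map_mul, hap]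
    calc n⁻¹ * F.phi * n * F.z = n⁻¹ * (F.phi * (n * F.z * n⁻¹)) * n := by group
      _ = n⁻¹ * ((n * F.z * n⁻¹) * F.phi) * n := by rw [hna, e]
      _ = _ := by group
  obtain ⟨y, hy⟩ := F.mem_range hcomm
  have hyl : lab y = 4 := F.toSetting.lab_of_conj 1 (x := y) (by
    show IsConj F.phi (F.ψ y)
    rw [hy]
    exact isConj_iff.2 ⟨n⁻¹, by rw [inv_inv]⟩)
  have hyN : inMask NAMask y = true := by
    by_contra h
    have hy' := (NA_spec y).2 (by simpa using h)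
    have hin : F.ψ y * F.ψ aM * (F.ψ y)⁻¹ ∈ F.A := by
      rw [hy]
      have h1 : n * F.ψ aM * n⁻¹ ∈ F.A := (hnA _).1 ha
      have h2 : F.phi * (n * F.ψ aM * n⁻¹) * F.phi⁻¹ ∈ F.A := by
        obtain ⟨w, hw, hwe⟩ := h1
        rw [← hwe, phi, ← map_inv, ← map_mul, ← map_mul]
        exact F.mem_A.2 (conj_A0 hNphi hw)
      rw [hnA]
      simpa [mul_assoc] using h2
    rw [← map_inv, ← map_mul, ← map_mul, F.mem_A] at hin
    rw [hin] at hy'
    exact Bool.noConfusion hy'.2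
  obtain ⟨hcN, hcy⟩ := cwN_spec y hyl hyN
  set c := cwN y
  set m := n * (F.ψ c)⁻¹ with hm
  have hmphi : m * F.phi = F.phi * m := by
    have h1 : F.ψ c * (n⁻¹ * F.phi * n) * (F.ψ c)⁻¹ = F.phi := by
      rw [← hy, ← map_inv, ← map_mul, ← map_mul, hcy]; rfl
    calc m * F.phi = n * (F.ψ c)⁻¹ * (F.ψ c * (n⁻¹ * F.phi * n) * (F.ψ c)⁻¹) := by rw [h1]
      _ = _ := by rw [hm]; group
  have hmz : m * F.z * m⁻¹ = F.ψ aM := by
    rw [← hna, hm]
    calc n * (F.ψ c)⁻¹ * F.z * (n * (F.ψ c)⁻¹)⁻¹ = n * ((F.ψ c)⁻¹ * (F.z * F.ψ c)) * n⁻¹ := by group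
      _ = _ := by rw [← F.comm_z c]; group
  obtain ⟨h, hh, hhL⟩ := F.cover_cent m
  have hk : m * (F.ψ h)⁻¹ ∈ F.K := F.mem_K.2 ⟨hhL, by
    have e : F.ψ h * F.phi = F.phi * F.ψ h := by rw [phi, ← map_mul, ← map_mul, hh]
    calc m * (F.ψ h)⁻¹ * F.phi = m * ((F.ψ h)⁻¹ * (F.phi * F.ψ h)) * (F.ψ h)⁻¹ := by group
      _ = (m * F.phi) * (F.ψ h)⁻¹ := by rw [← e]; group
      _ = _ := by rw [hmphi]; group⟩
  refine isConj_iff.2 ⟨⟨_, hk⟩, Subtype.ext ?_⟩
  show m * (F.ψ h)⁻¹ * F.z * (m * (F.ψ h)⁻¹)⁻¹ = F.ψ (dihFun (.sr 0))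
  rw [dihFun_facts.2.2.2.1, ← hmz]
  calc _ = m * ((F.ψ h)⁻¹ * (F.z * F.ψ h)) * m⁻¹ := by group
    _ = _ := by rw [← F.comm_z h]; group

theorem five_conj (i : ZMod 4) : IsConj F.zK (F.fK (.sr i)) := by
  have h0 := conj_K_a hF
  obtain ⟨-, -, -, -, hgp, -, -, -, hgz, ⟨j, hj, hje⟩, -⟩ := full_facts
  have hgK : ∀ x ∈ F.K, F.ψ grM * x * (F.ψ grM)⁻¹ ∈ F.K := fun x hx => by
    obtain ⟨h1, h2⟩ := F.mem_K.1 hx
    refine F.mem_K.2 ⟨F.normal.conj_mem _ h1 _, ?_⟩
    have e : F.ψ grM * F.phi = F.phi * F.ψ grM := by rw [phi, ← map_mul, ← map_mul, hgp]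
    calc F.ψ grM * x * (F.ψ grM)⁻¹ * F.phi = F.ψ grM * x * ((F.ψ grM)⁻¹ * (F.phi * F.ψ grM)) * (F.ψ grM)⁻¹ := by group
      _ = F.ψ grM * (x * F.phi) * (F.ψ grM)⁻¹ := by rw [← e]; group
      _ = F.ψ grM * F.phi * x * (F.ψ grM)⁻¹ := by rw [h2]; group
      _ = _ := by rw [e]; group
  have hj' : IsConj F.zK (F.fK (.sr j)) := by
    obtain ⟨⟨k, hk⟩, hke⟩ := isConj_iff.1 h0
    have hke' : k * F.z * k⁻¹ = F.ψ aM := (congrArg Subtype.val hke).trans
      (congrArg F.ψ dihFun_facts.2.2.2.1)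
    refine isConj_iff.2 ⟨⟨_, hgK k hk⟩, Subtype.ext ?_⟩
    show F.ψ grM * k * (F.ψ grM)⁻¹ * F.z * (F.ψ grM * k * (F.ψ grM)⁻¹)⁻¹ = F.ψ (dihFun (.sr j))
    rw [← hje, map_mul, map_mul, map_inv, ← hke']
    calc _ = F.ψ grM * k * ((F.ψ grM)⁻¹ * (F.z * F.ψ grM)) * k⁻¹ * (F.ψ grM)⁻¹ := by group
      _ = _ := by rw [← F.comm_z grM]; group
  obtain ⟨d, hd⟩ := dih_spec.1 i
  have hconjK : ∀ a b : DihedralGroup 4, (∃ c, c * a * c⁻¹ = b) → IsConj (F.fK a) (F.fK b) :=
    fun a b ⟨c, hc⟩ => F.fK.map_isConj (isConj_iff.2 ⟨c, hc⟩)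
  rcases hd with hd | hd
  · exact h0.trans (hconjK _ _ ⟨d, hd⟩).symm
  · have : IsConj (F.fK (.sr j)) (F.fK (.sr 1)) := by
      rcases hj with rfl | rfl
      · exact IsConj.refl _
      · exact hconjK _ _ ⟨.r 1, by decide +kernel⟩
    exact (hj'.trans this).trans (hconjK _ _ ⟨d, hd⟩).symm

theorem card_K : Nat.card F.K = 168 ∨ Nat.card F.K = 360 := by
  have hC : Nonempty (centralizer ({F.zK} : Set F.K) ≃* DihedralGroup 4) :=
    ⟨((MonoidHom.ofInjective F.fK_inj).trans (MulEquiv.subgroupCongr F.range_fK)).symm⟩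
  have hconj : ∀ i : ZMod 4, IsConj (F.fK (.r 2)) (F.fK (.sr i)) := fun i => by
    rw [fK_r_two]; exact five_conj hF i
  rcases Cfsg.Agent.S3035.result F.zK F.orderOf_zK hC with h | ⟨⟨e⟩⟩ | ⟨⟨e⟩⟩ | ⟨⟨e⟩⟩ | ⟨⟨e⟩⟩
  · exfalso
    obtain ⟨k, hk⟩ := isConj_iff.1 (five_conj hF 0)
    have hN : (Cfsg.oddCore F.K).Normal := inferInstance
    obtain ⟨o, ho, c, hc, hoc⟩ : ∃ o ∈ Cfsg.oddCore F.K, ∃ c ∈ centralizer ({F.zK} : Set F.K), o * c = k := by
      have : k ∈ Cfsg.oddCore F.K ⊔ centralizer ({F.zK} : Set F.K) := by rw [sup_comm, h]; exact mem_top _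
      obtain ⟨o, ho, c, hc, e⟩ := mem_sup_of_normal_left.1 this
      exact ⟨o, ho, c, hc, e⟩
    have hcz : c * F.zK * c⁻¹ = F.zK := by rw [mem_centralizer_singleton_iff.1 hc, mul_inv_cancel_right]
    have ha : F.fK (.sr 0) = o * F.zK * o⁻¹ := by
      rw [← hk, ← hoc]
      conv_rhs => rw [← hcz]
      group
    have hzinv : F.zK⁻¹ = F.zK := inv_eq_of_mul_eq_one_right (by
      rw [← pow_two, ← F.orderOf_zK, pow_orderOf_eq_one])
    have hmem : F.fK (.sr 0) * F.zK ∈ Cfsg.oddCore F.K := by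
      rw [ha, show o * F.zK * o⁻¹ * F.zK = o * (F.zK * o⁻¹ * F.zK⁻¹) by rw [hzinv]; group]
      exact mul_mem ho (hN.conj_mem _ (inv_mem ho) _)
    have h2 : orderOf (F.fK (.sr 0) * F.zK) = 2 := by
      rw [← F.fK_r_two, ← map_mul, orderOf_injective _ F.fK_inj]
      exact orderOf_eq_prime (by decide +kernel) (by decide +kernel)
    have hodd := Cfsg.Lib.AutThreeFour.odd_oddCore (G := F.K)
    have hd := orderOf_dvd_natCard (⟨_, hmem⟩ : Cfsg.oddCore F.K)
    rw [← orderOf_submonoid, h2] at hd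
    exact absurd (even_iff_two_dvd.2 hd) (Nat.not_even_iff_odd.2 hodd)
  · exact (not_S4_S5 (Or.inl rfl) e F.fK F.fK_inj hconj).elim
  · exact (not_S4_S5 (Or.inr rfl) e F.fK F.fK_inj hconj).elim
  · exact Or.inl (by rw [Nat.card_congr e.toEquiv, card_sl3])
  · refine Or.inr ?_
    rw [Nat.card_congr e.toEquiv]
    have := two_mul_nat_card_alternatingGroup (α := Fin 6)
    rw [Nat.card_perm, Nat.card_fin] at this
    rw [show Nat.factorial 6 = 720 from rfl] at this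
    omega

end Frame

end Cfsg.Lib.AutThreeFour
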