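import Mathlib
import Cfsg.Agent.AutThreeFour.Full
import Cfsg.Agent.JankoFour.LocalCount

/-!
The order of the group in the full case.
-/

set_option autoImplicit false
set_option maxRecDepth 20000
set_option linter.style.haveILetI false

namespace Cfsg.Lib.AutThreeFour

open Subgroup Cfsg.Lib.HallJankoType Cfsg.Lib.InvolCalc

theorem hitsZ_iff (x : H0) : hitsZ x = true ↔ ∃ k < 12, x ^ (k + 1) = (zM : H0) := by
  simp [hitsZ, List.prod_replicate]

theorem zM_two : orderOf (zM : H0) = 2 := orderOf_eq_prime (by decide +kernel) (by decide +kernel)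

/-- the pairs in the model -/
def modelPairs (p : H0 × H0) : Bool :=
  (p.1 == zM || lab p.1 == 1 || lab p.1 == 2) && (lab p.2 == 4 && hitsZ (p.1 * p.2))

theorem card_modelPairs : Nat.card {p : H0 × H0 // modelPairs p = true} = 144 := by
  classical
  rw [← zPhiPairs_eq, zPhiPairs]
  set all := (List.finRange 768).map fun i => (M.mk i.val : H0) with hall
  have hnd : all.Nodup := (List.nodup_finRange 768).map (fun i j h => by
    apply Fin.ext
    have h' : i.val % 768 = j.val % 768 := congrArg (fun x : H0 => x.val) h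
    rwa [Nat.mod_eq_of_lt i.isLt, Nat.mod_eq_of_lt j.isLt] at h')
  have hmem : ∀ x : H0, x ∈ all := fun x => List.mem_map.2 ⟨⟨x.val, x.isLt⟩, List.mem_finRange _, mk_val x⟩
  have hlen : ∀ q : H0 → Bool, (all.filter q).length = (Finset.univ.filter fun y => q y = true).card := fun q => by
    rw [← List.toFinset_card_of_nodup (hnd.filter q)]
    congr 1
    ext y
    simp [hmem]
  rw [← List.sum_toFinset _ (hnd.filter _), Nat.card_eq_fintype_card, Fintype.card_subtype]
  simp only [List.filter_filter, hlen]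
  rw [← Finset.card_sigma]
  refine Finset.card_equiv (Equiv.sigmaEquivProd H0 H0).symm fun p => ?_
  simp [modelPairs, hmem, and_comm, and_assoc, beq_iff_eq, or_assoc]

namespace Frame

variable {G : Type*} [Group G] [Finite G] (F : Frame G)

omit [Finite G] in
theorem phi_sq : F.phi * F.phi = 1 := by rw [phi, ← map_mul, full_facts.2.2.1, map_one]

omit [Finite G] in
theorem phi_conj_mem {b : G} (hb : b ∈ F.L) : F.phi * b * F.phi ∈ F.L := by
  have := F.normal.conj_mem b hb F.phi
  rwa [inv_eq_of_mul_eq_one_right F.phi_sq] at this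

/-- the subgroup generated by `L` and the field involution -/
def M2 : Subgroup G where
  carrier := {g | g ∈ F.L ∨ g * F.phi ∈ F.L}
  one_mem' := Or.inl F.L.one_mem
  mul_mem' := by
    have hp := F.phi_sq
    rintro a b (ha | ha) (hb | hb)
    · exact Or.inl (F.L.mul_mem ha hb)
    · exact Or.inr (by rw [mul_assoc]; exact F.L.mul_mem ha hb)
    · refine Or.inr ?_
      convert F.L.mul_mem ha (F.phi_conj_mem hb) using 1
      simp [mul_assoc, ← mul_assoc F.phi F.phi, hp]
    · refine Or.inl ?_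
      convert F.L.mul_mem ha (F.phi_conj_mem hb) using 1
      simp [mul_assoc, ← mul_assoc F.phi F.phi, hp]
  inv_mem' := by
    rintro a (ha | ha)
    · exact Or.inl (F.L.inv_mem ha)
    · refine Or.inr ?_
      convert F.phi_conj_mem (F.L.inv_mem ha) using 1
      simp [mul_assoc, ← mul_assoc F.phi F.phi, F.phi_sq, inv_eq_of_mul_eq_one_right F.phi_sq]

omit [Finite G] in
theorem mem_M2 {g : G} : g ∈ F.M2 ↔ g ∈ F.L ∨ g * F.phi ∈ F.L := Iff.rfl

instance M2_normal : F.M2.Normal := ⟨fun g hg x => by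
  rcases hg with hg | hg
  · exact Or.inl (F.normal.conj_mem _ hg x)
  refine Or.inr ?_
  obtain ⟨h, hh, hl⟩ := F.cover_cent x
  have e : F.ψ h * F.phi = F.phi * F.ψ h := by rw [phi, ← map_mul, ← map_mul, hh]
  set l := x * (F.ψ h)⁻¹ with hl'
  have hpi : F.phi⁻¹ = F.phi := inv_eq_of_mul_eq_one_right F.phi_sq
  have h1 := F.normal.conj_mem _ hg x
  have h2 := F.L.mul_mem hl (F.phi_conj_mem (F.L.inv_mem hl))
  convert F.L.mul_mem h1 h2 using 1
  have h3 : x * F.phi * x⁻¹ = l * F.phi * l⁻¹ := by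
    calc x * F.phi * x⁻¹ = x * ((F.ψ h)⁻¹ * (F.ψ h * F.phi)) * x⁻¹ := by group
      _ = x * ((F.ψ h)⁻¹ * (F.phi * F.ψ h)) * x⁻¹ := by rw [e]
      _ = _ := by rw [hl']; group
  calc x * g * x⁻¹ * F.phi = x * (g * F.phi) * x⁻¹ * ((x * F.phi⁻¹ * x⁻¹) * F.phi) := by group
    _ = _ := by rw [hpi, h3]; group⟩

omit [Finite G] in
theorem phi_mem_M2 : F.phi ∈ F.M2 := Or.inr (by rw [F.phi_sq]; exact F.L.one_mem)

theorem not_conj_z_phi : ¬ IsConj F.z F.phi := fun h => F.phi_not_mem (by
  obtain ⟨g, hg⟩ := isConj_iff.1 h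
  rw [← hg]
  exact F.normal.conj_mem _ F.z_mem_L g)

theorem invol_out (u : G) (hu : orderOf u = 2) (hM : u ∈ F.M2) (hL : u ∉ F.L) : IsConj F.phi u := by
  haveI : Fact (Nat.Prime 2) := ⟨Nat.prime_two⟩
  obtain ⟨P, hP⟩ := (IsPGroup.of_card (G := zpowers u) (n := 1) (p := 2)
    (by rw [Nat.card_zpowers, hu, pow_one])).exists_le_sylow
  obtain ⟨g, hg⟩ := MulAction.exists_smul_eq G P F.toSetting.sylP
  have h1 : g * u * g⁻¹ ∈ (F.toSetting.sylP : Subgroup G) := by
    rw [← hg]; exact ⟨u, hP (mem_zpowers u), rfl⟩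
  rw [F.toSetting.coe_sylP] at h1
  obtain ⟨m, -, hm⟩ := h1
  have hmM : F.ψ m ∈ F.M2 := hm ▸ F.M2_normal.conj_mem _ hM g
  have hmL : F.ψ m ∉ F.L := fun h => hL (by
    rw [hm] at h
    have := F.normal.conj_mem _ h g⁻¹
    simpa [mul_assoc] using this)
  have hmp : inH1 (m * phiM) = true := by
    have := (F.mem_M2.1 hmM).resolve_left hmL
    rw [phi, ← map_mul] at this
    exact (F.mem_L _).1 this
  obtain ⟨-, -, -, -, -, hP1, hE1, -⟩ := full_facts
  simp only [inH1, Bool.and_eq_true, Bool.not_eq_true', chP_mul, chE_mul, hP1, hE1, Bool.xor_false,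
    Bool.xor_true, Bool.not_eq_false'] at hmp
  have h2 : m * m = 1 := F.inj (by
    rw [map_mul, hm, conj_mul, sq_of_order_two hu, mul_one, mul_inv_cancel, map_one])
  have hl : lab m = 4 := invol_phi_coset m h2 (fun h => ne_one_of_order_two hu (by
    rw [h, map_one] at hm
    exact conj_eq_one_iff.1 hm.symm)) hmp.2 hmp.1
  have h3 := F.toSetting.conj_rep (x := m) (by omega)
  rw [hl, rep_spec.2.2.2.1] at h3
  exact h3.symm.trans (by rw [hm]; exact (isConj_iff.2 ⟨g, rfl⟩ : IsConj u _).symm)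

theorem card_L_mul : Nat.card F.L * 4 = Nat.card G := by
  rw [← F.index_L, card_mul_index]

variable {F}
variable (hF : F.FullCase)
include hF

theorem classes_M2 (x : G) (hx : x ∈ F.M2) (h2 : orderOf x = 2) : IsConj F.z x ∨ IsConj F.phi x := by
  by_cases hL : x ∈ F.L
  · exact Or.inl (F.isConj_G_of_L (all_conj hF ⟨x, hL⟩ (by rwa [← orderOf_submonoid])))
  · exact Or.inr (F.invol_out x h2 hx hL)

theorem full_pairs_z : Nat.card (PairSet F.z F.phi F.z) = 144 := by
  rw [← card_modelPairs]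
  have hphi : ∀ n : H0, IsConj F.phi (F.ψ n) ↔ lab n = 4 := fun n => by
    refine ⟨fun h => F.toSetting.lab_of_conj 1 h, fun hl => ?_⟩
    have h3 := F.toSetting.conj_rep (x := n) (by omega)
    rw [hl, rep_spec.2.2.2.1] at h3
    exact h3.symm
  have hz : ∀ n : H0, IsConj F.z (F.ψ n) ↔ (n = zM ∨ lab n = 1 ∨ lab n = 2) := fun n => inF_iff hF
  have hp : ∀ m n : H0, IsConj F.z (F.ψ m) → IsConj F.phi (F.ψ n) →
      (pairInvol (F.ψ m) (F.ψ n) = F.z ↔ hitsZ (m * n) = true) := by
    intro m n h1 h2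
    rw [pairInvol, ← map_mul, orderOf_injective F.ψ F.inj, ← map_pow, ← F.map_z, F.inj.eq_iff, hitsZ_iff]
    constructor
    · intro h
      have hle : orderOf (m * n) ≤ 24 := orderOf_le_of_pow_eq_one (by norm_num) (full_facts.2.2.2.2.2.2.2.2.2.2.1 _)
      have hne : orderOf (m * n) / 2 ≠ 0 := fun h0 => by
        rw [h0, pow_zero] at h
        have := zM_two
        rw [← h, orderOf_one] at this
        omega
      exact ⟨orderOf (m * n) / 2 - 1, by omega, by rwa [Nat.sub_add_cancel (Nat.pos_of_ne_zero hne)]⟩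
    · rintro ⟨k, -, hk⟩
      exact (half_pow_eq zM_two hk).1
  refine (Nat.card_congr (Equiv.ofBijective
    (fun p : {p : H0 × H0 // modelPairs p = true} => (⟨(F.ψ p.1.1, F.ψ p.1.2), ?_⟩ : PairSet F.z F.phi F.z))
    ⟨?_, ?_⟩)).symm
  · have h := p.2
    simp only [modelPairs, Bool.and_eq_true, Bool.or_eq_true, beq_iff_eq, or_assoc] at h
    exact ⟨(hz _).2 h.1, (hphi _).2 h.2.1, (hp _ _ ((hz _).2 h.1) ((hphi _).2 h.2.1)).2 h.2.2⟩
  · intro p q h
    have h' := congrArg (fun u : PairSet F.z F.phi F.z => u.1) h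
    exact Subtype.ext (Prod.ext (F.inj (congrArg Prod.fst h')) (F.inj (congrArg Prod.snd h')))
  · rintro ⟨⟨x, y⟩, hx, hy, hxy⟩
    have he := even_of_not_conj (order_two_of_conj F.hz hx) (order_two_of_conj F.orderOf_phi hy)
      fun e => F.not_conj_z_phi ((hx.trans e).trans hy.symm)
    obtain ⟨-, hcx, hcy⟩ := central_spec (order_two_of_conj F.hz hx) (order_two_of_conj F.orderOf_phi hy) he
    replace hcx := hcx.symm
    replace hcy := hcy.symm
    dsimp only at hxy hx hy
    rw [← pairInvol, hxy] at hcx hcy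
    obtain ⟨m, rfl⟩ := F.mem_range hcx
    obtain ⟨n, rfl⟩ := F.mem_range hcy
    refine ⟨⟨(m, n), ?_⟩, rfl⟩
    simp only [modelPairs, Bool.and_eq_true, Bool.or_eq_true, beq_iff_eq, or_assoc]
    exact ⟨(hz m).1 hx, (hphi n).1 hy, (hp m n hx hy).1 hxy⟩

theorem full_pairs_phi : Nat.card (PairSet F.z F.phi F.phi) =
    Nat.card {p : F.K × F.K // orderOf p.1 = 2 ∧ orderOf p.2 = 2 ∧ Odd (orderOf (p.1 * p.2))} := by
  have hcomm : ∀ x : F.K, Commute (x : G) F.phi := fun x => (F.mem_K.1 x.2).2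
  have hord : ∀ x : F.K, orderOf (x : G) = orderOf x := fun x => Subgroup.orderOf_coe x
  refine (Nat.card_congr (Equiv.ofBijective
    (fun p : {p : F.K × F.K // orderOf p.1 = 2 ∧ orderOf p.2 = 2 ∧ Odd (orderOf (p.1 * p.2))} =>
      (⟨((p.1.1 : G), (p.1.2 : G) * F.phi), ?_⟩ : PairSet F.z F.phi F.phi)) ⟨?_, ?_⟩)).symm
  · obtain ⟨⟨x, v⟩, hx, hv, hodd⟩ := p
    dsimp only at hx hv hodd ⊢
    have hxL := (F.mem_K.1 x.2).1
    have hvL := (F.mem_K.1 v.2).1
    refine ⟨F.isConj_G_of_L (all_conj hF ⟨x, hxL⟩ (by rw [← orderOf_submonoid]; exact (hord x).trans hx)), ?_, ?_⟩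
    · refine F.invol_out _ (orderOf_eq_prime ?_ ?_) (Or.inr ?_) ?_
      · rw [(hcomm v).mul_pow, ← hord v] at *
        rw [← hv, pow_orderOf_eq_one, one_mul, hv, pow_two, F.phi_sq]
      · intro h
        have : F.phi = (v : G)⁻¹ := eq_inv_of_mul_eq_one_right h
        exact F.phi_not_mem (this ▸ F.L.inv_mem hvL)
      · rw [mul_assoc, F.phi_sq, mul_one]; exact hvL
      · exact fun h => F.phi_not_mem ((F.L.mul_mem_cancel_left hvL).1 h)
    · have hod : Odd (orderOf ((x : G) * v)) := by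
        rw [← Subgroup.coe_mul, hord]; exact hodd
      have hc : Commute ((x : G) * v) F.phi := (hcomm x).mul_left (hcomm v)
      show pairInvol (x : G) (v * F.phi) = F.phi
      rw [pairInvol]
      refine (half_pow_eq F.orderOf_phi (k := orderOf ((x : G) * v)) ?_).1
      obtain ⟨s, hs⟩ := hod
      rw [← mul_assoc, hc.mul_pow, pow_orderOf_eq_one, one_mul, hs, pow_succ, pow_mul, pow_two, F.phi_sq, one_pow,
        one_mul]
  · intro p q h
    have h' := congrArg (fun u : PairSet F.z F.phi F.phi => u.1) h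
    exact Subtype.ext (Prod.ext (Subtype.ext (congrArg Prod.fst h'))
      (Subtype.ext (mul_right_cancel (congrArg Prod.snd h'))))
  · rintro ⟨⟨x, y⟩, hx, hy, hxy⟩
    dsimp only at hxy hx hy
    have hx2 := order_two_of_conj F.hz hx
    have hy2 := order_two_of_conj F.orderOf_phi hy
    have he := even_of_not_conj hx2 hy2 fun e => F.not_conj_z_phi ((hx.trans e).trans hy.symm)
    obtain ⟨-, hcx, hcy⟩ := central_spec hx2 hy2 he
    replace hcx := hcx.symm
    replace hcy := hcy.symm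
    rw [← pairInvol, hxy] at hcx hcy
    have hxL : x ∈ F.L := by
      obtain ⟨g, hg⟩ := isConj_iff.1 hx
      rw [← hg]
      exact F.normal.conj_mem _ F.z_mem_L g
    have hyM : y ∈ F.M2 := by
      obtain ⟨g, hg⟩ := isConj_iff.1 hy
      rw [← hg]
      exact F.M2_normal.conj_mem _ F.phi_mem_M2 g
    have hyL : y ∉ F.L := fun h => by
      obtain ⟨g, hg⟩ := isConj_iff.1 hy.symm
      exact F.phi_not_mem (hg ▸ F.normal.conj_mem _ h g)
    set v := y * F.phi with hv
    have hvL : v ∈ F.L := (F.mem_M2.1 hyM).resolve_left hyL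
    have hvc : v * F.phi = F.phi * v := by rw [hv, mul_assoc, F.phi_sq, mul_one, ← mul_assoc, ← hcy, mul_assoc, F.phi_sq, mul_one]
    have hyv : v * F.phi = y := by rw [hv, mul_assoc, F.phi_sq, mul_one]
    have hvv : v * v = 1 := by
      have hy2' := sq_of_order_two hy2
      calc v * v = y * (F.phi * y) * F.phi := by rw [hv]; simp only [mul_assoc]
        _ = (y * y) * (F.phi * F.phi) := by rw [← hcy]; simp only [mul_assoc]
        _ = 1 := by rw [hy2', F.phi_sq, one_mul]
    -- the product has odd order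
    have hc : Commute (x * v) F.phi := (hcx : Commute x F.phi).mul_left hvc
    have hodd : Odd (orderOf (x * v)) := by
      rw [pairInvol] at hxy
      obtain ⟨r, hr⟩ := he
      rw [show orderOf (x * y) / 2 = r by omega, ← hyv, ← mul_assoc, hc.mul_pow] at hxy
      rcases Nat.even_or_odd r with ⟨t, ht⟩ | hodd
      · exfalso
        rw [ht, pow_add F.phi, ← (Commute.refl F.phi).mul_pow, F.phi_sq, one_pow, mul_one] at hxy
        exact F.phi_not_mem (hxy ▸ F.L.pow_mem (F.L.mul_mem hxL hvL) _)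
      · obtain ⟨t, ht⟩ := hodd
        rw [ht, pow_succ F.phi, pow_mul F.phi, pow_two F.phi, F.phi_sq, one_pow, one_mul, mul_eq_right] at hxy
        exact (show Odd r from ⟨t, ht⟩).of_dvd_nat (orderOf_dvd_of_pow_eq_one (ht ▸ hxy))
    have hv1 : v ≠ 1 := fun h => by
      rw [h, mul_one, hx2] at hodd
      exact absurd hodd (by decide)
    refine ⟨⟨(⟨x, F.mem_K.2 ⟨hxL, hcx⟩⟩, ⟨v, F.mem_K.2 ⟨hvL, hvc⟩⟩), ?_, ?_, ?_⟩, ?_⟩
    · rw [← hord]; exact hx2
    · rw [← hord]; exact order_two_of_mul_self hvv hv1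
    · rw [← hord]; exact hodd
    · exact Subtype.ext (Prod.ext rfl hyv)

theorem order_cases : Nat.card G = 241920 ∨ Nat.card G = 1347840 := by
  have h := Cfsg.Lib.JankoFour.LocalCount.two_class_formula_in F.M2 F.hz F.orderOf_phi (Or.inl F.z_mem_L)
    F.phi_mem_M2 F.not_conj_z_phi (classes_M2 hF)
  obtain ⟨n, hn, hp⟩ := odd_pairs F.zK F.orderOf_zK F.fK F.fK_inj F.fK_r_two F.range_fK (five_conj hF)
  have hr : Nat.card (centralizer ({F.z} : Set G)) = 768 := by
    rw [← F.range_eq, Nat.card_congr (MonoidHom.ofInjective F.inj).toEquiv.symm, card_M]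
  rw [full_pairs_z hF, full_pairs_phi hF, F.card_cent_phi, hr] at h
  rcases card_K hF with hK | hK
  · have e : n = 21 := by omega
    subst e
    omega
  · have e : n = 45 := by omega
    subst e
    omega

end Frame

end Cfsg.Lib.AutThreeFour
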