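import Mathlib
import Cfsg.Agent.AutThreeFour.Order

/-!
The larger order does not occur.
-/

set_option autoImplicit false
set_option maxRecDepth 20000
set_option linter.style.haveILetI false

namespace Cfsg.Lib.AutThreeFour

open Subgroup

theorem divisors_thirteen : (∀ d ∈ Nat.divisors 1620, 16 * d % 13 = 1 → d = 9) ∧
    (∀ d ∈ Nat.divisors 5184, d % 65 = 1 → d = 1) ∧
    (∀ d ∈ Nat.divisors 117, d % 5 = 1 → d = 1) ∧ (∀ d ∈ Nat.divisors 39, d % 5 = 1 → d = 1) := by
  decide +kernel

theorem card_mulAut_prime {X : Type*} [Group X] {p : ℕ} (hp : p.Prime) (hX : Nat.card X = p) :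
    Nat.card (MulAut X) = p - 1 := by
  haveI : Fact p.Prime := ⟨hp⟩
  haveI := isCyclic_of_prime_card hX
  rw [Nat.card_congr (IsCyclic.mulAutMulEquiv X).toEquiv, hX, Nat.card_eq_fintype_card,
    ZMod.card_units_eq_totient, Nat.totient_prime hp]

/-- the image of the normaliser of a subgroup of prime order -/
theorem exists_normalizer_index {X : Type*} [Group X] [Finite X] {p : ℕ} (hp : p.Prime) (P : Subgroup X)
    (hP : Nat.card P = p) :
    ∃ k, k ∣ p - 1 ∧ Nat.card (normalizer (P : Set X)) = k * Nat.card (centralizer (P : Set X)) := by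
  have hle : centralizer (P : Set X) ≤ normalizer (P : Set X) := centralizer_le_normalizer _
  refine ⟨Nat.card P.normalizerMonoidHom.range, ?_, ?_⟩
  · rw [← card_mulAut_prime hp hP]
    exact card_subgroup_dvd_card _
  · rw [← P.normalizerMonoidHom.ker.card_mul_index, index_ker, mul_comm, normalizerMonoidHom_ker,
      Nat.card_congr (subgroupOfEquivOfLe hle).toEquiv]

/-- elements of order prime to the automorphism group centralise -/
theorem centralises_of_coprime {X : Type*} [Group X] [Finite X] {p q : ℕ} (hp : p.Prime) (hq : q.Prime)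
    (hpq : ¬ q ∣ p - 1) (Q : Subgroup X) (hQ : Nat.card Q = p) {x : X} (hx : orderOf x = q)
    (hn : x ∈ normalizer (Q : Set X)) : x ∈ centralizer (Q : Set X) := by
  by_contra hc
  set y := Q.normalizerMonoidHom ⟨x, hn⟩
  have hy : y ≠ 1 := fun h => hc (by
    have h' : (⟨x, hn⟩ : normalizer (Q : Set X)) ∈ Q.normalizerMonoidHom.ker := h
    rw [normalizerMonoidHom_ker] at h'
    exact h')
  have h1 : orderOf y ∣ q := by
    rw [← hx, ← Subgroup.orderOf_mk x hn]
    exact orderOf_map_dvd _ _
  rcases (Nat.dvd_prime hq).1 h1 with h | h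
  · exact hy (orderOf_eq_one_iff.1 h)
  · haveI : Finite (MulAut Q) := Finite.of_injective (fun e => e.toEquiv) fun a b h => MulEquiv.ext (Equiv.congr_fun h)
    exact hpq (h ▸ card_mulAut_prime hp hQ ▸ orderOf_dvd_natCard y)

namespace Frame

variable {G : Type*} [Group G] [Finite G] {F : Frame G}

theorem no_five (hF : F.FullCase) (Q : Subgroup F.L) [Q.Normal] (hQ : Nat.card Q = 5) : False := by
  haveI : Fact (Nat.Prime 5) := ⟨by norm_num⟩
  haveI := isCyclic_of_prime_card hQ
  let χ : F.L →* (ZMod (Nat.card Q))ˣ := (IsCyclic.mulAutMulEquiv Q).toMonoidHom.comp MulAut.conjNormal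
  have hsame : ∀ u : F.L, orderOf u = 2 → χ u = χ F.zL := fun u hu => by
    obtain ⟨g, hg⟩ := isConj_iff.1 (all_conj hF u hu)
    rw [← hg, map_mul, map_mul, map_inv, mul_comm (χ g), mul_inv_cancel_right]
  obtain ⟨-, -, hvA, -, -, -, -, -, hzvA, hzv⟩ := gens_H1
  have hv : inH1 vM = true := ((elementary_AB vM).1 hvA).2
  have hzv' : inH1 (zM * vM : H0) = true := ((elementary_AB _).1 hzvA).2
  have d : vM ≠ (1 : H0) ∧ (zM * vM : H0) ≠ 1 := by decide +kernel
  have o1 := F.orderOf_elL hv ((elementary_AB vM).1 hvA).1 d.1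
  have o2 := F.orderOf_elL hzv' ((elementary_AB _).1 hzvA).1 d.2
  have he : F.elL (zM * vM) hzv' = F.zL * F.elL vM hv := Subtype.ext (by
    show F.ψ (zM * vM) = F.z * F.ψ vM
    rw [map_mul, F.map_z])
  have h := hsame _ o2
  rw [he, map_mul, hsame _ o1, mul_eq_left] at h
  have hle : Q ≤ centralizer ({F.zL} : Set F.L) := fun q hq => by
    rw [mem_centralizer_singleton_iff]
    have h1 : (MulAut.conjNormal F.zL : MulAut Q) = 1 := (IsCyclic.mulAutMulEquiv Q).map_eq_one_iff.1 h
    have h2 : F.zL * q * F.zL⁻¹ = q := by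
      rw [← MulAut.conjNormal_apply F.zL ⟨q, hq⟩, h1]; rfl
    calc q * F.zL = F.zL * q * F.zL⁻¹ * F.zL := by rw [h2]
      _ = F.zL * q := inv_mul_cancel_right _ _
  have := card_dvd_of_le hle
  rw [hQ, F.card_cent_zL] at this
  norm_num at this

theorem card_G_eq (hF : F.FullCase) : Nat.card G = 241920 := by
  refine (order_cases hF).resolve_right fun hG => ?_
  have hL : Nat.card F.L = 336960 := by have := F.card_L_mul; omega
  haveI : Fact (Nat.Prime 13) := ⟨by norm_num⟩
  haveI : Fact (Nat.Prime 5) := ⟨by norm_num⟩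
  obtain ⟨x, hx⟩ := exists_prime_orderOf_dvd_card' (G := F.L) 13 (by rw [hL]; norm_num)
  set P0 := zpowers x with hP0
  have hP0c : Nat.card P0 = 13 := by rw [hP0, Nat.card_zpowers, hx]
  have hP0i : P0.index = 25920 := by
    have := P0.card_mul_index
    rw [hP0c, hL] at this
    omega
  let P : Sylow 13 F.L := (IsPGroup.of_card (G := P0) (n := 1) (p := 13) (by rw [hP0c, pow_one])).toSylow
    (by rw [hP0i]; norm_num)
  have hPe : (P : Subgroup F.L) = P0 := rfl
  obtain ⟨k, hk, hNk⟩ := exists_normalizer_index (p := 13) (by norm_num) P0 hP0c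
  set C := centralizer (P0 : Set F.L) with hCdef
  have hCodd : Odd (Nat.card C) := by
    rw [← Nat.not_even_iff_odd, even_iff_two_dvd]
    intro h2
    obtain ⟨⟨t, ht⟩, ht2⟩ := exists_prime_orderOf_dvd_card' (G := C) 2 h2
    have ht2' : orderOf t = 2 := (Subgroup.orderOf_mk t ht).symm.trans ht2
    obtain ⟨g, hg⟩ := isConj_iff.1 (all_conj hF t ht2')
    have hxt : x * t = t * x := (mem_centralizer_iff.1 ht) x (mem_zpowers x)
    have hxC : g⁻¹ * x * g ∈ centralizer ({F.zL} : Set F.L) := by
      rw [mem_centralizer_singleton_iff]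
      calc g⁻¹ * x * g * F.zL = g⁻¹ * (x * (g * F.zL * g⁻¹)) * g := by group
        _ = g⁻¹ * ((g * F.zL * g⁻¹) * x) * g := by rw [hg, hxt]
        _ = _ := by group
    have := orderOf_dvd_natCard (⟨_, hxC⟩ : centralizer ({F.zL} : Set F.L))
    rw [F.card_cent_zL, ← orderOf_submonoid] at this
    change orderOf (g⁻¹ * x * g) ∣ 192 at this
    rw [show g⁻¹ * x * g = MulAut.conj g⁻¹ x by simp, MulEquiv.orderOf_eq, hx] at this
    norm_num at this
  set n := Nat.card (Sylow 13 F.L) with hn
  have hnN : n * (k * Nat.card C) = 336960 := by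
    rw [← hNk, hn, P.card_eq_index_normalizer]
    show (normalizer (P0 : Set F.L)).index * _ = _
    rw [mul_comm, card_mul_index, hL]
  have hn144 : n = 144 := by
    have h16 : 16 ∣ n := by
      have h64 : 64 ∣ n * 12 * Nat.card C := by
        refine (show 64 ∣ 336960 by norm_num).trans ?_
        rw [← hnN]
        exact ⟨12 / k, by
          obtain ⟨j, hj⟩ := hk
          have hk0 : 0 < k := by rcases Nat.eq_zero_or_pos k with rfl | h; · simp at hj
                                 exact h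
          rw [show (12 : ℕ) = k * j from hj, Nat.mul_div_cancel_left _ hk0]
          ring⟩
      have h2 : Nat.Coprime 64 (Nat.card C) :=
        (Nat.coprime_two_left.2 hCodd).pow_left 6
      have := (h2.dvd_of_dvd_mul_right h64)
      omega
    obtain ⟨m, hm⟩ := h16
    have hd : n ∣ 25920 := hP0i ▸ hPe ▸ P.card_dvd_index
    rw [hm, show 25920 = 16 * 1620 by norm_num] at hd
    have h1 := card_sylow_modEq_one 13 F.L
    rw [← hn, hm] at h1
    have := divisors_thirteen.1 m (Nat.mem_divisors.2 ⟨Nat.dvd_of_mul_dvd_mul_left (by norm_num) hd, by norm_num⟩)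
      (by unfold Nat.ModEq at h1; omega)
    omega
  have hC : Nat.card C = 585 ∨ Nat.card C = 195 := by
    rw [hn144] at hnN
    have hk12 := Nat.le_of_dvd (by norm_num) hk
    have : Nat.card C % 2 = 1 := Nat.odd_iff.1 hCodd
    interval_cases k <;> omega
  -- a unique subgroup of order five centralises the Sylow subgroup
  obtain ⟨y, hy⟩ := exists_prime_orderOf_dvd_card' (G := C) 5 (by rcases hC with h | h <;> rw [h] <;> norm_num)
  have huniq : ∀ Y : Subgroup F.L, Nat.card Y = 5 → Y ≤ C → Y = zpowers (y : F.L) := by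
    have hy0 : zpowers (y : F.L) ≤ C := zpowers_le.2 y.2
    have hy5 : Nat.card (zpowers (y : F.L)) = 5 := by rw [Nat.card_zpowers, orderOf_submonoid, hy]
    have mkS : ∀ Y : Subgroup F.L, Nat.card Y = 5 → Y ≤ C → ∃ S : Sylow 5 C, (S : Subgroup C) = Y.subgroupOf C := by
      intro Y h5 hYC
      have hc : Nat.card (Y.subgroupOf C) = 5 := by rw [Nat.card_congr (subgroupOfEquivOfLe hYC).toEquiv, h5]
      refine ⟨(IsPGroup.of_card (G := Y.subgroupOf C) (n := 1) (p := 5) (by rw [hc, pow_one])).toSylow ?_, rfl⟩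
      have := (Y.subgroupOf C).card_mul_index
      rw [hc] at this
      omega
    intro Y h5 hYC
    obtain ⟨S, hS⟩ := mkS Y h5 hYC
    obtain ⟨T, hT⟩ := mkS _ hy5 hy0
    haveI : Subsingleton (Sylow 5 C) := by
      rw [← Finite.card_le_one_iff_subsingleton]
      have h1 : Nat.card (Sylow 5 C) % 5 = 1 := card_sylow_modEq_one 5 C
      have hd := S.card_dvd_index
      have hmul := (S : Subgroup C).card_mul_index
      rw [hS, Nat.card_congr (subgroupOfEquivOfLe hYC).toEquiv, h5] at hmul
      rw [hS] at hd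
      rcases hC with h | h <;> rw [h] at hmul
      · rw [show (Y.subgroupOf C).index = 117 by omega] at hd
        exact (divisors_thirteen.2.2.1 _ (Nat.mem_divisors.2 ⟨hd, by norm_num⟩) h1).le
      · rw [show (Y.subgroupOf C).index = 39 by omega] at hd
        exact (divisors_thirteen.2.2.2 _ (Nat.mem_divisors.2 ⟨hd, by norm_num⟩) h1).le
    have e : Y.subgroupOf C = (zpowers (y : F.L)).subgroupOf C := by rw [← hS, ← hT, Subsingleton.elim S T]
    exact le_antisymm
      (fun a ha => mem_subgroupOf.1 ((e ▸ (mem_subgroupOf.2 ha : (⟨a, hYC ha⟩ : C) ∈ Y.subgroupOf C))))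
      (fun a ha => mem_subgroupOf.1 ((e.symm ▸ (mem_subgroupOf.2 ha :
        (⟨a, hy0 ha⟩ : C) ∈ (zpowers (y : F.L)).subgroupOf C))))
  set Q0 := zpowers (y : F.L) with hQ0
  have hQ0c : Nat.card Q0 = 5 := by rw [hQ0, Nat.card_zpowers, orderOf_submonoid, hy]
  have hQ0i : Q0.index = 67392 := by
    have := Q0.card_mul_index
    rw [hQ0c, hL] at this
    omega
  let Q : Sylow 5 F.L := (IsPGroup.of_card (G := Q0) (n := 1) (p := 5) (by rw [hQ0c, pow_one])).toSylow
    (by rw [hQ0i]; norm_num)
  have hQe : (Q : Subgroup F.L) = Q0 := rfl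
  have h13 : Nat.card (Sylow 5 F.L) ∣ 25920 := by
    rw [Q.card_eq_index_normalizer]
    show (normalizer (Q0 : Set F.L)).index ∣ 25920
    have hle : P0 ≤ normalizer (Q0 : Set F.L) := by
      refine zpowers_le.2 (centralizer_le_normalizer _ ?_)
      refine mem_centralizer_iff.2 fun q hq => ?_
      exact ((mem_centralizer_iff.1 ((zpowers_le.2 y.2 : Q0 ≤ C) hq)) x (mem_zpowers x)).symm
    rw [← hP0i]
    exact index_dvd_of_le hle
  have hn5 : Nat.card (Sylow 5 F.L) = 1 := by
    have hd : Nat.card (Sylow 5 F.L) ∣ 67392 := hQ0i ▸ hQe ▸ Q.card_dvd_index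
    have hg := Nat.dvd_gcd h13 hd
    rw [show Nat.gcd 25920 67392 = 5184 by norm_num] at hg
    have h1 : Nat.card (Sylow 5 F.L) % 5 = 1 := card_sylow_modEq_one 5 F.L
    have h2 := (IsPGroup.of_card (G := P0) (n := 1) (p := 13) (by rw [hP0c, pow_one])).card_modEq_card_fixedPoints
      (Sylow 5 F.L)
    have hone : Nat.card (MulAction.fixedPoints P0 (Sylow 5 F.L)) = 1 := by
      rw [Nat.card_eq_one_iff_exists]
      refine ⟨⟨Q, fun p => ?_⟩, fun S => ?_⟩
      · refine Sylow.smul_eq_iff_mem_normalizer.2 ?_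
        show p.1 ∈ normalizer (Q0 : Set F.L)
        refine centralizer_le_normalizer _ (mem_centralizer_iff.2 fun q hq => ?_)
        exact ((mem_centralizer_iff.1 ((zpowers_le.2 y.2 : Q0 ≤ C) hq)) p.1 p.2).symm
      obtain ⟨S, hS⟩ := S
      refine Subtype.ext (Sylow.ext ?_)
      show (S : Subgroup F.L) = Q0
      have hSc : Nat.card (S : Subgroup F.L) = 5 := by
        exact (Nat.card_congr (S.equiv Q).toEquiv).trans hQ0c
      refine huniq _ hSc fun s hs => mem_centralizer_iff.2 fun p hp => ?_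
      have hxn : x ∈ normalizer ((S : Subgroup F.L) : Set F.L) :=
        Sylow.smul_eq_iff_mem_normalizer.1 (hS ⟨x, mem_zpowers x⟩)
      have hxc := centralises_of_coprime (p := 5) (q := 13) (by norm_num) (by norm_num) (by norm_num) _ hSc hx hxn
      have hc : zpowers x ≤ centralizer ((S : Subgroup F.L) : Set F.L) := zpowers_le.2 hxc
      exact (mem_centralizer_iff.1 (hc hp) s hs).symm
    rw [hone] at h2
    exact divisors_thirteen.2.1 _ (Nat.mem_divisors.2 ⟨hg, by norm_num⟩) (by unfold Nat.ModEq at h2; omega)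
  haveI : Subsingleton (Sylow 5 F.L) := (Nat.card_eq_one_iff_unique.1 hn5).1
  haveI : Q0.Normal := hQe ▸ Q.normal_of_subsingleton
  exact no_five hF Q0 hQ0c

end Frame

end Cfsg.Lib.AutThreeFour
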