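import Mathlib
import Cfsg.Agent.AutThreeFour.NoLarge
import Cfsg.Agent.AutThreeFour.Incidence

/-!
The plane inside the group.
-/

set_option autoImplicit false
set_option maxRecDepth 20000
set_option linter.style.haveILetI false

namespace Cfsg.Lib.AutThreeFour

open Subgroup Cfsg.Lib.HallJankoType

theorem side_counts : ((List.finRange 768).filter fun i => inA (M.mk i.val) && inB (M.mk i.val)).length = 4 ∧
    (∀ x : H0, (members NAMask).filter inH1 |>.all (fun y => decide (x * y = y * x)) → inH1 x = true) := by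
  decide +kernel

theorem commute_center_H1 {x : H0} (h : ∀ y : H0, inH1 y = true → x * y = y * x) : inH1 x = true :=
  side_counts.2 x (by
    simp only [List.all_eq_true, List.mem_filter, decide_eq_true_eq]
    exact fun y hy => h y hy.2)

namespace Frame

variable {G : Type*} [Group G] [Finite G] {F : Frame G}

/-- the plane data of the full case -/
def pairData (hF : F.FullCase) : PairData F.L where
  A := F.A.subgroupOf F.L
  B := F.B.subgroupOf F.L
  z := F.zL
  zA := F.z_mem_A
  zB := F.z_mem_B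
  zne := fun h => F.z_ne (congrArg Subtype.val h)
  A_sq := fun a ha => Subtype.ext (F.A_sq ha)
  B_sq := fun a ha => Subtype.ext (F.B_sq ha)
  card_A := by rw [Nat.card_congr (subgroupOfEquivOfLe F.A_le).toEquiv, F.card_A]
  card_B := by rw [Nat.card_congr (subgroupOfEquivOfLe F.B_le).toEquiv, F.card_B]
  all_conj := fun x hx hx1 => isConj_iff.1 (Frame.all_conj hF x (Cfsg.Lib.InvolCalc.order_two_of_mul_self hx hx1))
  mem_cases := by
    rintro ⟨x, hxL⟩ hx hc
    obtain ⟨m, hm, rfl⟩ := F.cent_z hxL (congrArg Subtype.val hc)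
    have := invol_H1 m hm (F.inj (by rw [map_mul, map_one]; exact congrArg Subtype.val hx))
    rw [Bool.or_eq_true] at this
    exact this.imp (fun h => F.mem_A.2 h) (fun h => F.mem_B.2 h)
  not_cj := fun g h => F.not_conj g.2 fun a ha => by
    have : g * ⟨a, F.A_le ha⟩ * g⁻¹ ∈ F.B.subgroupOf F.L := by
      rw [← h, mem_cj]
      simpa [mul_assoc, mem_subgroupOf] using ha
    exact this
  card_inter := by
    have e : F.A ⊓ F.B = (A0 ⊓ B0).map F.ψ := (map_inf _ _ _ F.inj).symm
    have hs : F.A.subgroupOf F.L ⊓ F.B.subgroupOf F.L = (F.A ⊓ F.B).subgroupOf F.L := rfl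
    rw [hs, Nat.card_congr (subgroupOfEquivOfLe (inf_le_of_left_le F.A_le)).toEquiv, e,
      card_map_of_injective F.inj]
    refine Eq.trans ?_ side_counts.1
    rw [card_filter_range fun x : H0 => inA x && inB x]
    exact Nat.card_congr ((Equiv.refl _).subtypeEquiv fun x => by
      simp only [Equiv.refl_apply, Bool.and_eq_true]; exact Iff.rfl)
  comm := by
    rintro ⟨a, haL⟩ ha ⟨b, hbL⟩ hb hab hba
    obtain ⟨x, hx, rfl⟩ := (ha : a ∈ F.A)
    obtain ⟨y, hy, rfl⟩ := (hb : b ∈ F.B)
    have hx' : inB x = false := Bool.eq_false_iff.2 fun h => hab (F.mem_B.2 h)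
    have hy' : inA y = false := Bool.eq_false_iff.2 fun h => hba (F.mem_A.2 h)
    have h := commutators
    simp only [List.all_eq_true, mem_members] at h
    have := h x hx y hy
    simp only [hx', hy', Bool.or_self, Bool.false_or, Bool.and_eq_true, decide_eq_true_eq] at this
    refine ⟨fun e => this.1 (F.inj ?_), ?_, ?_⟩
    · rw [map_mul, map_mul]; exact congrArg Subtype.val e
    · show F.ψ x * F.ψ y * (F.ψ x)⁻¹ * (F.ψ y)⁻¹ ∈ F.A
      rw [← map_inv, ← map_inv, ← map_mul, ← map_mul, ← map_mul, F.mem_A]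
      exact this.2.1
    · show F.ψ x * F.ψ y * (F.ψ x)⁻¹ * (F.ψ y)⁻¹ ∈ F.B
      rw [← map_inv, ← map_inv, ← map_mul, ← map_mul, ← map_mul, F.mem_B]
      exact this.2.2
  card_invol := by
    have hL : Nat.card F.L = 60480 := by have := F.card_L_mul; rw [card_G_eq hF] at this; omega
    have h := card_class_mul F.zL
    rw [F.card_cent_zL, hL] at h
    have e : Nat.card {x : F.L // x * x = 1 ∧ x ≠ 1} = Nat.card {x // IsConj F.zL x} :=
      Nat.card_congr (Equiv.subtypeEquivRight fun x =>
        ⟨fun hx => Frame.all_conj hF x (Cfsg.Lib.InvolCalc.order_two_of_mul_self hx.1 hx.2), fun hx => by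
          have h2 := order_two_of_conj F.orderOf_zL hx
          exact ⟨Cfsg.Lib.InvolCalc.sq_of_order_two h2, Cfsg.Lib.InvolCalc.ne_one_of_order_two h2⟩⟩)
    omega
  self_cent := by
    rintro ⟨x, hxL⟩ hx
    obtain ⟨m, hm, rfl⟩ := F.cent_z hxL (congrArg Subtype.val ((mem_centralizer_iff.1 hx) F.zL F.z_mem_A)).symm
    obtain ⟨-, -, -, -, hA, -⟩ := gens_H1
    have hc := (mem_centralizer_iff.1 hx) ⟨F.ψ aM, F.A_le (F.mem_A.2 hA)⟩ (F.mem_A.2 hA)
    exact F.mem_A.2 ((cent_AB m).1 hm (F.inj (by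
      rw [map_mul, map_mul]; exact (congrArg Subtype.val hc).symm)))

theorem iso_planeGroup (hF : F.FullCase) : Nonempty (G ≃* planeGroup) := by
  set D := pairData hF
  obtain ⟨f, hf⟩ := D.exists_embedding
  haveI := F.normal
  let c : G →* MulAut F.L := MulAut.conjNormal
  have hc : Function.Injective c := by
    rw [injective_iff_map_eq_one]
    intro g hg
    have hcom : ∀ u : F.L, g * u * g⁻¹ = u := fun u => by
      rw [← MulAut.conjNormal_apply, show MulAut.conjNormal g = (1 : MulAut F.L) from hg]; rfl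
    obtain ⟨x, rfl⟩ := F.mem_range (mul_inv_eq_iff_eq_mul.1 (hcom F.zL))
    have hx : inH1 x = true := commute_center_H1 fun y hy => F.inj (by
      rw [map_mul, map_mul]; exact mul_inv_eq_iff_eq_mul.1 (hcom ⟨F.ψ y, (F.mem_L y).2 hy⟩))
    have h1 : (⟨F.ψ x, (F.mem_L x).2 hx⟩ : F.L) = 1 := D.fix_trivial fun T => by
      ext u
      rw [mem_cj]
      have : (⟨F.ψ x, (F.mem_L x).2 hx⟩ : F.L)⁻¹ * u * ⟨F.ψ x, (F.mem_L x).2 hx⟩ = u := Subtype.ext (by
        show (F.ψ x)⁻¹ * u.1 * F.ψ x = u.1
        rw [mul_assoc, ← mul_inv_eq_iff_eq_mul.1 (hcom u), inv_mul_cancel_left])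
      rw [this]
    exact congrArg Subtype.val h1
  let φ : G →* planeGroup := f.comp c
  have hφ : Function.Injective φ := hf.comp hc
  refine ⟨MulEquiv.ofBijective φ ((Nat.bijective_iff_injective_and_card _).2 ⟨hφ, ?_⟩)⟩
  have h1 := Nat.card_le_card_of_injective φ hφ
  have h2 := card_planeGroup
  rw [card_G_eq hF] at h1 ⊢
  omega

end Frame

end Cfsg.Lib.AutThreeFour
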