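import Mathlib
import Cfsg.Agent.AutThreeFour.Code
import Cfsg.Agent.PGroups.ExtraMinusFive

/-!
Homomorphisms out of the models from their defining relations.
-/

set_option autoImplicit false
set_option maxRecDepth 20000

namespace Cfsg.Lib.AutThreeFour

open Cfsg.Lib.ExtraMinusFive

/-- the element of the extraspecial group of a code -/
def toCl (a : Fin 32) : Cl :=
  let b : ℕ → ZMod 2 := fun i => if a.val.testBit i then 1 else 0
  ⟨b 0, b 1, b 2, b 3, b 4⟩

theorem toCl_mul : ∀ a b : Fin 32, toCl (emul a b) = toCl a * toCl b := by decide +kernel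
theorem toCl_inj : ∀ a b : Fin 32, toCl a = toCl b → a = b := by decide +kernel
theorem toCl_surj : ∀ g : Cl, ∃ a, toCl a = g := by decide +kernel
theorem toCl_zero : toCl 0 = 1 := by decide +kernel
theorem toCl_zb : toCl (zb true) = Cl.zz ∧ toCl (zb false) = 1 := by decide +kernel

/-- the permutation of the five classes attached to a generator -/
def gperm (g : Fin 2) : Equiv.Perm (Fin 5) :=
  if g = 0 then Equiv.swap 0 1 else Equiv.swap 1 2 * Equiv.swap 2 3

theorem gperm_act : ∀ g : Fin 2, ∀ a : Fin 32,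
    extend (quad_qs (gperm g) 0) (toCl a) = toCl (act (pts g) a) := by decide +kernel

/-- the word of an element of the symmetric group -/
def wordP (p : Fin 24) : List (Fin 2) := (treeWords.getD p.val []).map fun k => if k = 0 then 0 else 1

/-- the parent in the tree -/
def parent (p : Fin 24) : Fin 24 :=
  ((List.finRange 24).find? fun q => wordP q == (wordP p).dropLast).getD 0

/-- the last letter -/
def lastG (p : Fin 24) : Fin 2 := (wordP p).getLastD 0

theorem tree_spec : wordP 0 = [] ∧ ∀ p : Fin 24, p ≠ 0 →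
    wordP p = wordP (parent p) ++ [lastG p] ∧ pmul (parent p) (pts (lastG p)) = p := by decide +kernel

theorem tree_bit : ∀ ε : Fin 4, ∀ p : Fin 24, p ≠ 0 → cbit ε (parent p) (pts (lastG p)) = false := by decide +kernel

/-- the edges of the tree -/
def treeMask : ℕ :=
  (List.finRange 24).foldl (fun m p => if p = 0 then m else m ||| 2 ^ eix (parent p) (lastG p)) 0

/-- all edges -/
def fullMask : ℕ := 2 ^ 48 - 1

theorem steps_ok : ∀ ε : Fin 4, stepsOK ε edgeSteps treeMask = some fullMask := by decide +kernel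

theorem pts_spec : pts 0 ≠ 0 ∧ pts 1 ≠ 0 ∧ wordP (pts 0) = [0] ∧ wordP (pts 1) = [1] := by decide +kernel

theorem norm_bits : ∀ ε : Fin 4, ∀ p : Fin 24, cbit ε p 0 = false ∧ cbit ε 0 p = false := by decide +kernel

theorem unit_spec : (∀ p : Fin 24, pmul p 0 = p ∧ pmul 0 p = p) ∧ (∀ a : Fin 32, act 0 a = a) ∧
    (∀ p : Fin 24, act p 0 = 0) := by decide +kernel

theorem wordPerm_one : ∀ p : Fin 24, ((wordP p).map gperm).prod = 1 → p = 0 := by decide +kernel

/-- generators in a group satisfying the relations -/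
structure Rels (ε : Fin 4) (X : Type*) [Group X] where
  /-- the extraspecial subgroup -/
  ι : Cl →* X
  /-- the two lifts -/
  gx : Fin 2 → X
  conj : ∀ g a, gx g * ι (toCl a) * (gx g)⁻¹ = ι (toCl (act (pts g) a))
  cen : ∀ g, ι Cl.zz * g = g * ι Cl.zz
  rel : ∀ k < 4, ((relWords.getD k []).map gx).prod = ι (toCl (zb ((relBits ε).getD k false)))

namespace Rels

variable {ε : Fin 4} {X : Type*} [Group X] (R : Rels ε X)

/-- the central part -/
def c (b : Bool) : X := R.ι (toCl (zb b))

theorem c_false : R.c false = 1 := by rw [c, toCl_zb.2, map_one]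

theorem c_comm (b : Bool) (x : X) : R.c b * x = x * R.c b := by
  cases b
  · rw [R.c_false, one_mul, mul_one]
  · rw [c, toCl_zb.1, R.cen]

theorem c_add (b d : Bool) : R.c b * R.c d = R.c (xor b d) := by
  rw [c, c, ← map_mul, ← toCl_mul, zb_add]
  rfl

/-- the lift of an element of the symmetric group -/
def w (p : Fin 24) : X := ((wordP p).map R.gx).prod

theorem w_zero : R.w 0 = 1 := by rw [w, tree_spec.1]; rfl

theorem w_parent {p : Fin 24} (h : p ≠ 0) : R.w p = R.w (parent p) * R.gx (lastG p) := by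
  conv_lhs => rw [w, (tree_spec.2 p h).1]
  simp [w]

theorem word_induction {P : Fin 24 → Prop} (h0 : P 0) (hs : ∀ p, p ≠ 0 → P (parent p) → P p) : ∀ p, P p := by
  suffices ∀ n p, (wordP p).length ≤ n → P p from fun p => this _ p le_rfl
  intro n
  induction n with
  | zero =>
    intro p hp
    by_contra hne
    have hp0 : p ≠ 0 := fun e => hne (e ▸ h0)
    rw [(tree_spec.2 p hp0).1, List.length_append] at hp
    simp at hp
  | succ n ih =>
    intro p hp
    by_cases hp0 : p = 0
    · exact hp0 ▸ h0
    refine hs p hp0 (ih _ ?_)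
    rw [(tree_spec.2 p hp0).1, List.length_append, List.length_singleton] at hp
    omega

theorem w_conj : ∀ p, ∀ a, R.w p * R.ι (toCl a) * (R.w p)⁻¹ = R.ι (toCl (act p a)) :=
  word_induction (fun a => by rw [R.w_zero, one_mul, inv_one, mul_one, unit_spec.2.1]) fun p hp ih a => by
    rw [R.w_parent hp]
    calc R.w (parent p) * R.gx (lastG p) * R.ι (toCl a) * (R.w (parent p) * R.gx (lastG p))⁻¹
        = R.w (parent p) * (R.gx (lastG p) * R.ι (toCl a) * (R.gx (lastG p))⁻¹) * (R.w (parent p))⁻¹ := by group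
      _ = _ := by rw [R.conj, ih, ← act_act, (tree_spec.2 p hp).2]

/-- an edge holds -/
def Edge (p : Fin 24) (g : Fin 2) : Prop := R.w p * R.gx g = R.c (cbit ε p (pts g)) * R.w (pmul p (pts g))

/-- the edges of a mask hold -/
def MaskOK (mask : ℕ) : Prop := ∀ p g, mask.testBit (eix p g) = true → R.Edge p g

theorem follow_spec {mask : ℕ} (hm : R.MaskOK mask) : ∀ (r : List (Fin 2)) (p q : Fin 24) (b : Bool),
    follow ε mask r p = some (q, b) → R.w p * (r.map R.gx).prod = R.c b * R.w q
  | [], p, q, b, h => by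
    simp only [follow, Option.some.injEq, Prod.mk.injEq] at h
    obtain ⟨rfl, rfl⟩ := h
    simp [R.c_false]
  | g :: r, p, q, b, h => by
    simp only [follow] at h
    split at h
    swap
    · cases h
    rename_i hb
    obtain ⟨⟨q', b'⟩, h1, h2⟩ := Option.map_eq_some_iff.1 h
    simp only [Prod.mk.injEq] at h2
    obtain ⟨rfl, rfl⟩ := h2
    rw [List.map_cons, List.prod_cons, ← mul_assoc, hm p g hb, mul_assoc,
      follow_spec hm r _ _ _ h1, ← mul_assoc, R.c_add]

theorem eix_inj : ∀ p p' : Fin 24, ∀ g g' : Fin 2, eix p g = eix p' g' → p = p' ∧ g = g' := by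
  intro p p' g g' h
  simp only [eix] at h
  omega

theorem maskOK_insert {mask : ℕ} (hm : R.MaskOK mask) {p : Fin 24} {g : Fin 2} (h : R.Edge p g) :
    R.MaskOK (mask ||| 2 ^ eix p g) := by
  intro p' g' hb
  rw [Nat.testBit_lor, Bool.or_eq_true, Nat.testBit_two_pow, decide_eq_true_eq] at hb
  rcases hb with hb | hb
  · exact hm p' g' hb
  · obtain ⟨rfl, rfl⟩ := eix_inj _ _ _ _ hb
    exact h

theorem stepOK_spec {mask mask' : ℕ} {s : ℕ × ℕ} (hm : R.MaskOK mask) (h : stepOK ε mask s = some mask') :
    R.MaskOK mask' := by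
  unfold stepOK at h
  simp only at h
  set r := relWords.getD s.2 [] with hr
  set q : Fin 24 := ⟨s.1 % 24, Nat.mod_lt _ (by norm_num)⟩
  set g := r.getLastD 0 with hg
  split at h
  swap
  · cases h
  rename_i e b hf
  split at h
  swap
  · cases h
  rename_i hc
  obtain ⟨rfl, hbit, hs⟩ := hc
  simp only [Option.some.injEq] at h
  rw [← h]
  refine R.maskOK_insert hm ?_
  have h1 := R.follow_spec hm _ _ _ _ hf
  have hne : r ≠ [] := by
    rw [hr]
    interval_cases s.2 <;> simp [relWords]
  have h2 : ((r.dropLast).map R.gx).prod * R.gx g = R.c ((relBits ε).getD s.2 false) := by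
    rw [c, ← R.rel s.2 hs, ← hr]
    conv_rhs => rw [← List.dropLast_append_getLast hne, List.map_append, List.prod_append]
    rw [hg, List.getLastD_eq_getLast?, List.getLast?_eq_getLast_of_ne_nil hne]
    simp
  show R.w q * R.gx g = R.c _ * R.w (pmul q (pts g))
  have hcc : ∀ b : Bool, R.c b * R.c b = 1 := fun b => by rw [R.c_add, Bool.xor_self, R.c_false]
  calc R.w q * R.gx g = R.c b * (R.c b * R.w q) * R.gx g := by rw [← mul_assoc, hcc, one_mul]
    _ = R.c b * (R.w (pmul q (pts g)) * ((r.dropLast).map R.gx).prod) * R.gx g := by rw [h1]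
    _ = R.c b * (R.w (pmul q (pts g)) * (((r.dropLast).map R.gx).prod * R.gx g)) := by simp only [mul_assoc]
    _ = R.c b * R.c ((relBits ε).getD s.2 false) * R.w (pmul q (pts g)) := by
        rw [h2, ← R.c_comm, mul_assoc]
    _ = _ := by rw [R.c_add, hbit, Bool.xor_comm]

theorem stepsOK_spec : ∀ (l : List (ℕ × ℕ)) {mask mask' : ℕ}, R.MaskOK mask → stepsOK ε l mask = some mask' →
    R.MaskOK mask'
  | [], mask, mask', hm, h => by
    simp only [stepsOK, Option.some.injEq] at h
    rwa [← h]
  | s :: l, mask, mask', hm, h => by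
    simp only [stepsOK, Option.bind_eq_some_iff] at h
    obtain ⟨m, h1, h2⟩ := h
    exact stepsOK_spec l (R.stepOK_spec hm h1) h2

theorem treeMask_spec : R.MaskOK treeMask := by
  have key : ∀ (l : List (Fin 24)) (m : ℕ), R.MaskOK m →
      R.MaskOK (l.foldl (fun m p => if p = 0 then m else m ||| 2 ^ eix (parent p) (lastG p)) m) := by
    intro l
    induction l with
    | nil => exact fun m hm => hm
    | cons p l ih =>
      intro m hm
      refine ih _ ?_
      dsimp only
      split_ifs with hp
      · exact hm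
      refine R.maskOK_insert hm ?_
      show _ = R.c _ * _
      rw [tree_bit ε p hp, R.c_false, one_mul, (tree_spec.2 p hp).2, ← R.w_parent hp]
  exact key _ 0 fun p g h => by simp at h

theorem edge (p : Fin 24) (g : Fin 2) : R.Edge p g := by
  refine R.stepsOK_spec _ R.treeMask_spec (steps_ok ε) p g ?_
  rw [fullMask, Nat.testBit_two_pow_sub_one, decide_eq_true_eq, eix]
  omega

theorem w_mul (p : Fin 24) : ∀ q, R.w p * R.w q = R.c (cbit ε p q) * R.w (pmul p q) :=
  word_induction (by rw [R.w_zero, mul_one, (norm_bits ε p).1, R.c_false, one_mul, (unit_spec.1 p).1])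
    fun q hq ih => by
      have hh := (tree_spec.2 q hq).2
      have hc := cocycle ε p (parent q) (pts (lastG q))
      rw [tree_bit ε q hq, Bool.false_xor, hh] at hc
      calc R.w p * R.w q = R.w p * R.w (parent q) * R.gx (lastG q) := by rw [R.w_parent hq, mul_assoc]
        _ = R.c (cbit ε p (parent q)) * (R.w (pmul p (parent q)) * R.gx (lastG q)) := by rw [ih, mul_assoc]
        _ = _ := by rw [R.edge, ← mul_assoc, R.c_add, hc, pmul_assoc, hh]

/-- the value on a code -/
def val (m : M ε) : X := R.ι (toCl (ep m)) * R.w (pp m)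

/-- the homomorphism out of the model -/
def hom : M ε →* X :=
  MonoidHom.mk' R.val fun m n => by
    conv_lhs => rw [← pr_parts m, ← pr_parts n, mul_pr]
    simp only [val, (parts_pr _ _).1, (parts_pr _ _).2]
    rw [toCl_mul, toCl_mul, map_mul, map_mul]
    calc R.ι (toCl (ep m)) * R.ι (toCl (act (pp m) (ep n))) * R.c (cbit ε (pp m) (pp n)) *
          R.w (pmul (pp m) (pp n))
        = R.ι (toCl (ep m)) * R.ι (toCl (act (pp m) (ep n))) * (R.w (pp m) * R.w (pp n)) := by
          rw [R.w_mul]; simp only [mul_assoc]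
      _ = _ := by rw [← R.w_conj]; group

theorem hom_pr (a : Fin 32) (p : Fin 24) : R.hom (pr a p) = R.ι (toCl a) * R.w p := by
  show R.val _ = _
  rw [val, (parts_pr _ _).1, (parts_pr _ _).2]

end Rels

end Cfsg.Lib.AutThreeFour
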