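import Mathlib
import Cfsg.Prelude.Def_Transfer
import Cfsg.Agent.AutThreeFour.Hom

/-!
A group with normal self-centralising `2^{1+4}₋` and quotient `Sym₄` is one of the models.
-/

set_option autoImplicit false
set_option maxRecDepth 20000
set_option linter.style.haveILetI false

namespace Cfsg.Lib.AutThreeFour

open Cfsg.Lib.ExtraMinusFive Equiv

set_option synthInstance.maxSize 4000 in
theorem pair_norm : ∀ σ : Perm (Fin 5), σ * σ = 1 → ∀ τ : Perm (Fin 5), τ * τ * τ = 1 → τ ≠ 1 →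
    (σ * τ) * (σ * τ) * ((σ * τ) * (σ * τ)) = 1 → (σ * τ) * (σ * τ) ≠ 1 →
    ∃ ρ : Perm (Fin 5), ρ * σ = gperm 0 * ρ ∧ ρ * τ = gperm 1 * ρ := by decide +kernel

theorem four_rels : gperm 0 * gperm 0 = 1 ∧ gperm 1 * gperm 1 * gperm 1 = 1 ∧
    (gperm 0 * gperm 1) * (gperm 0 * gperm 1) * ((gperm 0 * gperm 1) * (gperm 0 * gperm 1)) = 1 := by decide +kernel

theorem s4_rels : let s : Perm (Fin 4) := Equiv.swap 0 1
    let t : Perm (Fin 4) := Equiv.swap 1 2 * Equiv.swap 2 3
    s * s = 1 ∧ t * t * t = 1 ∧ t ≠ 1 ∧ (s * t) * (s * t) * ((s * t) * (s * t)) = 1 ∧ (s * t) * (s * t) ≠ 1 := by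
  decide +kernel

theorem act_rels : ∀ a : Fin 32, act (pts 0) (act (pts 0) a) = a ∧ act (pts 1) (act (pts 1) (act (pts 1) a)) = a ∧
    act (pts 0) (act (pts 1) (act (pts 0) (act (pts 1) (act (pts 0) (act (pts 1) (act (pts 0) (act (pts 1) a)))))))
      = a := by decide +kernel

theorem mem_inner_of_classPerm {f : MulAut Cl} (h : classPerm f = 1) :
    ∃ g : Cl, f = MulAut.conj g := by
  obtain ⟨g, hg⟩ : f ∈ (MulAut.conj : Cl →* MulAut Cl).range := ker_classPerm ▸ MonoidHom.mem_ker.2 h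
  exact ⟨g, hg.symm⟩

theorem classPerm_mkAut (σ : Perm (Fin 5)) : classPerm (mkAut σ 0) = σ :=
  congrArg Prod.fst (autEquiv.apply_symm_apply (σ, 0))

theorem classPerm_conj (g : Cl) : classPerm (MulAut.conj g) = 1 :=
  MonoidHom.mem_ker.1 (ker_classPerm.symm ▸ ⟨g, rfl⟩)

theorem mkAut_act (g : Fin 2) (a : Fin 32) : mkAut (gperm g) 0 (toCl a) = toCl (act (pts g) a) := gperm_act g a

theorem exists_model {C : Type*} [Group C] [Finite C] (E : Subgroup C) [E.Normal]
    (hE : Cfsg.IsExtraspecial 2 E) (h32 : Nat.card E = 32)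
    (hminus : ∀ A : Subgroup E, Cfsg.IsElementaryAbelian 2 A → Nat.card A ≤ 4)
    (hCE : Subgroup.centralizer (E : Set C) ≤ E) (e : (C ⧸ E) ≃* Perm (Fin 4)) :
    ∃ (ε : Fin 4) (F : M ε →* C), Function.Bijective F := by
  obtain ⟨f₀⟩ := nonempty_iso hE h32 hminus
  -- conjugation on the model
  let θ₀ : C →* MulAut Cl := (MulAut.congr f₀).toMonoidHom.comp MulAut.conjNormal
  have hθ₀ : ∀ c x, θ₀ c x = f₀ (MulAut.conjNormal c (f₀.symm x)) := fun c x => rfl
  have hθE : ∀ u : E, θ₀ u = MulAut.conj (f₀ u) := fun u => MulEquiv.ext fun x => by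
    rw [hθ₀, MulAut.conjNormal_val, MulAut.conj_apply, MulAut.conj_apply, map_mul, map_mul, f₀.apply_symm_apply,
      map_inv]
  have hker : ∀ c, θ₀ c = 1 → c ∈ E := fun c hc => hCE <| by
    rw [Subgroup.mem_centralizer_iff]
    intro u hu
    have := congrArg (fun f : MulAut Cl => f₀.symm (f (f₀ ⟨u, hu⟩))) hc
    simp only [hθ₀, f₀.symm_apply_apply, MulAut.one_apply] at this
    have h1 : c * u * c⁻¹ = u := by
      simpa [MulAut.conjNormal_apply] using congrArg Subtype.val this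
    calc u * c = c * u * c⁻¹ * c := by rw [h1]
      _ = c * u := by group
  have hχker : ∀ c, classPerm (θ₀ c) = 1 → c ∈ E := fun c hc => by
    obtain ⟨g, hg⟩ := mem_inner_of_classPerm hc
    have h1 : θ₀ ((f₀.symm g : C)⁻¹ * c) = 1 := by
      rw [map_mul, map_inv, hθE, f₀.apply_symm_apply, hg, inv_mul_cancel]
    exact (mul_mem_cancel_left (inv_mem (f₀.symm g).2)).1 (hker _ h1)
  have hχE : ∀ c ∈ E, classPerm (θ₀ c) = 1 := fun c hc => by rw [hθE ⟨c, hc⟩, classPerm_conj]
  -- lifts of the two generators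
  obtain ⟨a, ha⟩ := QuotientGroup.mk_surjective (e.symm (Equiv.swap 0 1))
  obtain ⟨b, hb⟩ := QuotientGroup.mk_surjective (e.symm (Equiv.swap 1 2 * Equiv.swap 2 3))
  have hmem : ∀ c : C, e (c : C ⧸ E) = 1 ↔ classPerm (θ₀ c) = 1 := fun c => by
    rw [map_eq_one_iff e e.injective, QuotientGroup.eq_one_iff]
    exact ⟨hχE c, hχker c⟩
  have ea : e (a : C ⧸ E) = Equiv.swap 0 1 := by rw [ha, e.apply_symm_apply]
  have eb : e (b : C ⧸ E) = Equiv.swap 1 2 * Equiv.swap 2 3 := by rw [hb, e.apply_symm_apply]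
  obtain ⟨q1, q2, q3, q4, q5⟩ := s4_rels
  set σ := classPerm (θ₀ a) with hσ
  set τ := classPerm (θ₀ b) with hτ
  have tr : ∀ c : C, (e (c : C ⧸ E) = 1 ↔ classPerm (θ₀ c) = 1) := hmem
  have r1 : σ * σ = 1 := by
    rw [hσ, ← map_mul, ← map_mul, ← tr, QuotientGroup.mk_mul, map_mul, ea, q1]
  have r2 : τ * τ * τ = 1 := by
    rw [hτ, ← map_mul, ← map_mul, ← map_mul, ← map_mul, ← tr, QuotientGroup.mk_mul, QuotientGroup.mk_mul, map_mul,
      map_mul, eb, q2]
  have r3 : τ ≠ 1 := fun h => q3 (by rw [← eb, tr]; exact h)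
  have key : e (((a * b) * (a * b) : C) : C ⧸ E) =
      (Equiv.swap 0 1 * (Equiv.swap 1 2 * Equiv.swap 2 3)) * (Equiv.swap 0 1 * (Equiv.swap 1 2 * Equiv.swap 2 3)) := by
    simp only [QuotientGroup.mk_mul, map_mul, ea, eb]
  have r5 : (σ * τ) * (σ * τ) ≠ 1 := fun h => q5 (by
    rw [← key, tr, map_mul, map_mul, map_mul, map_mul]; exact h)
  have r4 : (σ * τ) * (σ * τ) * ((σ * τ) * (σ * τ)) = 1 := by
    have h : e ((((a * b) * (a * b)) * ((a * b) * (a * b)) : C) : C ⧸ E) = 1 := by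
      rw [QuotientGroup.mk_mul, map_mul, key]; exact q4
    have := (tr _).1 h
    simpa only [map_mul] using this
  obtain ⟨ρ, hρa, hρb⟩ := pair_norm σ r1 τ r2 r3 r4 r5
  -- change of coordinates
  set m := mkAut ρ 0 with hm
  let f := f₀.trans m
  let θ : C →* MulAut Cl := (MulAut.conj m).toMonoidHom.comp θ₀
  have hθ : ∀ c x, θ c x = f (MulAut.conjNormal c (f.symm x)) := fun c x => rfl
  have hP : ∀ c, classPerm (θ c) = ρ * classPerm (θ₀ c) * ρ⁻¹ := fun c => by
    show classPerm (m * θ₀ c * m⁻¹) = _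
    rw [map_mul, map_mul, map_inv, hm, classPerm_mkAut]
  have hθker : ∀ c, θ c = 1 → c ∈ E := fun c hc => hχker c (by
    have := hP c
    rw [hc, map_one] at this
    exact conj_eq_one_iff.1 this.symm)
  let ι : Cl →* C := E.subtype.comp f.symm.toMonoidHom
  have hιinj : Function.Injective ι := fun x y h => f.symm.injective (Subtype.ext h)
  have hιE : ∀ x, ι x ∈ E := fun x => (f.symm x).2
  have hθι : ∀ c x, c * ι x * c⁻¹ = ι (θ c x) := fun c x => by
    show _ = ((f.symm (f (MulAut.conjNormal c (f.symm x))) : E) : C)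
    rw [f.symm_apply_apply, MulAut.conjNormal_apply]
    rfl
  have hιθ : ∀ x, θ (ι x) = MulAut.conj x := fun x => by
    refine MulEquiv.ext fun y => hιinj ?_
    rw [← hθι, MulAut.conj_apply, map_mul, map_mul, map_inv]
  have hkerz : ∀ c, θ c = 1 → c = 1 ∨ c = ι Cl.zz := fun c hc => by
    obtain ⟨x, rfl⟩ : ∃ x, ι x = c := ⟨f ⟨c, hθker c hc⟩, by
      show ((f.symm (f ⟨c, hθker c hc⟩) : E) : C) = c
      rw [f.symm_apply_apply]⟩
    rw [hιθ] at hc
    rcases Cl.center_eq x (fun h => by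
      have := DFunLike.congr_fun hc h
      rw [MulAut.conj_apply, MulAut.one_apply, mul_inv_eq_iff_eq_mul] at this
      exact this) with rfl | rfl
    · exact Or.inl (map_one ι)
    · exact Or.inr rfl
  have hcen : ∀ c, ι Cl.zz * c = c * ι Cl.zz := fun c => by
    have := hθι c Cl.zz
    rw [aut_zz] at this
    calc ι Cl.zz * c = c * ι Cl.zz * c⁻¹ * c := by rw [this]
      _ = _ := by group
  -- lifts with the standard action
  have lift : ∀ (c : C) (g : Fin 2), classPerm (θ c) = gperm g → ∃ c', θ c' = mkAut (gperm g) 0 := fun c g hc => by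
    obtain ⟨u, hu⟩ := mem_inner_of_classPerm (f := θ c * (mkAut (gperm g) 0)⁻¹) (by
      rw [map_mul, map_inv, hc, classPerm_mkAut, mul_inv_cancel])
    exact ⟨(ι u)⁻¹ * c, by rw [map_mul, map_inv, hιθ, ← hu]; group⟩
  obtain ⟨x, hx⟩ := lift a 0 (by rw [hP, ← hσ, hρa, mul_inv_cancel_right])
  obtain ⟨y₀, hy₀⟩ := lift b 1 (by rw [hP, ← hτ, hρb, mul_inv_cancel_right])
  have conjx : ∀ u, mkAut (gperm 0) 0 (mkAut (gperm 0) 0 (toCl u)) = toCl u := fun u => by
    rw [mkAut_act, mkAut_act, (act_rels u).1]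
  have conjy : ∀ u, mkAut (gperm 1) 0 (mkAut (gperm 1) 0 (mkAut (gperm 1) 0 (toCl u))) = toCl u := fun u => by
    rw [mkAut_act, mkAut_act, mkAut_act, (act_rels u).2.1]
  have ext1 : ∀ c, (∀ u, θ c (toCl u) = toCl u) → θ c = 1 := fun c h => MulEquiv.ext fun g => by
    obtain ⟨u, rfl⟩ := toCl_surj g
    exact h u
  have hx2 := hkerz (x * x) (ext1 _ fun u => by rw [map_mul, MulAut.mul_apply, hx, conjx])
  have hy3 := hkerz (y₀ * y₀ * y₀) (ext1 _ fun u => by
    rw [map_mul, map_mul, MulAut.mul_apply, MulAut.mul_apply, hy₀, conjy])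
  -- choose the lift of order three
  obtain ⟨y, hy, hy1⟩ : ∃ y, θ y = mkAut (gperm 1) 0 ∧ y * y * y = 1 := by
    rcases hy3 with h | h
    · exact ⟨y₀, hy₀, h⟩
    · refine ⟨y₀ * ι Cl.zz, ?_, ?_⟩
      · rw [map_mul, hy₀, hιθ, show MulAut.conj Cl.zz = (1 : MulAut Cl) from MulEquiv.ext fun g => by
          rw [MulAut.conj_apply, Cl.zz_mul, mul_inv_cancel_right, MulAut.one_apply], mul_one]
      · have z2 : ι Cl.zz * ι Cl.zz = 1 := by rw [← map_mul, Cl.zz_sq, map_one]
        calc y₀ * ι Cl.zz * (y₀ * ι Cl.zz) * (y₀ * ι Cl.zz)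
            = y₀ * (ι Cl.zz * y₀) * (ι Cl.zz * y₀) * ι Cl.zz := by group
          _ = y₀ * (y₀ * ι Cl.zz) * (y₀ * ι Cl.zz) * ι Cl.zz := by rw [hcen]
          _ = y₀ * y₀ * (ι Cl.zz * y₀) * (ι Cl.zz * ι Cl.zz) := by group
          _ = y₀ * y₀ * y₀ * (ι Cl.zz) := by rw [hcen, z2, mul_one]; group
          _ = 1 := by rw [h, z2]
  have hxy := hkerz (x * y * (x * y) * (x * y * (x * y))) (ext1 _ fun u => by
    simp only [map_mul, MulAut.mul_apply, hx, hy, mkAut_act, (act_rels u).2.2])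
  -- assemble
  have hbit : ∀ (s : C), (s = 1 ∨ s = ι Cl.zz) → ∃ b : Bool, s = ι (toCl (zb b)) := by
    rintro s (rfl | rfl)
    · exact ⟨false, by rw [toCl_zb.2, map_one]⟩
    · exact ⟨true, by rw [toCl_zb.1]⟩
  obtain ⟨b1, hb1⟩ := hbit _ hx2
  obtain ⟨b2, hb2⟩ := hbit _ hxy
  let mk : Bool → Bool → Fin 4 := fun c d => if c then (if d then 3 else 1) else (if d then 2 else 0)
  have hmk : ∀ c d, relBits (mk c d) = [c, false, d, d] := by decide +kernel
  let ε : Fin 4 := mk b1 b2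
  have hbits : relBits ε = [b1, false, b2, b2] := hmk b1 b2
  let R : Rels ε C :=
    { ι := ι
      gx := ![x, y]
      conj := fun g u => by
        fin_cases g
        · show x * _ * x⁻¹ = _
          rw [hθι, hx, mkAut_act]; rfl
        · show y * _ * y⁻¹ = _
          rw [hθι, hy, mkAut_act]; rfl
      cen := hcen
      rel := fun k hk => by
        interval_cases k
        all_goals simp only [relWords, hbits, List.getD_cons_zero, List.getD_cons_succ, List.map_cons, List.map_nil,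
          List.prod_cons, List.prod_nil, Matrix.cons_val_zero, Matrix.cons_val_one, mul_one]
        · exact hb1
        · rw [← mul_assoc, hy1, toCl_zb.2, map_one]
        · rw [← hb2]; group
        · have e1 : y * (x * (y * (x * (y * (x * (y * x)))))) = x⁻¹ * (x * y * (x * y) * (x * y * (x * y))) * x := by
            group
          rw [e1, hb2, mul_assoc]
          cases b2
          · rw [toCl_zb.2, map_one, one_mul, inv_mul_cancel]
          · rw [toCl_zb.1, hcen x, inv_mul_cancel_left] }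
  refine ⟨ε, R.hom, ?_⟩
  haveI : Fintype C := Fintype.ofFinite C
  have hinj : Function.Injective R.hom := by
    refine (injective_iff_map_eq_one _).2 fun m hm1 => ?_
    rw [← pr_parts m, R.hom_pr] at hm1
    have h1 : classPerm (θ (R.w (pp m))) = 1 := by
      rw [eq_inv_of_mul_eq_one_right hm1, map_inv, map_inv]
      show (classPerm (θ (ι (toCl (ep m)))))⁻¹ = 1
      rw [hιθ, classPerm_conj, inv_one]
    have h2 : classPerm (θ (R.w (pp m))) = ((wordP (pp m)).map gperm).prod := by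
      rw [Rels.w, map_list_prod, map_list_prod, List.map_map, List.map_map]
      congr 1
      refine List.map_congr_left fun g _ => ?_
      show classPerm (θ (![x, y] g)) = gperm g
      fin_cases g
      · show classPerm (θ x) = _
        rw [hx, classPerm_mkAut]; rfl
      · show classPerm (θ y) = _
        rw [hy, classPerm_mkAut]; rfl
    have hp : pp m = 0 := wordPerm_one _ (h2.symm.trans h1)
    rw [hp, Rels.w_zero, mul_one] at hm1
    have ha' : ep m = 0 := toCl_inj _ _ (by rw [toCl_zero]; exact hιinj (hm1.trans (map_one ι).symm))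
    rw [← pr_parts m, hp, ha']
    rfl
  refine (Nat.bijective_iff_injective_and_card _).2 ⟨hinj, ?_⟩
  rw [card_M, Subgroup.card_eq_card_quotient_mul_card_subgroup E, h32, Nat.card_congr e.toEquiv, Nat.card_perm,
    Nat.card_fin]
  rfl

end Cfsg.Lib.AutThreeFour
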