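import Mathlib
import Cfsg.Agent.AutThreeFour.Invol
import Cfsg.Agent.Chars.Burnside

/-!
The case where only the four-group is fused.
-/

set_option autoImplicit false
set_option maxRecDepth 20000
set_option linter.style.haveILetI false

namespace Cfsg.Lib.AutThreeFour

open Subgroup Cfsg.Lib.HallJankoType

theorem orbit_disjoint {K : Type*} [Group K] {x y u : K} (h : IsConj x u) (h' : IsConj y u) : IsConj x y :=
  h.trans h'.symm

/-- solvability from three conjugates -/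
theorem isSolvable_of_three {G : Type*} [Group G] [Finite G] (z : G)
    (h3 : Nat.card {x // IsConj z x} = 3) (hC : Nat.card (centralizer ({z} : Set G)) = 768) :
    Group.IsSolvable G := by
  have hG : Nat.card G = 2 ^ 8 * 3 ^ 2 := by
    rw [← card_class_mul z, h3, hC]; norm_num
  exact Cfsg.Lib.Chars.burnside_isSolvable 2 3 Nat.prime_two Nat.prime_three G ⟨8, 2, hG⟩

theorem side_facts : (∀ x : H0, inH1 x = true → x * x = 1 → x ≠ 1 → x * aM = aM * x → inA x = true) ∧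
    (∀ x : H0, inA x = true → x * aM = aM * x) ∧ (∀ x : H0, inB x = true → x * bM = bM * x) ∧
    (grM * aM * grM⁻¹ ≠ 1 ∧ inB (grM * aM * grM⁻¹) = true ∧ inA (grM * aM * grM⁻¹) = false) ∧
    inH1 aM = true ∧ inH1 bM = true ∧ inH1 vM = true ∧ (zM * vM : H0) ≠ 1 ∧ aM * aM = 1 ∧ bM * bM = 1 ∧
    aM ≠ 1 ∧ bM ≠ 1 ∧ zM ≠ vM ∧ (zM : H0) ≠ zM * vM ∧ vM ≠ zM * vM := by decide +kernel

theorem fourth_pow_one {X : Type*} [Group X] {g : X} (hg : g * g * g = 1) (n : ℕ) (h2 : orderOf g = 2 ^ n) :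
    g = 1 := by
  have h3 : orderOf g ∣ 3 := orderOf_dvd_of_pow_eq_one (by rw [pow_succ, pow_two, hg])
  rw [h2] at h3
  rcases Nat.eq_zero_or_pos n with rfl | hn
  · exact orderOf_eq_one_iff.1 (by rw [h2, pow_zero])
  · have : 2 ∣ 3 := (dvd_pow_self 2 (by omega)).trans h3
    norm_num at this

namespace Frame

variable {G : Type*} [Group G] [Finite G] (F : Frame G)

/-- the hypothesis of the case -/
def OnlyFour : Prop := F.toSetting.InF vM ∧ ¬ F.toSetting.InF aM

/-- the first representative in `L` -/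
def aL : F.L := F.elL aM side_facts.2.2.2.2.1
/-- the second representative in `L` -/
def bL : F.L := F.elL bM side_facts.2.2.2.2.2.1

variable {F}
variable (hM : F.OnlyFour)
include hM

omit [Finite G] in
theorem not_inF_two {m : H0} (hl : lab m = 2) : ¬ F.toSetting.InF m := fun h =>
  hM.2 (F.toSetting.inF_of_lab h (by omega) (rep_spec.2.2.2.2.2.2.1.trans hl.symm))

omit [Finite G] in
theorem inF_inter {m : H0} (h : F.toSetting.InF m) : inA m = true ∧ inB m = true := by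
  rw [← Bool.and_eq_true, inter_AB]
  rcases F.toSetting.inF_lab h with h' | h' | h'
  · exact Or.inr (Or.inl h')
  · exact Or.inr (Or.inr h')
  · exact absurd h (not_inF_two hM h')

omit [Finite G] in
theorem inF_of_inter {m : H0} (h : inA m = true) (h' : inB m = true) (h1 : m ≠ 1) : F.toSetting.InF m := by
  rcases (inter_AB m).1 (by rw [h, h']; rfl) with h2 | rfl | h2
  · exact absurd h2 h1
  · exact F.toSetting.inF_z
  · exact F.toSetting.inF_of_lab hM.1 (by rw [rep_spec.2.2.2.2.2.1]; decide) (h2.trans rep_spec.2.2.2.2.2.1.symm)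

/-- the Sylow subgroup of the centraliser of either representative -/
theorem side_sylow {c : H0} {X : Subgroup G} (hcX : (c = aM ∧ X = F.A) ∨ (c = bM ∧ X = F.B)) (P : Subgroup G)
    (hP : IsPGroup 2 P) (hle : X ≤ P) (hPL : P ≤ F.L) (hc : ∀ p ∈ P, p * F.ψ c = F.ψ c * p) : X = P := by
  haveI : Fact (Nat.Prime 2) := ⟨Nat.prime_two⟩
  by_contra hne
  haveI := hP.isNilpotent
  have hlt : X.subgroupOf P < ⊤ := lt_top_iff_ne_top.2 fun h => hne (le_antisymm hle (subgroupOf_eq_top.1 h))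
  obtain ⟨⟨g, hgP⟩, hgN, hgU⟩ := SetLike.exists_of_lt (Group.normalizerCondition_of_isNilpotent _ hlt)
  have hgX : g ∉ X := fun h => hgU (mem_subgroupOf.2 h)
  have hgN' : ∀ y ∈ X, g * y * g⁻¹ ∈ X := fun y hy =>
    mem_subgroupOf.1 ((mem_normalizer_iff.1 hgN ⟨y, hle hy⟩).1 (mem_subgroupOf.2 hy))
  have hAX : ∀ y, y ∈ F.A → y ∈ F.B → y ∈ X := fun y h1 h2 => by
    rcases hcX with ⟨-, rfl⟩ | ⟨-, rfl⟩ <;> assumption
  have hXm : ∀ y ∈ X, ∃ m : H0, F.ψ m = y := fun y hy => by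
    rcases hcX with ⟨-, rfl⟩ | ⟨-, rfl⟩ <;> obtain ⟨m, -, rfl⟩ := hy <;> exact ⟨m, rfl⟩
  have hV : ∀ a, a ∈ F.A → a ∈ F.B → g * a * g⁻¹ ∈ F.A ∧ g * a * g⁻¹ ∈ F.B := by
    intro a ha hb
    by_cases h1 : a = 1
    · subst h1; simp [one_mem]
    obtain ⟨m, hm, rfl⟩ := ha
    obtain ⟨m', hm'⟩ := hXm _ (hgN' _ (hAX _ ⟨m, hm, rfl⟩ hb))
    have hF : F.toSetting.InF m' := by
      show IsConj F.z (F.ψ m')
      rw [hm']
      exact IsConj.trans (inF_of_inter hM hm (F.mem_B.1 hb) fun h => h1 (by rw [h, map_one]))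
        (isConj_iff.2 ⟨g, rfl⟩)
    rw [← hm', F.mem_A, F.mem_B]
    exact inF_inter hM hF
  have hgL := hPL hgP
  have h3 := F.cube_fixes hgL hV
  obtain ⟨m, hm, hmg⟩ := F.cent_z (F.L.mul_mem (F.L.mul_mem hgL hgL) hgL)
    (by conv_rhs => rw [← h3]
        group)
  have hmc : m * c = c * m := F.inj (by
    rw [map_mul, map_mul, hmg]
    exact hc _ (P.mul_mem (P.mul_mem hgP hgP) hgP))
  have hg3 : g * g * g ∈ X := by
    rw [← hmg]
    rcases hcX with ⟨rfl, rfl⟩ | ⟨rfl, rfl⟩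
    · exact F.mem_A.2 ((cent_AB m).1 hm hmc)
    · exact F.mem_B.2 ((cent_AB m).2.2 hm hmc)
  -- a two-element with its cube inside
  obtain ⟨n, hn⟩ := IsPGroup.iff_orderOf.1 hP ⟨g, hgP⟩
  have hodd : Nat.Coprime (orderOf g) 3 := by
    rw [← Subgroup.orderOf_mk g hgP, hn]
    exact Nat.Coprime.pow_left n (by norm_num)
  obtain ⟨r, hr⟩ := exists_pow_eq_self_of_coprime hodd.symm
  apply hgX
  rw [← hr]
  exact X.pow_mem (by rw [pow_succ, pow_two]; exact hg3) r

omit hM in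
theorem cent_elL_le {x : H0} (hx : inH1 x = true) :
    (centralizer ({F.elL x hx} : Set F.L)).map F.L.subtype ≤ F.L ∧
      ∀ p ∈ (centralizer ({F.elL x hx} : Set F.L)).map F.L.subtype, p * F.ψ x = F.ψ x * p := by
  refine ⟨?_, ?_⟩
  · rintro _ ⟨u, -, rfl⟩
    exact u.2
  · rintro _ ⟨u, hu, rfl⟩
    exact congrArg Subtype.val (mem_centralizer_singleton_iff.1 hu)

/-- two-elements of the centraliser are conjugate into the elementary subgroup -/
theorem conj_into_side {c : H0} {X : Subgroup G} (hcX : (c = aM ∧ X = F.A) ∨ (c = bM ∧ X = F.B)) (hc1 : inH1 c = true)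
    (U : Subgroup F.L) (hU : IsPGroup 2 U) (hUc : U ≤ centralizer ({F.elL c hc1} : Set F.L)) :
    ∃ k ∈ centralizer ({F.elL c hc1} : Set F.L), ∀ u ∈ U, ((k * u * k⁻¹ : F.L) : G) ∈ X := by
  haveI : Fact (Nat.Prime 2) := ⟨Nat.prime_two⟩
  set C := centralizer ({F.elL c hc1} : Set F.L) with hC
  have hXL : X ≤ F.L := by rcases hcX with ⟨-, rfl⟩ | ⟨-, rfl⟩; exacts [F.A_le, F.B_le]
  have hXc : ∀ y ∈ X, y * F.ψ c = F.ψ c * y := by
    intro y hy
    rcases hcX with ⟨rfl, rfl⟩ | ⟨rfl, rfl⟩ <;> obtain ⟨m, hm, rfl⟩ := hy <;> rw [← map_mul, ← map_mul]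
    · rw [side_facts.2.1 m hm]
    · rw [side_facts.2.2.1 m hm]
  have hX2 : IsPGroup 2 X := by
    rcases hcX with ⟨-, rfl⟩ | ⟨-, rfl⟩
    · exact IsPGroup.of_card (n := 4) F.card_A
    · exact IsPGroup.of_card (n := 4) F.card_B
  set X' := (X.subgroupOf F.L).subgroupOf C with hX'
  have hX'p : IsPGroup 2 X' :=
    (hX2.comap_of_injective _ F.L.subtype_injective).comap_of_injective _ C.subtype_injective
  obtain ⟨P, hP⟩ := hX'p.exists_le_sylow
  obtain ⟨Q, hQ⟩ := (hU.comap_of_injective C.subtype C.subtype_injective).exists_le_sylow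
  obtain ⟨k, hk⟩ := MulAction.exists_smul_eq C Q P
  have hPX : X = ((P : Subgroup C).map C.subtype).map F.L.subtype := by
    refine side_sylow hM hcX _ ((P.2.map _).map _) (fun y hy => ?_) ?_ ?_
    · refine ⟨⟨y, hXL hy⟩, ⟨⟨⟨y, hXL hy⟩, mem_centralizer_singleton_iff.2 (Subtype.ext (hXc y hy))⟩, hP ?_, rfl⟩, rfl⟩
      exact hy
    · rintro _ ⟨u, -, rfl⟩; exact u.2
    · rintro _ ⟨_, ⟨v, -, rfl⟩, rfl⟩
      exact congrArg Subtype.val (mem_centralizer_singleton_iff.1 v.2)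
  refine ⟨k.1, k.2, fun u hu => ?_⟩
  rw [hPX]
  refine ⟨k.1 * u * k.1⁻¹, ⟨k * ⟨u, hUc hu⟩ * k⁻¹, ?_, rfl⟩, rfl⟩
  rw [← hk]
  exact ⟨⟨u, hUc hu⟩, hQ hu, rfl⟩

theorem not_conj_ab : ¬ IsConj (aL F) (bL F) := by
  intro h
  obtain ⟨l, hl⟩ := isConj_iff.1 h
  have hU : (F.A.subgroupOf F.L).map (MulAut.conj l).toMonoidHom ≤ centralizer ({F.bL} : Set F.L) := by
    rintro _ ⟨u, hu, rfl⟩
    rw [mem_centralizer_singleton_iff, ← hl]
    show l * u * l⁻¹ * (l * F.aL * l⁻¹) = l * F.aL * l⁻¹ * (l * u * l⁻¹)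
    rw [conj_mul, conj_mul]
    congr 2
    obtain ⟨m, hm, hmu⟩ := hu
    refine Subtype.ext ?_
    show u.1 * F.ψ aM = F.ψ aM * u.1
    rw [show u.1 = F.ψ m from hmu.symm, ← map_mul, ← map_mul, side_facts.2.1 m hm]
  have hUp : IsPGroup 2 ((F.A.subgroupOf F.L).map (MulAut.conj l).toMonoidHom) :=
    ((IsPGroup.of_card (n := 4) F.card_A).comap_of_injective _ F.L.subtype_injective).map _
  obtain ⟨k, -, hk⟩ := conj_into_side hM (Or.inr ⟨rfl, rfl⟩) side_facts.2.2.2.2.2.1 _ hUp hU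
  refine F.not_conj (g := (k * l : F.L).1) (k * l).2 fun a ha => ?_
  have := hk _ ⟨⟨a, F.A_le ha⟩, ha, rfl⟩
  convert this using 1
  show k.1 * l.1 * a * (k.1 * l.1)⁻¹ = k.1 * (l.1 * a * l.1⁻¹) * k.1⁻¹
  group

omit [Finite G] in
theorem not_conj_za : ¬ IsConj F.zL (aL F) := fun h => hM.2 (F.isConj_G_of_L h)

omit [Finite G] in
theorem not_conj_zb : ¬ IsConj F.zL (bL F) := fun h =>
  not_inF_two hM rep_spec.2.2.2.2.2.2.2.1 (F.isConj_G_of_L h)

theorem classes_L (u : F.L) (hu : orderOf u = 2) : IsConj F.zL u ∨ IsConj (aL F) u ∨ IsConj (bL F) u :=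
  F.invol_classes hM.1 u hu

theorem orders : orderOf (aL F) = 2 ∧ orderOf (bL F) = 2 :=
  ⟨F.orderOf_elL _ side_facts.2.2.2.2.2.2.2.2.1 side_facts.2.2.2.2.2.2.2.2.2.2.1,
    F.orderOf_elL _ side_facts.2.2.2.2.2.2.2.2.2.1 side_facts.2.2.2.2.2.2.2.2.2.2.2.1⟩

/-- an element of a conjugate class inside a side -/
theorem class_in_side {m : H0} (hm : inH1 m = true) :
    (inA m = true → inB m = false → IsConj (aL F) (F.elL m hm)) ∧
      (inB m = true → inA m = false → IsConj (bL F) (F.elL m hm)) := by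
  have key : inA m = true ∨ inB m = true → (inA m && inB m) = false → lab m = 2 := by
    intro h h'
    rcases lab_AB m (Bool.or_eq_true_iff.2 h) with e | e | e | e
    · exact absurd ((inter_AB m).2 (Or.inl e)) (by rw [h']; decide)
    · exact absurd ((inter_AB m).2 (Or.inr (Or.inl e))) (by rw [h']; decide)
    · exact absurd ((inter_AB m).2 (Or.inr (Or.inr e))) (by rw [h']; decide)
    · exact e
  constructor
  · intro h h'
    exact ((F.conj_L_lab_two m (key (Or.inl h) (by rw [h, h']; rfl)) hm).1 h).symm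
  · intro h h'
    exact ((F.conj_L_lab_two m (key (Or.inr h) (by rw [h, h']; rfl)) hm).2 h').symm

/-- Elements of the first class centralising the first representative, up to conjugation there. -/
theorem cent_a_invol {u : F.L} (hu : orderOf u = 2) (hc : u * F.aL = F.aL * u) :
    ∃ k, k * F.aL = F.aL * k ∧ ∃ m : H0, inA m = true ∧ ((k * u * k⁻¹ : F.L) : G) = F.ψ m := by
  obtain ⟨k, hk, hk'⟩ := conj_into_side hM (Or.inl ⟨rfl, rfl⟩) side_facts.2.2.2.2.1 (zpowers u)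
    (IsPGroup.of_card (n := 1) (by rw [Nat.card_zpowers, hu, pow_one]))
    (zpowers_le.2 (mem_centralizer_singleton_iff.2 hc))
  obtain ⟨m, hm, hme⟩ := hk' u (mem_zpowers u)
  exact ⟨k, mem_centralizer_singleton_iff.1 hk, m, hm, hme.symm⟩

theorem no_b_in_cent_a {u : F.L} (hu : IsConj (bL F) u) : u * F.aL ≠ F.aL * u := by
  intro hc
  have hu2 := order_two_of_conj (orders hM).2 hu
  obtain ⟨k, -, m, hm, he⟩ := cent_a_invol hM hu2 hc
  have hm1 : inH1 m = true := ((elementary_AB m).1 hm).2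
  have hcm : IsConj (bL F) (F.elL m hm1) :=
    hu.trans (isConj_iff.2 ⟨k, Subtype.ext he⟩)
  cases hB : inB m
  · exact not_conj_ab hM (((class_in_side hM hm1).1 hm hB).trans hcm.symm)
  · have hF : F.toSetting.InF m := inF_of_inter hM hm hB fun h => by
      have := order_two_of_conj (orders hM).2 hcm
      rw [show F.elL m hm1 = 1 from Subtype.ext ((congrArg F.ψ h).trans (map_one F.ψ)), orderOf_one] at this
      omega
    exact not_conj_zb hM ((F.isConj_L_of_G (u := F.elL m hm1) hF).trans hcm.symm)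

theorem no_a_in_cent_b {u : F.L} (hu : IsConj (aL F) u) : u * F.bL ≠ F.bL * u := by
  intro hc
  obtain ⟨l, hl⟩ := isConj_iff.1 hu
  refine no_b_in_cent_a hM (u := l⁻¹ * F.bL * l) (isConj_iff.2 ⟨l⁻¹, by rw [inv_inv]⟩) ?_
  rw [← hl] at hc
  calc l⁻¹ * F.bL * l * F.aL = l⁻¹ * (F.bL * (l * F.aL * l⁻¹)) * l := by group
    _ = l⁻¹ * (l * F.aL * l⁻¹ * F.bL) * l := by rw [← hc]
    _ = _ := by group

theorem card_cent_ab : Nat.card (centralizer ({F.bL} : Set F.L)) = Nat.card (centralizer ({F.aL} : Set F.L)) := by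
  obtain ⟨-, -, -, ⟨hne, hB, hA⟩, -⟩ := side_facts
  set b' := grM * aM * grM⁻¹
  have hb' : inH1 b' = true := ((elementary_AB b').2 hB).2
  obtain ⟨l, hl⟩ := isConj_iff.1 ((class_in_side hM hb').2 hB hA)
  haveI := F.normal
  let e : F.L ≃* F.L := MulAut.conjNormal (F.ψ grM)
  have he : e F.aL = F.elL b' hb' := Subtype.ext (by
    show F.ψ grM * F.ψ aM * (F.ψ grM)⁻¹ = F.ψ b'
    rw [map_mul, map_mul, map_inv])
  have h1 := card_class_mul F.bL
  have h2 := card_class_mul F.aL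
  refine Nat.card_congr (Equiv.subtypeEquiv ((MulAut.conj l).trans e.symm).toEquiv fun u => ?_)
  show u ∈ centralizer ({F.bL} : Set F.L) ↔ e.symm (MulAut.conj l u) ∈ centralizer ({F.aL} : Set F.L)
  rw [mem_centralizer_singleton_iff, mem_centralizer_singleton_iff]
  constructor
  · intro h
    apply e.injective
    rw [map_mul, map_mul, e.apply_symm_apply, he, ← hl, MulAut.conj_apply, conj_mul, conj_mul, h]
  · intro h
    have h' := congrArg e h
    rw [map_mul, map_mul, e.apply_symm_apply, he, ← hl, MulAut.conj_apply, conj_mul, conj_mul] at h'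
    exact mul_left_cancel (mul_right_cancel h')

end Frame

end Cfsg.Lib.AutThreeFour
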