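import Mathlib
import Cfsg.Agent.AutThreeFour.MCase

/-!
Counting in the case where only the four-group is fused.
-/

set_option autoImplicit false
set_option maxRecDepth 20000
set_option linter.style.haveILetI false

namespace Cfsg.Lib.AutThreeFour

open Subgroup Cfsg.Lib.HallJankoType Cfsg.Lib.InvolCalc

section General

variable {K : Type*} [Group K] [Finite K]

/-- counting pairs when all central involutions lie in one class -/
theorem pair_total {x y i : K}
    (h : ∀ p q, IsConj x p → IsConj y q → IsConj i (pairInvol p q)) :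
    Nat.card {p // IsConj x p} * Nat.card {q // IsConj y q} =
      Nat.card {u // IsConj i u} * Nat.card (PairSet x y i) := by
  classical
  letI := Fintype.ofFinite K
  let e : {p // IsConj x p} × {q // IsConj y q} ≃ Σ u : {u // IsConj i u}, PairSet x y u.1 :=
    { toFun := fun pq => ⟨⟨pairInvol pq.1.1 pq.2.1, h _ _ pq.1.2 pq.2.2⟩, ⟨(pq.1.1, pq.2.1), pq.1.2, pq.2.2, rfl⟩⟩
      invFun := fun s => (⟨s.2.1.1, s.2.2.1⟩, ⟨s.2.1.2, s.2.2.2.1⟩)
      left_inv := fun pq => rfl
      right_inv := fun s => by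
        obtain ⟨⟨u, hu⟩, ⟨p, q⟩, hp, hq, hpq⟩ := s
        dsimp only at hpq
        subst hpq
        rfl }
  rw [← Nat.card_prod, Nat.card_congr e, Nat.card_sigma,
    Finset.sum_congr rfl (fun u _ => (pairSet_card_conj x y u.2).symm), Finset.sum_const, Finset.card_univ,
    smul_eq_mul, Nat.card_eq_fintype_card (α := {u // IsConj i u})]

/-- splitting off the central involution of a product of order twice odd -/
theorem odd_half {x y a : K} (hy : y * y = 1) (hx : orderOf x = 2) (hyo : orderOf y = 2)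
    (hev : Even (orderOf (x * y))) (h4 : ¬ 4 ∣ orderOf (x * y)) (ha : pairInvol x y = a) :
    a * y = y * a ∧ a * a = 1 ∧ Odd (orderOf (x * (y * a))) := by
  obtain ⟨h2, -, hcy⟩ := central_spec hx hyo hev
  rw [pairInvol] at ha
  rw [ha] at h2 hcy
  have haa := sq_of_order_two h2
  obtain ⟨r, hr⟩ := hev
  have hhalf : orderOf (x * y) / 2 = r := by omega
  rw [hhalf] at ha
  have hrodd : Odd r := Nat.odd_iff.2 (Nat.two_dvd_ne_zero.1 fun ⟨s, hs⟩ => h4 ⟨s, by omega⟩)
  refine ⟨hcy, haa, hrodd.of_dvd_nat (orderOf_dvd_of_pow_eq_one ?_)⟩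
  have hcm : Commute (x * y) a := by rw [← ha]; exact Commute.self_pow _ _
  obtain ⟨s, hs⟩ := hrodd
  rw [← mul_assoc, hcm.mul_pow, ha, hs, pow_succ, pow_mul, pow_two, haa, one_pow, one_mul, haa]

/-- the central involution of a twisted product of odd order -/
theorem pairInvol_twist {x x' a : K} (ha : orderOf a = 2) (hax : a * x = x * a) (hax' : a * x' = x' * a)
    (hodd : Odd (orderOf (x * x'))) : pairInvol x (x' * a) = a := by
  have hcm : Commute (x * x') a := ((Commute.mul_right (hax : Commute a x) (hax' : Commute a x'))).symm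
  have ho : orderOf (x * (x' * a)) = orderOf (x * x') * 2 := by
    rw [← mul_assoc, hcm.orderOf_mul_eq_mul_orderOf_of_coprime (by rw [ha]; exact Nat.coprime_two_right.2 hodd), ha]
  rw [pairInvol, ho, Nat.mul_div_cancel _ two_pos, ← mul_assoc, hcm.mul_pow, pow_orderOf_eq_one, one_mul]
  obtain ⟨s, hs⟩ := hodd
  rw [hs, pow_succ, pow_mul, pow_two, sq_of_order_two ha, one_pow, one_mul]

theorem pairInvol_comm {x y : K} (hx : orderOf x = 2) (hy : orderOf y = 2) (hc : x * y = y * x) (hne : x ≠ y) :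
    pairInvol x y = x * y := by
  have h2 : orderOf (x * y) = 2 := order_two_of_mul_self (by
    rw [mul_assoc, ← mul_assoc y x, ← hc, mul_assoc x y y, sq_of_order_two hy, mul_one, sq_of_order_two hx])
    fun h => hne (by rw [← inv_of_order_two hy]; exact eq_inv_of_mul_eq_one_left h)
  rw [pairInvol, h2, Nat.div_self two_pos, pow_one]

end General

/-- the pairs from the two sides -/
def abList : List (H0 × H0) := ((members AMask).product (members BMask)).filter fun p =>
  !inB p.1 && !inA p.2 && decide (p.1 * p.2 * (p.1 * p.2) = zM)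

theorem abList_length : abList.length = 48 := by decide +kernel

theorem members_nodup (mask : ℕ) : (members mask).Nodup := by
  refine List.Nodup.filter _ ((List.nodup_finRange 768).map fun i j h => ?_)
  have := congrArg M.val h
  simp only [M.val, M.mk, Nat.mod_eq_of_lt i.isLt, Nat.mod_eq_of_lt j.isLt] at this
  exact Fin.ext this

theorem card_abList : Nat.card {p : H0 × H0 // inA p.1 = true ∧ inB p.1 = false ∧ inB p.2 = true ∧ inA p.2 = false ∧
    p.1 * p.2 * (p.1 * p.2) = zM} = 48 := by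
  classical
  have hn : abList.Nodup := ((members_nodup AMask).product (members_nodup BMask)).filter _
  rw [← abList_length, ← List.toFinset_card_of_nodup hn, ← Fintype.card_coe, ← Nat.card_eq_fintype_card]
  refine Nat.card_congr ((Equiv.refl _).subtypeEquiv fun p => ?_)
  simp only [abList, List.mem_toFinset, List.mem_filter, List.pair_mem_product, mem_members, Equiv.refl_apply,
    Bool.and_eq_true, Bool.not_eq_true', decide_eq_true_eq]
  obtain ⟨p1, p2⟩ := p
  simp only [List.pair_mem_product, mem_members]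
  exact ⟨fun ⟨a, b, c, d, e⟩ => ⟨⟨a, c⟩, ⟨b, d⟩, e⟩, fun ⟨⟨a, c⟩, ⟨b, d⟩, e⟩ => ⟨a, b, c, d, e⟩⟩

theorem side_order : (members AMask).all (fun x => (members BMask).all fun y => inB x || inA y ||
    (decide (x * y * (x * y) ≠ 1) && decide (x * y * (x * y) * (x * y * (x * y)) = 1))) = true := by decide +kernel

namespace Frame

variable {G : Type*} [Group G] [Finite G] {F : Frame G} (hM : F.OnlyFour)
include hM

omit [Finite G] hM in
theorem val_pairInvol (p q : F.L) : ((pairInvol p q : F.L) : G) = pairInvol (p : G) (q : G) := by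
  rw [pairInvol, pairInvol, ← Subgroup.orderOf_coe]
  rfl

omit [Finite G] in
theorem zclass_cent {u : F.L} (hu : IsConj F.zL u) (hc : u * F.zL = F.zL * u) :
    ∃ m : H0, inA m = true ∧ inB m = true ∧ inH1 m = true ∧ m ≠ 1 ∧ F.ψ m = u.1 := by
  obtain ⟨m, hm, he⟩ := F.cent_z u.2 (congrArg Subtype.val hc)
  have hF : F.toSetting.InF m := by
    show IsConj F.z (F.ψ m)
    rw [he]
    exact F.isConj_G_of_L hu
  exact ⟨m, (inF_inter hM hF).1, (inF_inter hM hF).2, hm, (F.toSetting.inF_invol hF).2, he⟩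

theorem zclass_prod {x y : F.L} (hx : IsConj F.zL x) (hy : IsConj F.zL y) (hc : x * y = y * x) (hne : x ≠ y) :
    IsConj F.zL (x * y) := by
  obtain ⟨l, hl⟩ := isConj_iff.1 hx.symm
  have hy' : IsConj F.zL (l * y * l⁻¹) := hy.trans (isConj_iff.2 ⟨l, rfl⟩)
  obtain ⟨m, mA, mB, mH, m1, me⟩ := zclass_cent hM hy' (by rw [← hl, conj_mul, conj_mul, hc])
  have hmz : m ≠ zM := by
    rintro rfl
    rw [F.map_z] at me
    have e : l * y * l⁻¹ = F.zL := Subtype.ext me.symm
    rw [← hl] at e
    exact hne (mul_left_cancel (mul_right_cancel e)).symm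
  have hzz := (zM_spec 0).1
  have hF : F.toSetting.InF (zM * m) := by
    refine inF_of_inter hM (A0.mul_mem gens_H1.1 mA) (B0.mul_mem gens_H1.2.1 mB) fun h => hmz ?_
    calc m = zM * (zM * m) := by rw [← mul_assoc, hzz, one_mul]
      _ = zM := by rw [h, mul_one]
  have h1 : IsConj F.zL (F.zL * (l * y * l⁻¹)) := F.isConj_L_of_G (by
    show IsConj F.z (F.z * (l * y * l⁻¹ : F.L).1)
    rw [← me, show F.z * F.ψ m = F.ψ (zM * m) by rw [map_mul, F.map_z]]
    exact hF)
  refine h1.trans (isConj_iff.2 ⟨l⁻¹, ?_⟩)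
  rw [← hl]
  group

theorem no_four {g : F.L} (hc : g * F.aL = F.aL * g) : ¬ 4 ∣ orderOf g := by
  intro h
  set u := g ^ (orderOf g / 4) with hu
  have h4 : orderOf u = 4 := by
    have hpos := orderOf_pos g
    rw [hu, orderOf_pow_of_dvd (Nat.div_pos (Nat.le_of_dvd hpos h) (by norm_num)).ne' (Nat.div_dvd_of_dvd h),
      Nat.div_div_self h hpos.ne']
  have hcu : u * F.aL = F.aL * u := (Commute.pow_left (hc : Commute g F.aL) _)
  obtain ⟨k, -, hk⟩ := conj_into_side hM (Or.inl ⟨rfl, rfl⟩) side_facts.2.2.2.2.1 (zpowers u)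
    (IsPGroup.of_card (n := 2) (by rw [Nat.card_zpowers, h4]; norm_num))
    (zpowers_le.2 (mem_centralizer_singleton_iff.2 hcu))
  have h1 := F.A_sq (hk u (mem_zpowers u))
  have h2 : orderOf (k * u * k⁻¹) ∣ 2 := orderOf_dvd_of_pow_eq_one (Subtype.ext (by rw [pow_two]; exact h1))
  rw [show orderOf (k * u * k⁻¹) = orderOf u from MulEquiv.orderOf_eq (MulAut.conj k) u, h4] at h2
  norm_num at h2

theorem ab_central {p q : F.L} (hp : IsConj (aL F) p) (hq : IsConj (bL F) q) : IsConj F.zL (pairInvol p q) := by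
  have p2 := order_two_of_conj (orders hM).1 hp
  have q2 := order_two_of_conj (orders hM).2 hq
  have hev := even_of_not_conj p2 q2 fun h => not_conj_ab hM ((hp.trans h).trans hq.symm)
  obtain ⟨h2, hcp, hcq⟩ := central_spec p2 q2 hev
  rcases classes_L hM (pairInvol p q) h2 with h | h | h
  · exact h
  · exfalso
    obtain ⟨l, hl⟩ := isConj_iff.1 h.symm
    refine no_b_in_cent_a hM (u := l * q * l⁻¹) (hq.trans (isConj_iff.2 ⟨l, rfl⟩)) ?_
    rw [← hl, conj_mul, conj_mul, show pairInvol p q * q = q * pairInvol p q from hcq]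
  · exfalso
    obtain ⟨l, hl⟩ := isConj_iff.1 h.symm
    refine no_a_in_cent_b hM (u := l * p * l⁻¹) (hp.trans (isConj_iff.2 ⟨l, rfl⟩)) ?_
    rw [← hl, conj_mul, conj_mul, show pairInvol p q * p = p * pairInvol p q from hcp]

omit [Finite G] in
theorem side_pairInvol {x y : H0} (hx : inA x = true) (hxB : inB x = false) (hy : inB y = true) (hyA : inA y = false) :
    pairInvol (F.ψ x) (F.ψ y) = F.ψ (x * y * (x * y)) := by
  have h := side_order
  simp only [List.all_eq_true, mem_members, Bool.or_eq_true, Bool.and_eq_true, decide_eq_true_eq] at h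
  obtain ⟨h2, h4⟩ := (h x hx y hy).resolve_left (by rw [hxB, hyA]; simp)
  have ho : orderOf (F.ψ x * F.ψ y) = 4 := by
    refine orderOf_eq_prime_pow (p := 2) (n := 1) ?_ ?_
    · rw [pow_one, pow_two, ← map_mul, ← map_mul]
      exact fun e => h2 (F.inj (e.trans (map_one _).symm))
    · rw [show (2 : ℕ) ^ (1 + 1) = 2 * 2 from rfl, pow_mul, pow_two, pow_two, ← map_mul, ← map_mul, ← map_mul, h4, map_one]
  rw [pairInvol, ho, show (4 : ℕ) / 2 = 2 from rfl, pow_two, ← map_mul, ← map_mul]

theorem card_pairs_z : Nat.card (PairSet (aL F) (bL F) F.zL) = 48 := by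
  rw [← card_abList]
  symm
  refine Nat.card_congr (Equiv.ofBijective (fun s => (⟨(F.elL s.1.1 ((elementary_AB _).1 s.2.1).2,
    F.elL s.1.2 ((elementary_AB _).2 s.2.2.2.1).2), ?_, ?_, ?_⟩ : PairSet (aL F) (bL F) F.zL)) ⟨?_, ?_⟩)
  · exact (class_in_side hM ((elementary_AB _).1 s.2.1).2).1 s.2.1 s.2.2.1
  · exact (class_in_side hM ((elementary_AB _).2 s.2.2.2.1).2).2 s.2.2.2.1 s.2.2.2.2.1
  · refine Subtype.ext ?_
    rw [val_pairInvol]
    show pairInvol (F.ψ s.1.1) (F.ψ s.1.2) = F.z
    rw [side_pairInvol hM s.2.1 s.2.2.1 s.2.2.2.1 s.2.2.2.2.1, s.2.2.2.2.2, F.map_z]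
  · intro s t h
    have h1 := congrArg (fun w : PairSet (aL F) (bL F) F.zL => (w.1.1.1, w.1.2.1)) h
    simp only [Prod.mk.injEq] at h1
    exact Subtype.ext (Prod.ext (F.inj h1.1) (F.inj h1.2))
  · rintro ⟨⟨p, q⟩, hp, hq, hpq⟩
    have p2 := order_two_of_conj (orders hM).1 hp
    have q2 := order_two_of_conj (orders hM).2 hq
    have hev := even_of_not_conj p2 q2 fun h => not_conj_ab hM ((hp.trans h).trans hq.symm)
    obtain ⟨-, hcp, hcq⟩ := central_spec p2 q2 hev
    dsimp only at hpq
    rw [pairInvol] at hpq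
    rw [hpq] at hcp hcq
    obtain ⟨m, hm, hme⟩ := F.cent_z p.2 (congrArg Subtype.val hcp.symm)
    obtain ⟨n, hn, hne⟩ := F.cent_z q.2 (congrArg Subtype.val hcq.symm)
    have hpe : p = F.elL m hm := Subtype.ext hme.symm
    have hqe : q = F.elL n hn := Subtype.ext hne.symm
    have hAB : ∀ {w : H0} (hw : inH1 w = true), orderOf (F.elL w hw) = 2 → inA w = true ∨ inB w = true := by
      intro w hw ho
      have h1 : F.ψ w * F.ψ w = 1 := congrArg Subtype.val (sq_of_order_two ho)
      have h2 := invol_H1 w hw (F.inj (by rw [map_mul, h1, map_one]))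
      exact Bool.or_eq_true_iff.1 h2
    have hnF : ∀ {w : H0} (hw : inH1 w = true) {c : F.L}, ¬ IsConj F.zL c → IsConj c (F.elL w hw) →
        orderOf (F.elL w hw) = 2 → ¬ (inA w = true ∧ inB w = true) := by
      intro w hw c hc hcw ho ⟨u1, u2⟩
      refine hc ((F.isConj_L_of_G (u := F.elL w hw) (inF_of_inter hM u1 u2 fun e => ?_)).trans hcw.symm)
      rw [show F.elL w hw = 1 from Subtype.ext ((congrArg F.ψ e).trans (map_one F.ψ)), orderOf_one] at ho
      omega
    rw [hpe] at hp p2
    rw [hqe] at hq q2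
    have hmA : inA m = true ∧ inB m = false := by
      have hn' := hnF hm (not_conj_za hM) hp p2
      rcases hAB hm p2 with h | h
      · exact ⟨h, Bool.eq_false_iff.2 fun e => hn' ⟨h, e⟩⟩
      · exact absurd (hp.trans ((class_in_side hM hm).2 h (Bool.eq_false_iff.2 fun e => hn' ⟨e, h⟩)).symm)
          (not_conj_ab hM)
    have hnB : inB n = true ∧ inA n = false := by
      have hn' := hnF hn (not_conj_zb hM) hq q2
      rcases hAB hn q2 with h | h
      · exact absurd (((class_in_side hM hn).1 h (Bool.eq_false_iff.2 fun e => hn' ⟨h, e⟩)).trans hq.symm)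
          (not_conj_ab hM)
      · exact ⟨h, Bool.eq_false_iff.2 fun e => hn' ⟨e, h⟩⟩
    refine ⟨⟨(m, n), hmA.1, hmA.2, hnB.1, hnB.2, F.inj ?_⟩, Subtype.ext (Prod.ext hpe.symm hqe.symm)⟩
    rw [← side_pairInvol hM hmA.1 hmA.2 hnB.1 hnB.2, hme, hne, ← val_pairInvol, F.map_z, pairInvol, hpq]
    rfl

theorem four_mul_card : 4 * Nat.card F.L = Nat.card (centralizer ({F.aL} : Set F.L)) ^ 2 := by
  have h := pair_total (i := F.zL) fun p q => ab_central hM (p := p) (q := q)
  rw [card_pairs_z hM] at h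
  have ha := card_class_mul F.aL
  have hb := card_class_mul F.bL
  have hz := card_class_mul F.zL
  rw [F.card_cent_zL] at hz
  rw [card_cent_ab hM] at hb
  set k := Nat.card (centralizer ({F.aL} : Set F.L))
  set lam := Nat.card F.L
  have hpos : 0 < lam := Nat.card_pos
  have : 48 * (4 * lam) * lam = 48 * k ^ 2 * lam := by
    calc 48 * (4 * lam) * lam = 192 * (lam * lam) := by ring
      _ = 192 * (Nat.card {x // IsConj F.aL x} * k * (Nat.card {x // IsConj F.bL x} * k)) := by rw [ha, hb]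
      _ = 192 * (k * k) * (Nat.card {x // IsConj F.aL x} * Nat.card {x // IsConj F.bL x}) := by ring
      _ = 192 * (k * k) * (Nat.card {x // IsConj F.zL x} * 48) := by rw [h]
      _ = 48 * k ^ 2 * (Nat.card {x // IsConj F.zL x} * 192) := by ring
      _ = _ := by rw [hz]
  have h' := Nat.eq_of_mul_eq_mul_right hpos this
  omega

theorem za_central {p q : F.L} (hp : IsConj F.zL p) (hq : IsConj (aL F) q) : IsConj (aL F) (pairInvol p q) := by
  have p2 := order_two_of_conj F.orderOf_zL hp
  have q2 := order_two_of_conj (orders hM).1 hq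
  have hev := even_of_not_conj p2 q2 fun h => not_conj_za hM ((hp.trans h).trans hq.symm)
  obtain ⟨h2, hcp, hcq⟩ := central_spec p2 q2 hev
  rcases classes_L hM (pairInvol p q) h2 with h | h | h
  · exfalso
    obtain ⟨l, hl⟩ := isConj_iff.1 h.symm
    have hp' : IsConj F.zL (l * p * l⁻¹) := hp.trans (isConj_iff.2 ⟨l, rfl⟩)
    obtain ⟨m, mA, mB, mH, m1, me⟩ := zclass_cent hM hp'
      (by rw [← hl, conj_mul, conj_mul, show pairInvol p q * p = p * pairInvol p q from hcp])
    obtain ⟨n, hn, hne⟩ := F.cent_z (l * q * l⁻¹ : F.L).2 (congrArg Subtype.val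
      (show l * q * l⁻¹ * F.zL = F.zL * (l * q * l⁻¹) by
        rw [← hl, conj_mul, conj_mul, show pairInvol p q * q = q * pairInvol p q from hcq]))
    have hcomm : m * n = n * m := by
      have hv : ∀ w : H0, (inA w && inB w) = true → ∀ x : H0, inH1 x = true → w * x = x * w := by
        intro w hw x hx
        rcases (inter_AB w).1 hw with rfl | rfl | h
        · rw [one_mul, mul_one]
        · exact (zM_spec 0).2.2 x
        · have key : ∀ w : H0, lab w = 1 → w = vM ∨ w = zM * vM := by decide +kernel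
          rcases key w h with rfl | rfl
          · exact ((cent_AB x).2.1 hx).symm
          · rw [mul_assoc, ← (cent_AB x).2.1 hx, ← mul_assoc, (zM_spec 0).2.2 x, mul_assoc]
      exact hv m (by rw [mA, mB]; rfl) n hn
    have hpq : p * q = q * p := by
      have : l * p * l⁻¹ * (l * q * l⁻¹) = l * q * l⁻¹ * (l * p * l⁻¹) := Subtype.ext (by
        show (l * p * l⁻¹ : F.L).1 * (l * q * l⁻¹ : F.L).1 = (l * q * l⁻¹ : F.L).1 * (l * p * l⁻¹ : F.L).1
        rw [← me, ← hne, ← map_mul, ← map_mul, hcomm])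
      rw [conj_mul, conj_mul] at this
      exact mul_left_cancel (mul_right_cancel this)
    have hne' : p ≠ q := fun e => not_conj_za hM (e ▸ hp |>.trans hq.symm)
    rw [pairInvol_comm p2 q2 hpq hne'] at h
    have hp3 : p ≠ p * q := fun e => ne_one_of_order_two q2 (mul_eq_left.1 e.symm)
    have := zclass_prod hM hp h (by rw [← mul_assoc, sq_of_order_two p2, one_mul, mul_assoc, ← hpq, ← mul_assoc, sq_of_order_two p2, one_mul]) hp3
    rw [← mul_assoc, sq_of_order_two p2, one_mul] at this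
    exact not_conj_za hM (this.trans hq.symm)
  · exact h
  · exfalso
    obtain ⟨l, hl⟩ := isConj_iff.1 h.symm
    refine no_a_in_cent_b hM (u := l * q * l⁻¹) (hq.trans (isConj_iff.2 ⟨l, rfl⟩)) ?_
    rw [← hl, conj_mul, conj_mul, show pairInvol p q * q = q * pairInvol p q from hcq]

/-- the fused involutions centralising the representative -/
abbrev Zk (F : Frame G) : Type _ := {x : F.L // IsConj F.zL x ∧ x * F.aL = F.aL * x}

theorem card_pairs_a : Nat.card (PairSet F.zL (aL F) (aL F)) =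
    Nat.card {p : Zk F × Zk F // Odd (orderOf (p.1.1 * p.2.1))} := by
  have ha2 := (orders hM).1
  have key : ∀ s : PairSet F.zL (aL F) (aL F), IsConj F.zL (s.1.2 * F.aL) ∧ s.1.1 * F.aL = F.aL * s.1.1 ∧
      s.1.2 * F.aL * F.aL = F.aL * (s.1.2 * F.aL) ∧ Odd (orderOf (s.1.1 * (s.1.2 * F.aL))) := by
    rintro ⟨⟨p, q⟩, hp, hq, hpq⟩
    have p2 := order_two_of_conj F.orderOf_zL hp
    have q2 := order_two_of_conj ha2 hq
    have hev := even_of_not_conj p2 q2 fun h => not_conj_za hM ((hp.trans h).trans hq.symm)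
    obtain ⟨-, hcp, -⟩ := central_spec p2 q2 hev
    dsimp only at hpq ⊢
    have hcp' : p * F.aL = F.aL * p := by
      rw [← hpq]; exact hcp.symm
    have hqa : q * F.aL = F.aL * q := by
      rw [← hpq]; exact (central_spec p2 q2 hev).2.2.symm
    obtain ⟨-, haa, hodd⟩ := odd_half (sq_of_order_two q2) p2 q2 hev (no_four hM
      (by rw [mul_assoc, hqa, ← mul_assoc, hcp', mul_assoc])) hpq
    have hne : q ≠ F.aL := by
      rintro rfl
      have hne' : p ≠ F.aL := fun e => not_conj_za hM (e ▸ hp)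
      rw [pairInvol_comm p2 ha2 hcp' hne', mul_eq_right] at hpq
      exact ne_one_of_order_two p2 hpq
    have h2 : orderOf (q * F.aL) = 2 := order_two_of_mul_self
      (by rw [mul_assoc, ← mul_assoc F.aL q, ← hqa, mul_assoc q F.aL F.aL, haa, mul_one, sq_of_order_two q2])
      fun e => hne (by rw [← inv_of_order_two ha2]; exact eq_inv_of_mul_eq_one_left e)
    obtain ⟨d, -, hd⟩ := conj_of_odd p2 h2 hodd
    exact ⟨hp.trans (isConj_iff.2 ⟨d, hd⟩), hcp', by rw [hqa, mul_assoc, hqa], hodd⟩
  refine Nat.card_congr (Equiv.ofBijective (fun s => (⟨(⟨s.1.1, s.2.1, (key s).2.1⟩,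
    ⟨s.1.2 * F.aL, (key s).1, (key s).2.2.1⟩), (key s).2.2.2⟩ : {p : Zk F × Zk F // Odd (orderOf (p.1.1 * p.2.1))})) ⟨?_, ?_⟩)
  · intro s t h
    have h1 := congrArg (fun w : {p : Zk F × Zk F // Odd (orderOf (p.1.1 * p.2.1))} => (w.1.1.1, w.1.2.1)) h
    simp only [Prod.mk.injEq] at h1
    exact Subtype.ext (Prod.ext h1.1 (mul_right_cancel h1.2))
  · rintro ⟨⟨⟨x, hx, hxa⟩, ⟨x', hx', hxa'⟩⟩, hodd⟩
    have haa := sq_of_order_two ha2
    have hqa : IsConj (aL F) (x' * F.aL) := by
      obtain ⟨l, hl⟩ := isConj_iff.1 hx'.symm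
      obtain ⟨n, hn, hne⟩ := F.cent_z (l * F.aL * l⁻¹ : F.L).2 (congrArg Subtype.val
        (show l * F.aL * l⁻¹ * F.zL = F.zL * (l * F.aL * l⁻¹) by rw [← hl, conj_mul, conj_mul, hxa']))
      have hne2 : l * F.aL * l⁻¹ = F.elL n hn := Subtype.ext hne.symm
      have hcl : IsConj (aL F) (F.elL n hn) := isConj_iff.2 ⟨l, hne2⟩
      have ho := order_two_of_conj ha2 hcl
      have hn1 : n * n = 1 := F.inj (by
        rw [map_mul, map_one]; exact congrArg Subtype.val (sq_of_order_two ho))
      have hn0 : n ≠ 1 := fun e => ne_one_of_order_two ho (Subtype.ext ((congrArg F.ψ e).trans (map_one F.ψ)))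
      have hlab : lab n = 2 := by
        rcases zero_or_lab hn1 hn hn0 with rfl | e | e
        · exact absurd (((F.elL_zM hn) ▸ hcl).symm) (not_conj_za hM)
        · exact absurd ((F.isConj_L_of_G (u := F.elL n hn) (F.toSetting.inF_of_lab hM.1 (by rw [rep_spec.2.2.2.2.2.1]; decide)
            (e.trans rep_spec.2.2.2.2.2.1.symm))).trans hcl.symm) (not_conj_za hM)
        · exact e
      have hnA : inA n = true := by
        by_contra hA
        exact not_conj_ab hM (hcl.trans ((F.conj_L_lab_two n hlab hn).2 (Bool.eq_false_iff.2 hA)))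
      have hnB : inB n = false := Bool.eq_false_iff.2 fun e =>
        not_inF_two hM hlab (inF_of_inter hM hnA e hn0)
      have hzn : inA (zM * n) = true ∧ inB (zM * n) = false := by
        refine ⟨A0.mul_mem gens_H1.1 hnA, Bool.eq_false_iff.2 fun e => ?_⟩
        have hmem : n ∈ B0 := (B0.mul_mem_cancel_left gens_H1.2.1).1 e
        rw [mem_maskSub] at hmem
        exact Bool.noConfusion (hnB.symm.trans hmem)
      have hzn1 : inH1 (zM * n) = true := ((elementary_AB _).1 hzn.1).2
      refine ((class_in_side hM hzn1).1 hzn.1 hzn.2).trans (isConj_iff.2 ⟨l⁻¹, ?_⟩)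
      have e : F.elL (zM * n) hzn1 = l * (x' * F.aL) * l⁻¹ := Subtype.ext (by
        show F.ψ (zM * n) = _
        rw [map_mul, F.map_z, hne]
        show F.zL.1 * (l * F.aL * l⁻¹ : F.L).1 = _
        rw [← Subgroup.coe_mul, ← hl, conj_mul])
      rw [e]
      group
    refine ⟨⟨(x, x' * F.aL), hx, hqa, pairInvol_twist ha2 hxa.symm hxa'.symm hodd⟩, ?_⟩
    refine Subtype.ext (Prod.ext rfl (Subtype.ext ?_))
    show x' * F.aL * F.aL = x'
    rw [mul_assoc, haa, mul_one]

theorem even_comm (x x' : Zk F) (h : ¬ Odd (orderOf (x.1 * x'.1))) : x.1 * x'.1 = x'.1 * x.1 ∧ x ≠ x' := by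
  obtain ⟨x, hx, hxa⟩ := x
  obtain ⟨x', hx', hxa'⟩ := x'
  have x2 := order_two_of_conj F.orderOf_zL hx
  have x2' := order_two_of_conj F.orderOf_zL hx'
  have hev : Even (orderOf (x * x')) := Nat.not_odd_iff_even.1 h
  have hne : x ≠ x' := by
    rintro rfl
    apply h
    show Odd (orderOf (x * x))
    rw [sq_of_order_two x2, orderOf_one]
    exact odd_one
  refine ⟨?_, fun e => hne (congrArg Subtype.val e)⟩
  obtain ⟨h2, hcx, hcx'⟩ := central_spec x2 x2' hev
  by_cases hz : IsConj F.zL (pairInvol x x')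
  · obtain ⟨l, hl⟩ := isConj_iff.1 hz.symm
    obtain ⟨m, mA, -, -, -, me⟩ := zclass_cent hM (u := l * x * l⁻¹) (hx.trans (isConj_iff.2 ⟨l, rfl⟩))
      (by rw [← hl, conj_mul, conj_mul, show pairInvol x x' * x = x * pairInvol x x' from hcx])
    obtain ⟨n, nA, -, -, -, ne⟩ := zclass_cent hM (u := l * x' * l⁻¹) (hx'.trans (isConj_iff.2 ⟨l, rfl⟩))
      (by rw [← hl, conj_mul, conj_mul, show pairInvol x x' * x' = x' * pairInvol x x' from hcx'])
    have hmn : m * n = n * m := by
      have h1 := ((elementary_AB _).1 (A0.mul_mem (mA : m ∈ A0) (nA : n ∈ A0))).1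
      have hm1 := ((elementary_AB _).1 mA).1
      have hn1 := ((elementary_AB _).1 nA).1
      exact (inv_eq_of_mul_eq_one_right h1).symm.trans (by
        rw [mul_inv_rev, inv_eq_of_mul_eq_one_right hm1, inv_eq_of_mul_eq_one_right hn1])
    have : l * x * l⁻¹ * (l * x' * l⁻¹) = l * x' * l⁻¹ * (l * x * l⁻¹) := Subtype.ext (by
      show (l * x * l⁻¹ : F.L).1 * (l * x' * l⁻¹ : F.L).1 = (l * x' * l⁻¹ : F.L).1 * (l * x * l⁻¹ : F.L).1
      rw [← me, ← ne, ← map_mul, ← map_mul, hmn])
    rw [conj_mul, conj_mul] at this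
    exact mul_left_cancel (mul_right_cancel this)
  · exfalso
    obtain ⟨hc, haa, hodd⟩ := odd_half (sq_of_order_two x2') x2 x2' hev
      (no_four hM (by rw [mul_assoc, hxa', ← mul_assoc, hxa, mul_assoc])) rfl
    have hne2 : x' ≠ pairInvol x x' := fun e => hz (e ▸ hx')
    have h2' : orderOf (x' * pairInvol x x') = 2 := order_two_of_mul_self
      (by rw [mul_assoc, ← mul_assoc (pairInvol x x') x', hc, mul_assoc x' (pairInvol x x') (pairInvol x x'), haa, mul_one,
        sq_of_order_two x2'])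
      fun e => hne2 ((eq_inv_of_mul_eq_one_left e).trans (inv_of_order_two h2))
    obtain ⟨d, -, hd⟩ := conj_of_odd x2 h2' hodd
    have hzc := hx.trans (isConj_iff.2 ⟨d, hd⟩)
    have := zclass_prod hM hx' hzc (by rw [mul_assoc x' (pairInvol x x') x', hc]) (fun e => ne_one_of_order_two h2 (mul_eq_left.1 e.symm))
    rw [← mul_assoc, sq_of_order_two x2', one_mul] at this
    exact hz this

theorem card_partners (x : Zk F) : Nat.card {x' : Zk F // x.1 * x'.1 = x'.1 * x.1 ∧ x ≠ x'} = 2 := by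
  obtain ⟨x, hx, hxa⟩ := x
  obtain ⟨l, hl⟩ := isConj_iff.1 hx
  obtain ⟨n, hn, hne⟩ := F.cent_z (l⁻¹ * F.aL * l : F.L).2 (congrArg Subtype.val
    (show l⁻¹ * F.aL * l * F.zL = F.zL * (l⁻¹ * F.aL * l) by
      have := hxa
      rw [← hl] at this
      calc _ = l⁻¹ * (F.aL * (l * F.zL * l⁻¹)) * l := by group
        _ = l⁻¹ * (l * F.zL * l⁻¹ * F.aL) * l := by rw [this]
        _ = _ := by group))
  have hvs : ∀ i : Fin 2, lab (![vM, zM * vM] i) = 1 ∧ inH1 (![vM, zM * vM] i) = true ∧ ![vM, zM * vM] i ≠ zM ∧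
      ![vM, zM * vM] i * zM = zM * ![vM, zM * vM] i := by decide +kernel
  have hvn : ∀ i : Fin 2, n * ![vM, zM * vM] i = ![vM, zM * vM] i * n := fun i => by
    have h0 := (cent_AB n).2.1 hn
    fin_cases i
    · exact h0
    · show n * (zM * vM) = zM * vM * n
      rw [← mul_assoc, ← (zM_spec 0).2.2 n, mul_assoc, h0, mul_assoc]
  let mk : Fin 2 → {x' : Zk F // x * x'.1 = x'.1 * x ∧ (⟨x, hx, hxa⟩ : Zk F) ≠ x'} := fun i =>
    ⟨⟨l * F.elL _ (hvs i).2.1 * l⁻¹, (F.isConj_L_of_G (u := F.elL _ (hvs i).2.1)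
        (F.toSetting.inF_of_lab hM.1 (by rw [rep_spec.2.2.2.2.2.1]; decide)
          ((hvs i).1.trans rep_spec.2.2.2.2.2.1.symm))).trans (isConj_iff.2 ⟨l, rfl⟩), by
      have ha : F.aL = l * F.elL n hn * l⁻¹ := by
        rw [show F.elL n hn = l⁻¹ * F.aL * l from Subtype.ext hne]; group
      rw [ha, conj_mul, conj_mul]
      congr 2
      exact Subtype.ext (by
        show F.ψ _ * F.ψ n = F.ψ n * F.ψ _
        rw [← map_mul, ← map_mul, hvn])⟩, by
      rw [← hl, conj_mul, conj_mul]
      congr 2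
      exact Subtype.ext (by
        show F.z * F.ψ _ = F.ψ _ * F.z
        rw [← F.map_z, ← map_mul, ← map_mul, (hvs i).2.2.2]), by
      intro e
      have h' := congrArg Subtype.val e
      dsimp only at h'
      rw [← hl] at h'
      exact (hvs i).2.2.1 (F.inj ((congrArg Subtype.val (mul_left_cancel (mul_right_cancel h'))).symm.trans F.map_z.symm))⟩
  rw [← Nat.card_fin 2]
  refine (Nat.card_congr (Equiv.ofBijective mk ⟨?_, ?_⟩)).symm
  · intro i j h
    have h' : l * F.elL _ (hvs i).2.1 * l⁻¹ = l * F.elL _ (hvs j).2.1 * l⁻¹ := congrArg (fun w => w.1.1) h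
    have h'' := F.inj (congrArg Subtype.val (mul_left_cancel (mul_right_cancel h')))
    fin_cases i <;> fin_cases j <;> first | rfl | (exfalso; revert h''; decide +kernel)
  · rintro ⟨⟨x', hx', hxa'⟩, hc, hne'⟩
    obtain ⟨m, mA, mB, mH, m1, me⟩ := zclass_cent hM (u := l⁻¹ * x' * l)
      (hx'.trans (isConj_iff.2 ⟨l⁻¹, by rw [inv_inv]⟩)) (by
        have := hc
        rw [← hl] at this
        calc l⁻¹ * x' * l * F.zL = l⁻¹ * (x' * (l * F.zL * l⁻¹)) * l := by group
          _ = l⁻¹ * (l * F.zL * l⁻¹ * x') * l := by rw [← this]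
          _ = _ := by group)
    have hmz : m ≠ zM := by
      rintro rfl
      rw [F.map_z] at me
      have e : l⁻¹ * x' * l = F.zL := Subtype.ext me.symm
      apply hne'
      refine Subtype.ext ?_
      show x = x'
      rw [← hl, ← e]
      group
    have key : ∀ m : H0, (inA m && inB m) = true → m ≠ 1 → m ≠ zM → ∃ i : Fin 2, ![vM, zM * vM] i = m := by
      decide +kernel
    obtain ⟨i, rfl⟩ := key m (by rw [mA, mB]; rfl) m1 hmz
    refine ⟨i, Subtype.ext (Subtype.ext ?_)⟩
    show l * F.elL _ (hvs i).2.1 * l⁻¹ = x'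
    rw [show F.elL _ (hvs i).2.1 = l⁻¹ * x' * l from Subtype.ext me]
    group

theorem card_odd_pairs : Nat.card {p : Zk F × Zk F // Odd (orderOf (p.1.1 * p.2.1))} + 2 * Nat.card (Zk F) =
    Nat.card (Zk F) * Nat.card (Zk F) := by
  classical
  letI := Fintype.ofFinite G
  have h1 : Nat.card {p : Zk F × Zk F // ¬ Odd (orderOf (p.1.1 * p.2.1))} = 2 * Nat.card (Zk F) := by
    have e : {p : Zk F × Zk F // ¬ Odd (orderOf (p.1.1 * p.2.1))} ≃
        Σ x : Zk F, {x' : Zk F // x.1 * x'.1 = x'.1 * x.1 ∧ x ≠ x'} :=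
      { toFun := fun p => ⟨p.1.1, p.1.2, even_comm hM p.1.1 p.1.2 p.2⟩
        invFun := fun s => ⟨(s.1, s.2.1), fun ho => by
          obtain ⟨hc, hne⟩ := s.2.2
          have a2 := order_two_of_conj F.orderOf_zL s.1.2.1
          have b2 := order_two_of_conj F.orderOf_zL s.2.1.2.1
          have : orderOf (s.1.1 * s.2.1.1) = 2 := order_two_of_mul_self (by
            rw [mul_assoc, ← mul_assoc s.2.1.1 s.1.1, ← hc, mul_assoc s.1.1 s.2.1.1, sq_of_order_two b2, mul_one,
              sq_of_order_two a2])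
            fun e => hne (Subtype.ext ((eq_inv_of_mul_eq_one_left e).trans (inv_of_order_two b2)))
          rw [this] at ho
          exact absurd ho (by decide)⟩
        left_inv := fun p => rfl
        right_inv := fun s => rfl }
    rw [Nat.card_congr e, Nat.card_sigma, Finset.sum_congr rfl (fun x _ => card_partners hM x), Finset.sum_const,
      Finset.card_univ, smul_eq_mul, mul_comm, Nat.card_eq_fintype_card]
  rw [← h1, ← Nat.card_sum, ← Nat.card_prod]
  exact Nat.card_congr (Equiv.sumCompl _)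

theorem card_Zk : ∃ c k', 1 ≤ c ∧ c ≤ 3 ∧ Nat.card (centralizer ({F.aL} : Set F.L)) = 16 * k' ∧
    Nat.card (Zk F) = c * k' := by
  classical
  letI := Fintype.ofFinite G
  set K := centralizer ({F.aL} : Set F.L)
  let W : Fin 3 → H0 := ![zM, vM, zM * vM]
  have hW : ∀ i, inA (W i) = true ∧ inB (W i) = true ∧ inH1 (W i) = true ∧ W i ≠ 1 ∧
      ∀ x : H0, inA x = true → x * W i = W i * x := by decide +kernel
  have hWK : ∀ i, F.elL (W i) (hW i).2.2.1 ∈ K := fun i => mem_centralizer_singleton_iff.2 (Subtype.ext (by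
    show F.ψ (W i) * F.ψ aM = F.ψ aM * F.ψ (W i)
    rw [← map_mul, ← map_mul, side_facts.2.1 _ (hW i).1]))
  let c : Fin 3 → K := fun i => ⟨_, hWK i⟩
  have hWz : ∀ i, IsConj F.zL (c i).1 := fun i =>
    F.isConj_L_of_G (inF_of_inter hM (hW i).1 (hW i).2.1 (hW i).2.2.2.1)
  have hcL : ∀ i, centralizer ({(c i).1} : Set F.L) = centralizer ({F.zL} : Set F.L) := by
    intro i
    refine (eq_of_le_of_card_ge (fun u hu => ?_) ?_).symm
    · obtain ⟨m, hm, hme⟩ := F.cent_z u.2 (congrArg Subtype.val (mem_centralizer_singleton_iff.1 hu))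
      rw [mem_centralizer_singleton_iff]
      refine Subtype.ext ?_
      show u.1 * F.ψ (W i) = F.ψ (W i) * u.1
      have hcomm : m * W i = W i * m := by
        have h0 := (cent_AB m).2.1 hm
        fin_cases i
        · exact ((zM_spec 0).2.2 m).symm
        · exact h0
        · show m * (zM * vM) = zM * vM * m
          rw [← mul_assoc, ← (zM_spec 0).2.2 m, mul_assoc, h0, mul_assoc]
      rw [← hme, ← map_mul, ← map_mul, hcomm]
    · have h1 := card_class_mul (c i).1
      have h2 := card_class_mul F.zL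
      have he : Nat.card {x // IsConj (c i).1 x} = Nat.card {x // IsConj F.zL x} :=
        Nat.card_congr ((Equiv.refl _).subtypeEquiv fun x => ⟨fun h => (hWz i).trans h, fun h => (hWz i).symm.trans h⟩)
      rw [he] at h1
      have : Nonempty {x // IsConj F.zL x} := ⟨⟨F.zL, IsConj.refl _⟩⟩
      exact (Nat.eq_of_mul_eq_mul_left Nat.card_pos (h1.trans h2.symm)).le
  have hstab : ∀ i, Nat.card (centralizer ({c i} : Set K)) = 16 := by
    intro i
    rw [← F.card_A]
    refine (Nat.card_congr (Equiv.ofBijective (fun a : F.A => (⟨⟨⟨a.1, F.A_le a.2⟩, ?_⟩, ?_⟩ :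
      centralizer ({c i} : Set K))) ⟨?_, ?_⟩)).symm
    · obtain ⟨m, hm, hme⟩ := a.2
      exact mem_centralizer_singleton_iff.2 (Subtype.ext (by
        show a.1 * F.ψ aM = F.ψ aM * a.1
        rw [← hme, ← map_mul, ← map_mul, side_facts.2.1 m hm]))
    · obtain ⟨m, hm, hme⟩ := a.2
      exact mem_centralizer_singleton_iff.2 (Subtype.ext (Subtype.ext (by
        show a.1 * F.ψ (W i) = F.ψ (W i) * a.1
        rw [← hme, ← map_mul, ← map_mul, (hW i).2.2.2.2 m hm])))
    · intro a b h
      exact Subtype.ext (congrArg (fun w : centralizer ({c i} : Set K) => w.1.1.1) h)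
    · rintro ⟨⟨u, hu⟩, huc⟩
      have h1 : u ∈ centralizer ({(c i).1} : Set F.L) :=
        mem_centralizer_singleton_iff.2 (congrArg Subtype.val (mem_centralizer_singleton_iff.1 huc))
      rw [hcL] at h1
      obtain ⟨m, hm, hme⟩ := F.cent_z u.2 (congrArg Subtype.val (mem_centralizer_singleton_iff.1 h1))
      have hma : m * aM = aM * m := F.inj (by
        rw [map_mul, map_mul, hme]
        exact congrArg Subtype.val (mem_centralizer_singleton_iff.1 hu))
      exact ⟨⟨u.1, hme ▸ F.mem_A.2 ((cent_AB m).1 hm hma)⟩, rfl⟩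
  set k' := Nat.card {x // IsConj (c 0) x}
  have hk : Nat.card K = 16 * k' := by rw [← card_class_mul (c 0), hstab 0, mul_comm]
  have hO : ∀ i, Nat.card {x // IsConj (c i) x} = k' := fun i => by
    have := card_class_mul (c i)
    rw [hstab i, hk] at this
    omega
  let O : Fin 3 → Finset F.L := fun i =>
    (Finset.univ.filter fun x : K => IsConj (c i) x).map ⟨Subtype.val, Subtype.val_injective⟩
  have hOc : ∀ i, (O i).card = k' := fun i => by
    rw [Finset.card_map, ← Fintype.card_subtype, ← Nat.card_eq_fintype_card, hO]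
  have heq : ∀ i j, O i = O j ∨ Disjoint (O i) (O j) := by
    intro i j
    by_cases h : IsConj (c i) (c j)
    · left
      exact congrArg (Finset.map _) (Finset.filter_congr fun x _ => ⟨fun hx => h.symm.trans hx, fun hx => h.trans hx⟩)
    · right
      rw [Finset.disjoint_left]
      intro x hx hx'
      simp only [O, Finset.mem_map, Finset.mem_filter, Finset.mem_univ, true_and, Function.Embedding.coeFn_mk] at hx hx'
      obtain ⟨u, hu, rfl⟩ := hx
      obtain ⟨u', hu', he⟩ := hx'
      exact h (hu.trans (Subtype.ext he ▸ hu').symm)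
  have hcard : Nat.card (Zk F) = (O 0 ∪ O 1 ∪ O 2).card := by
    rw [← Fintype.card_coe, ← Nat.card_eq_fintype_card]
    refine Nat.card_congr ((Equiv.refl _).subtypeEquiv fun x => ?_)
    simp only [O, Equiv.refl_apply, Finset.mem_union, Finset.mem_map, Finset.mem_filter, Finset.mem_univ, true_and,
      Function.Embedding.coeFn_mk]
    constructor
    · rintro ⟨hx, hxa⟩
      obtain ⟨k, hka, m, hmA, hme⟩ := cent_a_invol hM (order_two_of_conj F.orderOf_zL hx) hxa
      have hmF : F.toSetting.InF m := by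
        show IsConj F.z (F.ψ m)
        rw [← hme]
        exact F.isConj_G_of_L (hx.trans (isConj_iff.2 ⟨k, rfl⟩))
      obtain ⟨i, rfl⟩ : ∃ i, W i = m := by
        have key : ∀ m : H0, (inA m && inB m) = true → m ≠ 1 → ∃ i, W i = m := by decide +kernel
        exact key m (by rw [(inF_inter hM hmF).1, (inF_inter hM hmF).2]; rfl) (F.toSetting.inF_invol hmF).2
      have hxK : x ∈ K := mem_centralizer_singleton_iff.2 hxa
      have hc' : IsConj (c i) ⟨x, hxK⟩ := (isConj_iff.2 ⟨⟨k, mem_centralizer_singleton_iff.2 hka⟩,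
        Subtype.ext (Subtype.ext hme)⟩ : IsConj (⟨x, hxK⟩ : K) (c i)).symm
      fin_cases i
      · exact Or.inl (Or.inl ⟨_, hc', rfl⟩)
      · exact Or.inl (Or.inr ⟨_, hc', rfl⟩)
      · exact Or.inr ⟨_, hc', rfl⟩
    · have back : ∀ i, ∀ u : K, IsConj (c i) u → IsConj F.zL u.1 ∧ u.1 * F.aL = F.aL * u.1 := fun i u hu =>
        ⟨(hWz i).trans (K.subtype.map_isConj hu), mem_centralizer_singleton_iff.1 u.2⟩
      rintro ((⟨u, hu, rfl⟩ | ⟨u, hu, rfl⟩) | ⟨u, hu, rfl⟩)
      · exact back 0 u hu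
      · exact back 1 u hu
      · exact back 2 u hu
  rcases heq 0 1 with h01 | h01 <;> rcases heq 1 2 with h12 | h12
  · refine ⟨1, k', le_rfl, by norm_num, hk, ?_⟩
    rw [hcard, h01, h12, Finset.union_self, Finset.union_self, hOc, one_mul]
  · refine ⟨2, k', by norm_num, by norm_num, hk, ?_⟩
    rw [hcard, h01, Finset.union_self, Finset.card_union_of_disjoint h12, hOc, hOc, two_mul]
  · refine ⟨2, k', by norm_num, by norm_num, hk, ?_⟩
    rw [hcard, Finset.union_assoc, ← h12, Finset.union_self, Finset.card_union_of_disjoint h01, hOc, hOc, two_mul]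
  · rcases heq 0 2 with h02 | h02
    · refine ⟨2, k', by norm_num, by norm_num, hk, ?_⟩
      rw [hcard, Finset.union_right_comm, ← h02, Finset.union_self, Finset.card_union_of_disjoint h01, hOc, hOc, two_mul]
    · refine ⟨3, k', by norm_num, le_rfl, hk, ?_⟩
      rw [hcard, Finset.card_union_of_disjoint (Finset.disjoint_union_left.2 ⟨h02, h12⟩),
        Finset.card_union_of_disjoint h01, hOc, hOc, hOc]
      ring

theorem isSolvable_only_four : Group.IsSolvable G := by
  have h := pair_total (i := F.aL) fun p q => za_central hM (p := p) (q := q)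
  have hna : 0 < Nat.card {x // IsConj F.aL x} := by
    have : Nonempty {x // IsConj F.aL x} := ⟨⟨F.aL, IsConj.refl _⟩⟩
    exact Nat.card_pos
  rw [mul_comm] at h
  have hP := Nat.eq_of_mul_eq_mul_left hna h
  rw [card_pairs_a hM] at hP
  have hodd := card_odd_pairs hM
  rw [← hP] at hodd
  obtain ⟨c, k', hc1, hc3, hk, hm⟩ := card_Zk hM
  have h4 := four_mul_card hM
  have hz := card_class_mul F.zL
  rw [F.card_cent_zL] at hz
  rw [hk, ← hz] at h4
  rw [hm] at hodd
  have hk0 : 0 < k' := by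
    have := Nat.card_pos (α := centralizer ({F.aL} : Set F.L))
    omega
  set nz := Nat.card {x // IsConj F.zL x}
  have hn3 : 3 * nz = k' ^ 2 := by ring_nf at h4 ⊢; omega
  have hnz : nz = 3 := by
    interval_cases c
    · have e : 2 * (k' * k') = 6 * k' := by
        have : 3 * (nz + 2 * (1 * k')) = 3 * (1 * k' * (1 * k')) := by rw [hodd]
        ring_nf at this hn3 ⊢
        omega
      have hk3 : k' = 3 := by nlinarith
      rw [hk3] at hn3
      omega
    · exfalso
      have e : 11 * k' * k' = 12 * k' := by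
        have : 3 * (nz + 2 * (2 * k')) = 3 * (2 * k' * (2 * k')) := by rw [hodd]
        ring_nf at this hn3 ⊢
        omega
      have := Nat.eq_of_mul_eq_mul_right hk0 e
      omega
    · exfalso
      have e : 26 * k' * k' = 18 * k' := by
        have : 3 * (nz + 2 * (3 * k')) = 3 * (3 * k' * (3 * k')) := by rw [hodd]
        ring_nf at this hn3 ⊢
        omega
      have := Nat.eq_of_mul_eq_mul_right hk0 e
      omega
  refine isSolvable_of_three F.z ?_ ?_
  · refine Eq.trans ?_ hnz
    refine (Nat.card_congr (Equiv.ofBijective (fun u => (⟨u.1.1, F.isConj_G_of_L u.2⟩ : {x // IsConj F.z x})) ⟨?_, ?_⟩)).symm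
    · exact fun u v e => Subtype.ext (Subtype.ext (congrArg (fun w : {x // IsConj F.z x} => w.1) e))
    · rintro ⟨x, hx⟩
      obtain ⟨l, hl, rfl⟩ := F.conj_in_L hx
      exact ⟨⟨⟨_, F.L.mul_mem (F.L.mul_mem hl F.z_mem_L) (F.L.inv_mem hl)⟩, F.isConj_L_of_G hx⟩, rfl⟩
  · have hr := F.range_eq
    rw [← hr, Nat.card_congr (MonoidHom.ofInjective F.inj).toEquiv.symm, card_M]

end Frame

end Cfsg.Lib.AutThreeFour
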