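import Mathlib
import Cfsg.Agent.AutThreeFour.Iso
import Cfsg.Agent.AutThreeFour.Core
import Cfsg.Agent.AutThreeFour.MCount
import Cfsg.Agent.AutThreeFour.GroupSide
import Cfsg.Agent.AutThreeFour.AutPGL

/-!
Groups with the centraliser of an involution of the automorphism group of the plane of order four.
-/

set_option autoImplicit false
set_option maxRecDepth 20000
set_option linter.style.haveILetI false

namespace Cfsg.Lib.AutThreeFour

open Subgroup

theorem elementary_le_four {P : Type*} [Group P] [Finite P]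
    (h : ∀ A : Subgroup P, Cfsg.IsElementaryAbelian 2 A → Nat.card A ≠ 8) :
    ∀ A : Subgroup P, Cfsg.IsElementaryAbelian 2 A → Nat.card A ≤ 4 := by
  intro A hA
  haveI : Fact (Nat.Prime 2) := ⟨Nat.prime_two⟩
  have hp : IsPGroup 2 A := fun a => ⟨1, Subtype.ext (by simpa using hA.2 _ a.2)⟩
  obtain ⟨n, hn⟩ := IsPGroup.iff_card.1 hp
  by_contra hlt
  have h3 : 3 ≤ n := by
    by_contra h2
    have := Nat.pow_le_pow_right (show 0 < 2 by norm_num) (show n ≤ 2 by omega)
    omega
  obtain ⟨K, hK⟩ := Sylow.exists_subgroup_card_pow_prime 2 (n := 3) (G := A) (hn ▸ pow_dvd_pow 2 h3)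
  refine h (K.map A.subtype) ⟨⟨⟨?_⟩⟩, ?_⟩ (by rw [card_map_of_injective A.subtype_injective, hK]; norm_num)
  · rintro ⟨_, a, -, rfl⟩ ⟨_, b, -, rfl⟩
    exact Subtype.ext (show (a : P) * b = b * a from congrArg Subtype.val (hA.1.is_comm.comm a b))
  · rintro _ ⟨a, -, rfl⟩
    exact hA.2 _ a.2

theorem main {G : Type*} [Group G] [Finite G] (z : G) (hz : orderOf z = 2)
    (E : Subgroup ↥(centralizer ({z} : Set G))) [E.Normal] (hE : Cfsg.IsExtraspecial 2 ↥E)
    (hE32 : Nat.card ↥E = 32) (hminus : ∀ A : Subgroup ↥E, Cfsg.IsElementaryAbelian 2 A → Nat.card A ≤ 4)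
    (hCE : centralizer (E : Set ↥(centralizer ({z} : Set G))) ≤ E)
    (e : (↥(centralizer ({z} : Set G)) ⧸ E) ≃* Equiv.Perm (Fin 4)) (hns : ¬ Group.IsSolvable G) :
    Nonempty (G ≃* planeGroup) := by
  obtain ⟨ε, f, hf⟩ := exists_model E hE hE32 hminus hCE e
  let zC : ↥(centralizer ({z} : Set G)) := ⟨z, mem_centralizer_singleton_iff.2 rfl⟩
  have hzM : f zM = zC := by
    obtain ⟨m, hm⟩ := hf.2 zC
    have hcent : ∀ x, x * m = m * x := fun x => hf.1 (by
      rw [map_mul, map_mul, hm]
      exact Subtype.ext (mem_centralizer_singleton_iff.1 (f x).2))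
    rcases center_spec ε m (hcent _).symm (hcent _).symm (hcent _).symm with rfl | rfl
    · exfalso
      have : z = 1 := congrArg Subtype.val (hm.symm.trans (map_one f))
      rw [this, orderOf_one] at hz
      omega
    · exact hm
  let S : Setting ε G :=
    { z := z
      hz := hz
      ψ := (centralizer ({z} : Set G)).subtype.comp f
      inj := (centralizer ({z} : Set G)).subtype_injective.comp hf.1
      range_eq := by
        ext x
        refine ⟨?_, fun hx => ?_⟩
        · rintro ⟨m, rfl⟩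
          exact (f m).2
        · obtain ⟨m, hm⟩ := hf.2 ⟨x, hx⟩
          exact ⟨m, congrArg Subtype.val hm⟩
      map_z := congrArg Subtype.val hzM }
  have hC : Nat.card ↥(centralizer ({z} : Set G)) = 768 := by rw [← Nat.card_congr (Equiv.ofBijective f hf), card_M]
  by_cases hiso : ∀ g : G, Commute z (g * z * g⁻¹) → g * z * g⁻¹ = z
  · exact absurd (isSolvable_of_isolated z hz E hE32 hCE hC hiso) hns
  push Not at hiso
  obtain ⟨g, hg, hne⟩ := hiso
  obtain ⟨m, hm⟩ := S.mem_range (x := g * z * g⁻¹) hg.symm.eq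
  have hmF : S.InF m := by
    show IsConj z (S.ψ m)
    rw [hm]
    exact isConj_iff.2 ⟨g, rfl⟩
  have hmz : m ≠ zM := fun h => hne (by rw [← hm, h]; exact S.map_z)
  obtain rfl : ε = 0 := S.eps_zero hmF hmz
  obtain ⟨L, hLn, hLi, hLm, hLc⟩ := S.exists_index_four
  let F : Frame G := { toSetting := S, L := L, normal := hLn, index_L := hLi, mem_L := hLm, cover := hLc }
  -- the four-group is fused
  have hv : F.toSetting.InF vM := by
    have hlab : ∃ u, S.InF u ∧ lab u = 1 := by
      rcases S.inF_lab hmF with h | h | h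
      · exact absurd h hmz
      · exact ⟨m, hmF, h⟩
      · exact S.exists_lab_one hmF h
    obtain ⟨u, hu, hu1⟩ := hlab
    exact S.inF_of_lab hu (by omega) (rep_spec.2.2.2.2.2.1.trans hu1.symm)
  by_cases ha : F.toSetting.InF aM
  · exact F.iso_planeGroup ⟨hv, ha⟩
  · exact absurd (Frame.isSolvable_only_four (F := F) ⟨hv, ha⟩) hns

end Cfsg.Lib.AutThreeFour
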